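import Groth.Agent.BCLib.TensorQCoh
import Groth.Agent.QCohLib.FiniteType
import Groth.Agent.TildeD.TensorQCoh

/-!
# Tensor products of quasi-coherent modules of finite type
-/

set_option autoImplicit false
set_option backward.isDefEq.respectTransparency false
set_option backward.defeqAttrib.useBackward true

universe u

open CategoryTheory CategoryTheory.Limits AlgebraicGeometry TopologicalSpace

noncomputable section

namespace Groth.Agent.BCLib

open Groth.Agent.DCohLib Groth.Agent.TildeD

variable {R : CommRingCat.{u}}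

/-- An additive functor on modules preserving epimorphisms takes finite modules to finite modules if it
takes `R` to one. -/
theorem finite_obj_of_epi (H : ModuleCat.{u} R ⥤ ModuleCat.{u} R) [H.Additive] [H.PreservesEpimorphisms]
    [Module.Finite R (H.obj (ModuleCat.of R R))] (M : ModuleCat.{u} R) [Module.Finite R M] :
    Module.Finite R (H.obj M) := by
  classical
  obtain ⟨n, π, hπ⟩ := Module.Finite.exists_fin' R M
  let L := ModuleCat.of R (Fin n → R)
  haveI : Epi (ModuleCat.ofHom π : L ⟶ M) := (ModuleCat.epi_iff_surjective _).2 hπ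
  have hs : Function.Surjective (H.map (ModuleCat.ofHom π : L ⟶ M)).hom :=
    (ModuleCat.epi_iff_surjective _).1 inferInstance
  let inc : Fin n → (ModuleCat.of R R ⟶ L) := fun i => ModuleCat.ofHom (LinearMap.single R (fun _ => R) i)
  let pr : Fin n → (L ⟶ ModuleCat.of R R) := fun i => ModuleCat.ofHom (LinearMap.proj i)
  let s : (Fin n → H.obj (ModuleCat.of R R)) →ₗ[R] H.obj L :=
    ∑ i, (H.map (inc i)).hom ∘ₗ LinearMap.proj i
  have hid : 𝟙 L = ∑ i, pr i ≫ inc i := by
    ext x
    simp [pr, inc, L, ModuleCat.hom_sum, LinearMap.sum_apply]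
  have hsS : Function.Surjective s := fun y => ⟨fun i => (H.map (pr i)).hom y, by
    have h := congr($(congrArg H.map hid).hom y)
    rw [H.map_id, H.map_sum] at h
    simp only [ModuleCat.hom_sum, LinearMap.sum_apply, H.map_comp] at h
    simp only [s, LinearMap.sum_apply]
    exact h.symm⟩
  exact Module.Finite.of_surjective ((H.map (ModuleCat.ofHom π : L ⟶ M)).hom ∘ₗ s) (hs.comp hsS)

theorem finite_sections_tensor_tilde (F : (Spec R).Modules) [Coh.IsQCoh F]
    [hF : Module.Finite R (moduleSpecΓFunctor.obj F)] (N : ModuleCat.{u} R) [Module.Finite R N] :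
    Module.Finite R (moduleSpecΓFunctor.obj (((DCoh.tensorBi (X := Spec R)).obj F).obj (tilde N))) := by
  let Φ : ModuleCat.{u} R ⥤ (Spec R).Modules := tilde.functor R ⋙ (DCoh.tensorBi (X := Spec R)).obj F
  haveI : PreservesColimitsOfSize.{u, u} Φ := TildeKFlat.preservesColimits_tensTil_obj R F
  haveI : Φ.Additive := TildeKFlat.additive_tensTil_obj R F
  haveI : (moduleSpecΓFunctor (R := R)).Additive := tilde.adjunction.right_adjoint_additive
  let H : ModuleCat.{u} R ⥤ ModuleCat.{u} R := Φ ⋙ moduleSpecΓFunctor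
  have hq : ∀ M, Coh.IsQCoh (Φ.obj M) := fun M => isQCoh_tensorBi_tilde F inferInstance M
  haveI : H.PreservesEpimorphisms := ⟨fun {M M'} f _ => by
    haveI : Epi (Φ.map f) := inferInstance
    let S : ShortComplex (Spec R).Modules := ShortComplex.mk (kernel.ι (Φ.map f)) (Φ.map f) (kernel.condition _)
    have hS : S.ShortExact := ShortComplex.ShortExact.mk'
      (ShortComplex.exact_of_f_is_kernel _ (kernelIsKernel _)) inferInstance inferInstance
    rw [ModuleCat.epi_iff_surjective]
    exact QCohLib.app_surjective hS (QCohLib.isQCoh_X₁ hS (hq M) (hq M')) (isAffineOpen_top (Spec R))⟩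
  haveI : Module.Finite R (H.obj (ModuleCat.of R R)) :=
    @Module.Finite.equiv _ _ _ _ _ _ _ _ hF (moduleSpecΓFunctor.mapIso
      (((DCoh.tensorBi (X := Spec R)).obj F).mapIso tildeSelf ≪≫
        (Groth.Agent.ModTensor.tensorUnitRight (Spec R).sheaf).app F)).symm.toLinearEquiv
  exact finite_obj_of_epi H N

variable {X : Scheme.{u}}

/-- The tensor product of modules of finite type is of finite type. -/
theorem isFT_tensorMod (F G : X.Modules) [Coh.IsQCoh F] [Coh.IsQCoh G] (hF : CohB1.IsFT F)
    (hG : CohB1.IsFT G) : CohB1.IsFT (CohB1.tensorMod F G) := by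
  haveI := isQCoh_tensorMod F G
  refine QCohLib.isFiniteType_of_finite _ (fun W : X.affineOpens => W.1) (fun W => W.2)
    (iSup_affineOpens_eq_top X) fun W => ?_
  have hW : IsAffineOpen W.1 := W.2
  let j := hW.fromSpec
  have fin : ∀ (M : X.Modules) [Coh.IsQCoh M], CohB1.IsFT M →
      Module.Finite Γ(X, W.1) (moduleSpecΓFunctor.obj ((Scheme.Modules.pullback j).obj M)) := fun M _ hM => by
    haveI := QCohLib.finite_sections M hM hW
    exact Module.Finite.equiv ((QCohLib.topEquiv M hW).symm ≪≫ₗ
      (moduleSpecΓFunctor.mapIso ((Scheme.Modules.restrictFunctorIsoPullback j).app M)).toLinearEquiv)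
  haveI := fin F hF
  haveI := fin G hG
  haveI : Coh.IsQCoh ((Scheme.Modules.pullback j).obj F) := PullbackMod.isQCoh_pullback j F
  haveI : Coh.IsQCoh ((Scheme.Modules.pullback j).obj G) := PullbackMod.isQCoh_pullback j G
  obtain ⟨N, ⟨eN⟩⟩ := qcoh_exists_tilde Γ(X, W.1) ((Scheme.Modules.pullback j).obj G)
  haveI : Module.Finite Γ(X, W.1) N :=
    Module.Finite.equiv (moduleSpecΓFunctor.mapIso eN.symm ≪≫ (tilde.toTildeΓNatIso.app N).symm).toLinearEquiv
  haveI := finite_sections_tensor_tilde ((Scheme.Modules.pullback j).obj F) N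
  let e : (Scheme.Modules.restrictFunctor j).obj (tmod F G) ≅
      ((DCoh.tensorBi (X := Spec Γ(X, W.1))).obj ((Scheme.Modules.pullback j).obj F)).obj (tilde N) :=
    (Scheme.Modules.restrictFunctorIsoPullback j).app _ ≪≫ ((pullTensorBiIsoSch j).app F).app G ≪≫
      ((DCoh.tensorBi (X := Spec Γ(X, W.1))).obj _).mapIso eN.symm
  exact Module.Finite.equiv ((moduleSpecΓFunctor.mapIso e).toLinearEquiv.symm ≪≫ₗ
    QCohLib.topEquiv (tmod F G) hW)

end Groth.Agent.BCLib
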