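import Groth.Agent.TildeD.TensorQCoh
import Groth.Agent.DCohLib.TensorPull
import Groth.Agent.PullbackMod.Sections

/-!
# Tensor products of quasi-coherent modules on a scheme
-/

set_option autoImplicit false
set_option backward.isDefEq.respectTransparency false

universe u

open CategoryTheory CategoryTheory.Limits AlgebraicGeometry TopologicalSpace

noncomputable section

namespace Groth.Agent.BCLib

open Groth.Agent.DCohLib Groth.Agent.TildeD

variable {X : Scheme.{u}}

/-- The tensor product of quasi-coherent modules is quasi-coherent. -/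
theorem isQCoh_tmod (M N : X.Modules) [Coh.IsQCoh M] [Coh.IsQCoh N] : Coh.IsQCoh (tmod M N) := by
  have hex : ∀ x : X, ∃ W : X.Opens, IsAffineOpen W ∧ x ∈ W := fun x => by
    obtain ⟨W, hW, hx, -⟩ := Opens.isBasis_iff_nbhd.1 X.isBasis_affineOpens (Opens.mem_top x)
    exact ⟨W, hW, hx⟩
  choose W hW hxW using hex
  refine isQCoh_of_restrict _ W hW (eq_top_iff.mpr fun x _ => Opens.mem_iSup.mpr ⟨x, hxW x⟩) fun a => ?_
  let j := (hW a).fromSpec
  let e : (Scheme.Modules.restrictFunctor j).obj (tmod M N) ≅
      tmod ((Scheme.Modules.pullback j).obj M) ((Scheme.Modules.pullback j).obj N) :=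
    (Scheme.Modules.restrictFunctorIsoPullback j).app _ ≪≫ ((pullTensorBiIsoSch j).app M).app N
  exact isQCoh_of_iso' e.symm
    (TildeD.isQCoh_tensorBi _ _ (PullbackMod.isQCoh_pullback j M) (PullbackMod.isQCoh_pullback j N))

/-- The tensor product of quasi-coherent modules, in the form `CohB1.tensorMod`. -/
theorem isQCoh_tensorMod (M N : X.Modules) [Coh.IsQCoh M] [Coh.IsQCoh N] :
    Coh.IsQCoh (CohB1.tensorMod M N) :=
  isQCoh_tmod M N

end Groth.Agent.BCLib
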