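import Groth.Prelude.Def_ega3
import Groth.Agent.DCohLib.StalkTensor
import Groth.Agent.PullbackMod.Stalk
import Groth.Agent.TildeD.Exact
import Groth.Agent.BCLib.TensorQCoh

/-!
# The functor `M ↦ F ⊗ f^* M~`

It is linear, preserves colimits, takes quasi-coherent values, and preserves monomorphisms when `F`
is flat over the base.
-/

set_option autoImplicit false
set_option backward.isDefEq.respectTransparency false
set_option backward.defeqAttrib.useBackward true
set_option linter.style.haveILetI false

universe u

open CategoryTheory CategoryTheory.Limits AlgebraicGeometry TopologicalSpace Opposite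
open Groth.Agent.PullbackMod
open scoped TensorProduct

noncomputable section

namespace Groth.Agent.BCLib

open Groth.Agent.DCohLib

variable {X X' : Scheme.{u}}

theorem stalkLin_smulModΓ (N : X.Modules) (r : Γ(X, ⊤)) (x : X) (z : N.presheaf.stalk x) :
    stalkLin (Formal.smulModΓ N r) x z = X.presheaf.germ ⊤ x trivial r • z := by
  obtain ⟨U, hx, m, rfl⟩ := TopCat.Presheaf.exists_germ_eq N.presheaf z
  erw [stalkLin_germ]
  show N.presheaf.germ U x hx ((X.presheaf.map (homOfLE (le_top : U ≤ ⊤)).op r : Γ(X, U)) • m) = _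
  refine (PresheafOfModules.germ_smul (R := X.presheaf) N.val x U hx _ _).trans ?_
  exact congrArg (· • _) (X.presheaf.germ_res_apply (homOfLE (le_top : U ≤ ⊤)) x hx r)

/-- Inverse image of a multiplication. -/
theorem pullback_map_smulModΓ (g : X' ⟶ X) (M : X.Modules) [Coh.IsQCoh M] (r : Γ(X, ⊤)) :
    (Scheme.Modules.pullback g).map (Formal.smulModΓ M r) =
      Formal.smulModΓ ((Scheme.Modules.pullback g).obj M) (g.appTop r) := by
  refine hom_ext_stalk fun x' => ?_
  letI := (g.stalkMap x').hom.toAlgebra
  letI := Module.compHom (((Scheme.Modules.pullback g).obj M).presheaf.stalk x') (g.stalkMap x').hom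
  haveI : IsScalarTower (X.presheaf.stalk (g x')) (X'.presheaf.stalk x')
      (((Scheme.Modules.pullback g).obj M).presheaf.stalk x') := .of_algebraMap_smul fun _ _ => rfl
  refine (isBaseChange_pullStalkL g M x').algHom_ext _ _ fun t => ?_
  show stalkLin _ x' (pullStalk g M x' t) = stalkLin _ x' (pullStalk g M x' t)
  erw [pullStalk_natural, stalkLin_smulModΓ, stalkLin_smulModΓ, pullStalk_smul]
  refine congrArg (· • _) ?_
  exact (g.stalkMap x').hom.congr_arg rfl |>.trans (Scheme.Hom.germ_stalkMap_apply g ⊤ x' trivial r)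

/-- Tensoring a multiplication. -/
theorem tensorRightMod_map_smulModΓ (F N : X.Modules) (r : Γ(X, ⊤)) :
    (DCoh.tensorRightMod F).map (Formal.smulModΓ N r) =
      Formal.smulModΓ ((DCoh.tensorRightMod F).obj N) r := by
  refine hom_ext_stalk fun x => LinearMap.ext fun z => ?_
  obtain ⟨w, rfl⟩ := (stalkTensor x N F).surjective z
  refine (stalkTensor_natural_left x (N := F) (Formal.smulModΓ N r) w).trans ?_
  refine Eq.trans ?_ (stalkLin_smulModΓ _ r x _).symm
  rw [← map_smul]
  refine congrArg _ ?_
  induction w using TensorProduct.induction_on with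
  | zero => simp
  | tmul a b => rw [LinearMap.rTensor_tmul, stalkLin_smulModΓ, TensorProduct.smul_tmul']
  | add a b ha hb => simp only [map_add, smul_add, ha, hb]

/-- Multiplication on `M~`. -/
theorem tilde_map_smul {R : CommRingCat.{u}} (M : ModuleCat.{u} R) (a : R) :
    tilde.map (a • 𝟙 M) = Formal.smulModΓ (tilde M) ((Scheme.ΓSpecIso R).inv a) := by
  apply (tilde.adjunction.homEquiv _ _).injective
  rw [Adjunction.homEquiv_unit, Adjunction.homEquiv_unit]
  refine ModuleCat.hom_ext (LinearMap.ext fun m => ?_)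
  have h := congr($(tilde.toOpen_map_app (a • 𝟙 M) ⊤).hom m)
  refine h.trans ?_
  refine (map_smul (tilde.toOpen M ⊤).hom a m).trans ?_
  rfl

variable (A : Type u) [CommRing A] [X.Over (Spec (CommRingCat.of A))] (F : X.Modules)

instance additive_tilde {R : CommRingCat.{u}} : (tilde.functor R).Additive :=
  ⟨fun {M N f g} => tilde.map_add f g⟩

instance preservesColimits_tensorRightMod : PreservesColimitsOfSize.{u, u} (DCoh.tensorRightMod F) :=
  inferInstanceAs (PreservesColimitsOfSize.{u, u} ((ModSite.tensorBi X.sheaf).flip.obj F))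

instance preservesColimits_tensorAFunctor :
    PreservesColimitsOfSize.{u, u} (CohIII.tensorAFunctor A F) := by
  haveI : PreservesColimitsOfSize.{u, u} (tilde.functor (CommRingCat.of A)) :=
    tilde.adjunction.leftAdjoint_preservesColimits
  haveI : PreservesColimitsOfSize.{u, u} (Scheme.Modules.pullback (X ↘ Spec (CommRingCat.of A))) :=
    (Scheme.Modules.pullbackPushforwardAdjunction _).leftAdjoint_preservesColimits
  unfold CohIII.tensorAFunctor
  infer_instance

instance additive_tensorAFunctor : (CohIII.tensorAFunctor A F).Additive := by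
  haveI : PreservesColimitsOfSize.{0, 0} (CohIII.tensorAFunctor A F) := preservesColimitsOfSize_shrink _
  haveI : PreservesBinaryBiproducts (CohIII.tensorAFunctor A F) :=
    preservesBinaryBiproducts_of_preservesBinaryCoproducts _
  exact Functor.additive_of_preservesBinaryBiproducts _

variable {A}

theorem isQCoh_gen {R : CommRingCat.{u}} (f : X ⟶ Spec R) [Coh.IsQCoh F] (M : ModuleCat.{u} R) :
    Coh.IsQCoh ((DCoh.tensorRightMod F).obj ((Scheme.Modules.pullback f).obj (tilde M))) := by
  haveI : Coh.IsQCoh (tilde M) := TildeD.isQCoh_tilde M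
  haveI : Coh.IsQCoh ((Scheme.Modules.pullback f).obj (tilde M)) := PullbackMod.isQCoh_pullback _ _
  exact isQCoh_tmod _ F

theorem map_smul_id_gen {R : CommRingCat.{u}} (f : X ⟶ Spec R) (M : ModuleCat.{u} R) (a : R) :
    (DCoh.tensorRightMod F).map ((Scheme.Modules.pullback f).map (tilde.map (a • 𝟙 M))) =
      Formal.smulModΓ _ (f.appTop ((Scheme.ΓSpecIso R).inv a)) := by
  haveI : Coh.IsQCoh (tilde M) := TildeD.isQCoh_tilde M
  rw [tilde_map_smul, pullback_map_smulModΓ, tensorRightMod_map_smulModΓ]

theorem isQCoh_tensorAFunctor_obj [Coh.IsQCoh F] (M : ModuleCat.{u} A) :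
    Coh.IsQCoh ((CohIII.tensorAFunctor A F).obj M) :=
  isQCoh_gen (R := CommRingCat.of A) F (X ↘ Spec (CommRingCat.of A)) M

theorem tensorAFunctor_map_smul_id (M : ModuleCat.{u} A) (a : A) :
    (CohIII.tensorAFunctor A F).map (a • 𝟙 M) =
      Formal.smulMod A ((CohIII.tensorAFunctor A F).obj M) a :=
  map_smul_id_gen (R := CommRingCat.of A) F (X ↘ Spec (CommRingCat.of A)) M a

theorem tensorAFunctor_map_smul {M N : ModuleCat.{u} A} (f : M ⟶ N) (a : A) :
    (CohIII.tensorAFunctor A F).map (a • f) =
      (CohIII.tensorAFunctor A F).map f ≫ Formal.smulMod A ((CohIII.tensorAFunctor A F).obj N) a := by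
  rw [← tensorAFunctor_map_smul_id, ← Functor.map_comp, Linear.comp_smul, Category.comp_id]

section Algebra

variable {R S : Type u} [CommRing R] [CommRing S] [Algebra R S] {T P : Type u} [AddCommGroup T] [Module R T]
  [AddCommGroup P] [Module R P] [Module S P] [IsScalarTower R S P] (F : Type u) [AddCommGroup F] [Module R F]
  [Module S F] [IsScalarTower R S F]

/-- `T ⊗_R F → P ⊗_S F` for `P` under `T`. -/
def cancelMap (p : T →ₗ[R] P) : T ⊗[R] F →+ P ⊗[S] F :=
  TensorProduct.liftAddHom
    (AddMonoidHom.mk' (fun t => AddMonoidHom.mk' (fun a => p t ⊗ₜ[S] a) fun a b => TensorProduct.tmul_add _ a b)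
      fun t t' => AddMonoidHom.ext fun a => by
        simp only [AddMonoidHom.mk'_apply, AddMonoidHom.add_apply, map_add, TensorProduct.add_tmul])
    fun r t a => by
      simp only [AddMonoidHom.mk'_apply, map_smul]
      rw [← algebraMap_smul S r (p t), ← algebraMap_smul S r a, TensorProduct.smul_tmul]

theorem cancelMap_tmul (p : T →ₗ[R] P) (t : T) (a : F) : cancelMap (S := S) F p (t ⊗ₜ[R] a) = p t ⊗ₜ[S] a := rfl

theorem cancelMap_bijective {p : T →ₗ[R] P} (hp : IsBaseChange S p) :
    Function.Bijective (cancelMap (S := S) F p) := by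
  let E : T ⊗[R] F ≃+ P ⊗[S] F :=
    (TensorProduct.comm R T F).toAddEquiv.trans <|
      (TensorProduct.AlgebraTensorModule.cancelBaseChange R S S F T).symm.toAddEquiv.trans <|
        (hp.equiv.lTensor F).toAddEquiv.trans (TensorProduct.comm S F P).toAddEquiv
  have : (cancelMap (S := S) F p : _ → _) = E := funext fun z => by
    induction z using TensorProduct.induction_on with
    | zero => rw [map_zero, map_zero]
    | tmul t a =>
      simp [E, cancelMap_tmul, IsBaseChange.equiv_tmul]
    | add a b ha hb => rw [map_add, map_add, ha, hb]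
  rw [this]
  exact E.bijective

end Algebra

section Mono

variable {Y : Scheme.{u}} (g : X ⟶ Y)

theorem injective_stalk_tensor_pullback {T T' : Y.Modules} [Coh.IsQCoh T] [Coh.IsQCoh T'] (φ : T ⟶ T')
    (F : X.Modules) (x : X) (hF : FlatMod.IsFlatOverAt g F x)
    (hφ : Function.Injective (stalkLin φ (g x))) :
    Function.Injective (stalkLin ((DCoh.tensorRightMod F).map ((Scheme.Modules.pullback g).map φ)) x) := by
  let R := Y.presheaf.stalk (g x)
  let S := X.presheaf.stalk x
  letI : Algebra R S := (g.stalkMap x).hom.toAlgebra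
  letI : Module R (F.presheaf.stalk x) := FlatMod.moduleStalkOver g F x
  haveI : IsScalarTower R S (F.presheaf.stalk x) := .of_algebraMap_smul fun _ _ => rfl
  haveI : Module.Flat R (F.presheaf.stalk x) := hF
  let e : ∀ (T : Y.Modules) [Coh.IsQCoh T],
      T.presheaf.stalk (g x) ⊗[R] F.presheaf.stalk x →+
        (tmod ((Scheme.Modules.pullback g).obj T) F).presheaf.stalk x := fun T _ =>
    letI : Module R (((Scheme.Modules.pullback g).obj T).presheaf.stalk x) :=
      Module.compHom _ (g.stalkMap x).hom
    haveI : IsScalarTower R S (((Scheme.Modules.pullback g).obj T).presheaf.stalk x) :=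
      .of_algebraMap_smul fun _ _ => rfl
    (stalkTensor x ((Scheme.Modules.pullback g).obj T) F).toLinearMap.toAddMonoidHom.comp
      (cancelMap (S := S) (F.presheaf.stalk x) (pullStalkL g T x))
  have he : ∀ (T : Y.Modules) [Coh.IsQCoh T], Function.Bijective (e T) := fun T _ =>
    letI : Module R (((Scheme.Modules.pullback g).obj T).presheaf.stalk x) :=
      Module.compHom _ (g.stalkMap x).hom
    haveI : IsScalarTower R S (((Scheme.Modules.pullback g).obj T).presheaf.stalk x) :=
      .of_algebraMap_smul fun _ _ => rfl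
    (stalkTensor x _ F).bijective.comp (cancelMap_bijective _ (isBaseChange_pullStalkL g T x))
  intro z z' h
  obtain ⟨w, rfl⟩ := (he T).2 z
  obtain ⟨w', rfl⟩ := (he T).2 z'
  have hnat : ∀ w, stalkLin ((DCoh.tensorRightMod F).map ((Scheme.Modules.pullback g).map φ)) x (e T w) =
      e T' ((stalkLin φ (g x)).rTensor _ w) := fun w => by
    induction w using TensorProduct.induction_on with
    | zero => simp only [map_zero]
    | tmul t a =>
      show _ = stalkTensor x _ F (pullStalk g T' x (stalkLin φ (g x) t) ⊗ₜ[S] a)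
      rw [← pullStalk_natural]
      exact stalkTensor_natural_left x (N := F) ((Scheme.Modules.pullback g).map φ) (pullStalk g T x t ⊗ₜ[S] a)
    | add a b ha hb => simp only [map_add, ha, hb]
  rw [hnat, hnat] at h
  rw [Module.Flat.rTensor_preserves_injective_linearMap (M := F.presheaf.stalk x) (stalkLin φ (g x)) hφ
    ((he T').1 h)]

end Mono

theorem mono_gen {R : CommRingCat.{u}} (g : X ⟶ Spec R) (hF : FlatMod.IsFlatOver g F)
    {M N : ModuleCat.{u} R} (f : M ⟶ N) [Mono f] :
    Mono ((DCoh.tensorRightMod F).map ((Scheme.Modules.pullback g).map (tilde.map f))) := by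
  haveI : Coh.IsQCoh (tilde M) := TildeD.isQCoh_tilde M
  haveI : Coh.IsQCoh (tilde N) := TildeD.isQCoh_tilde N
  haveI : Mono (tilde.map f) := TildeD.mono_tilde_map f
  exact (mono_iff_stalk _).2 fun x => injective_stalk_tensor_pullback g (tilde.map f) F x (hF x)
    ((mono_iff_stalk _).1 inferInstance _)

theorem mono_tensorAFunctor_map (hF : FlatMod.IsFlatOver (X ↘ Spec (CommRingCat.of A)) F)
    {M N : ModuleCat.{u} A} (f : M ⟶ N) [Mono f] : Mono ((CohIII.tensorAFunctor A F).map f) :=
  mono_gen (R := CommRingCat.of A) F (X ↘ Spec (CommRingCat.of A)) hF f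

end Groth.Agent.BCLib
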