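import Groth.Agent.BCLib.Ker
import Groth.Agent.RpushLib.Finite

/-!
# Global sections of `F ⊗ f^* M~`
-/

set_option autoImplicit false
set_option backward.isDefEq.respectTransparency false
set_option backward.defeqAttrib.useBackward true

universe u

open CategoryTheory CategoryTheory.Limits AlgebraicGeometry TopologicalSpace Opposite TensorProduct
open Groth.Agent.CohBase

noncomputable section

namespace Groth.Agent.BCLib

theorem h0Γ_natural {Y : Scheme.{u}} {N N' : Y.Modules} (φ : N ⟶ N') (x : Γ(N, ⊤)) :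
    RpushLib.h0Γ N' (φ.app ⊤ x) =
      Sheaf.H.map ((SheafOfModules.toSheaf Y.ringCatSheaf).map φ) 0 (RpushLib.h0Γ N x) := by
  refine (HHEquiv N' 0).injective ?_
  refine ((HHEquiv N' 0).apply_symm_apply _).trans ?_
  refine Eq.trans ?_ (HEquiv_map ((SheafOfModules.toSheaf Y.ringCatSheaf).map φ) 0 _).symm
  refine Eq.trans ?_ (congrArg (hmap ⊤ ((SheafOfModules.toSheaf Y.ringCatSheaf).map φ) 0)
    ((HHEquiv N 0).apply_symm_apply ((H0Equiv ⊤ (Coh.toAb N)).symm x))).symm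
  exact (RpushLib.hmap_H0Equiv_symm ⊤ ((SheafOfModules.toSheaf Y.ringCatSheaf).map φ) x).symm

variable {A : Type u} [CommRing A] {X : Scheme.{u}} [X.Over (Spec (CommRingCat.of A))]

/-- `Γ(X, N) = H^0(X, N)` over the base. -/
def gammaH0 (N : X.Modules) : (CohIII.globalSectionsA A).obj N ≃ₗ[A] Coh.HH X N 0 where
  toFun x := RpushLib.h0Γ N x
  invFun x := (RpushLib.h0Γ N).symm x
  left_inv x := (RpushLib.h0Γ N).symm_apply_apply x
  right_inv x := (RpushLib.h0Γ N).apply_symm_apply x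
  map_add' x y := map_add (RpushLib.h0Γ N) x y
  map_smul' a x := RpushLib.h0Γ_smul N (Coh.toGlobal (X ↘ Spec (CommRingCat.of A)) a) x

theorem gammaH0_natural {N N' : X.Modules} (φ : N ⟶ N') (x : (CohIII.globalSectionsA A).obj N) :
    gammaH0 N' (((CohIII.globalSectionsA A).map φ).hom x) =
      Sheaf.H.map ((SheafOfModules.toSheaf X.ringCatSheaf).map φ) 0 (gammaH0 N x) :=
  h0Γ_natural φ x

theorem Cx.flat_quot_zero_of (L : Cx A) (hflat : Module.Flat A (L.X 0)) : Module.Flat A (L.X 0 ⧸ L.bd 0) :=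
  haveI := hflat
  Module.Flat.of_linearEquiv (Submodule.quotEquivOfEqBot (L.bd 0) rfl)

variable {F : X.Modules} (Φ : Model A X F)

/-- `M ↦ Γ(X, F ⊗ f^* M~)` is corepresentable. -/
def gammaCorepIso [Module.Finite A (Φ.L.X 0 ⧸ Φ.L.bd 0)] [Module.Projective A (Φ.L.X 0 ⧸ Φ.L.bd 0)]
    [Module.Finite A (Φ.L.X (0 + 1))] [Module.Projective A (Φ.L.X (0 + 1))] :
    CohIII.tensorAFunctor A F ⋙ CohIII.globalSectionsA A ≅
      (linearCoyoneda A (ModuleCat.{u} A)).obj (op (ModuleCat.of A (FlatCx.Qm (Φ.L.δ 0)))) :=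
  NatIso.ofComponents
    (fun M => LinearEquiv.toModuleIso
      (X₁ := (CohIII.globalSectionsA A).obj (tA A F M))
      (gammaH0 (tA A F M) ≪≫ₗ hhKer Φ 0 M ≪≫ₗ FlatCx.kerEquivHom (Φ.L.δ 0) M ≪≫ₗ
        (ModuleCat.homLinearEquiv (S := A) (M := ModuleCat.of A (FlatCx.Qm (Φ.L.δ 0))) (N := M)).symm))
    (fun {M N} g => by
      ext x
      apply ModuleCat.hom_ext
      refine Submodule.linearMap_qext _ (LinearMap.ext fun φ => ?_)
      show FlatCx.toHomDual _ N (hhKer Φ 0 N (gammaH0 (tA A F N)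
          (((CohIII.globalSectionsA A).map ((CohIII.tensorAFunctor A F).map g)).hom x))).1 φ =
        g.hom (FlatCx.toHomDual _ M (hhKer Φ 0 M (gammaH0 (tA A F M) x)).1 φ)
      rw [gammaH0_natural]
      erw [hhKer_natural Φ 0 g, FlatCx.toHomDual_lTensor]
      rfl)

/-- The corepresenting module of `Γ`. -/
theorem exists_gammaCorep [IsNoetherianRing A] [IsProper (X ↘ Spec (CommRingCat.of A))] (hF : Coh.IsCoh F)
    (hfl : FlatMod.IsFlatOver (X ↘ Spec (CommRingCat.of A)) F) :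
    ∃ Q : ModuleCat.{u} A, Module.Finite A Q ∧
      Nonempty (CohIII.tensorAFunctor A F ⋙ CohIII.globalSectionsA A ≅
        (linearCoyoneda A (ModuleCat.{u} A)).obj (op Q)) := by
  obtain ⟨Φ⟩ := nonempty_model hF hfl
  haveI := Φ.finite 0
  haveI := Φ.finite (0 + 1)
  haveI := Φ.L.flat_quot_zero_of (Φ.flat 0)
  haveI := Φ.flat (0 + 1)
  haveI : Module.FinitePresentation A (Φ.L.X 0 ⧸ Φ.L.bd 0) := Module.finitePresentation_of_finite A _
  haveI : Module.FinitePresentation A (Φ.L.X (0 + 1)) := Module.finitePresentation_of_finite A _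
  haveI : Module.Projective A (Φ.L.X 0 ⧸ Φ.L.bd 0) := Module.Flat.projective_of_finitePresentation
  haveI : Module.Projective A (Φ.L.X (0 + 1)) := Module.Flat.projective_of_finitePresentation
  haveI : Module.Finite A (Module.Dual A (Φ.L.X 0 ⧸ Φ.L.bd 0)) := inferInstance
  exact ⟨ModuleCat.of A (FlatCx.Qm (Φ.L.δ 0)), inferInstanceAs (Module.Finite A (FlatCx.Qm (Φ.L.δ 0))),
    ⟨gammaCorepIso Φ⟩⟩

end Groth.Agent.BCLib
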