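import Groth.Agent.BCLib.RpushSec
import Groth.Agent.DCohLib.SuppOpen

/-!
# Higher direct images and the dimensions of the cohomology of the fibres
-/

set_option autoImplicit false
set_option backward.isDefEq.respectTransparency false
set_option backward.defeqAttrib.useBackward true
set_option linter.style.haveILetI false

universe u

open CategoryTheory CategoryTheory.Limits AlgebraicGeometry TopologicalSpace Opposite TensorProduct

noncomputable section

namespace Groth.Agent.BCLib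

/-- A quasi-coherent module vanishes near a point outside the support of its sections. -/
theorem exists_isZero_restrict {Y : Scheme.{u}} (M : Y.Modules) [Coh.IsQCoh M] {W : Y.Opens}
    (hW : IsAffineOpen W) {y : Y} (hy : y ∈ W) [Module.Finite Γ(Y, W) Γ(M, W)]
    (h : hW.primeIdealOf ⟨y, hy⟩ ∉ Module.support Γ(Y, W) Γ(M, W)) :
    ∃ U : Y.Opens, y ∈ U ∧ IsZero (M.restrict U.ι) := by
  let S : Set W := {z | hW.primeIdealOf z ∉ Module.support Γ(Y, W) Γ(M, W)}
  have hS : IsOpen S :=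
    Module.isClosed_support.isOpen_compl.preimage hW.isoSpec.hom.continuous
  obtain ⟨U0, hU0, hU0S⟩ : ∃ U0 : Set Y, IsOpen U0 ∧ (Subtype.val : W → Y) ⁻¹' U0 = S :=
    isOpen_induced_iff.1 hS
  refine ⟨⟨U0, hU0⟩ ⊓ W, ⟨(Set.ext_iff.1 hU0S ⟨y, hy⟩).2 h, hy⟩, DCohLib.isZero_of_stalks fun z => ?_⟩
  let U : Y.Opens := ⟨U0, hU0⟩ ⊓ W
  have hz : U.ι z ∈ W := z.2.2
  have hns : hW.primeIdealOf ⟨U.ι z, hz⟩ ∉ Module.support Γ(Y, W) Γ(M, W) :=
    (Set.ext_iff.1 hU0S ⟨U.ι z, hz⟩).1 z.2.1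
  letI := Module.compHom (M.presheaf.stalk (U.ι z)) (Y.presheaf.germ W (U.ι z) hz).hom
  haveI := FlatLocus.isLocalizedModule_germL M hW (U.ι z) hz
  rw [Module.notMem_support_iff'] at hns
  have hs : Subsingleton (M.presheaf.stalk (U.ι z)) := by
    refine ⟨fun a b => ?_⟩
    have h0 : ∀ c : M.presheaf.stalk (U.ι z), c = 0 := fun c => by
      obtain ⟨⟨m, s⟩, hms⟩ := IsLocalizedModule.surj (hW.primeIdealOf ⟨U.ι z, hz⟩).asIdeal.primeCompl
        (FlatLocus.germL M W (U.ι z) hz) c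
      obtain ⟨r, hr, hrm⟩ := hns m
      have h0 : FlatLocus.germL M W (U.ι z) hz m = 0 :=
        (IsLocalizedModule.eq_zero_iff (hW.primeIdealOf ⟨U.ι z, hz⟩).asIdeal.primeCompl _).2 ⟨⟨r, hr⟩, hrm⟩
      rw [h0] at hms
      exact (IsLocalizedModule.smul_inj (FlatLocus.germL M W (U.ι z) hz) s c 0).1 (hms.trans (smul_zero s).symm)
    rw [h0 a, h0 b]
  exact ((Scheme.Modules.restrictStalkNatIso U.ι z).app M).addCommGroupIsoToAddEquiv.toEquiv.subsingleton_congr.2 hs

variable {X Y : Scheme.{u}} (f : X ⟶ Y) [IsProper f] [IsLocallyNoetherian Y] [HasInjectiveResolutions X.Modules]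
  {F : X.Modules}

omit [HasInjectiveResolutions X.Modules] in
theorem exists_affine_mem (y : Y) : ∃ (W : Y.Opens) (hW : IsAffineOpen W) (hy : y ∈ W), True := by
  obtain ⟨_, ⟨W : Y.Opens, (hW : IsAffineOpen W), rfl⟩, hyW, -⟩ :=
    Y.isBasis_affineOpens.exists_subset_of_mem_open (Set.mem_univ y) isOpen_univ
  exact ⟨W, hW, hyW, trivial⟩

/-- Higher direct images vanish near a point whose fibre has no cohomology in that degree. -/
theorem exists_isZero_rpush (hF : Coh.IsCoh F) (hfl : FlatMod.IsFlatOver f F) (p : ℕ) (y : Y)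
    (h : CohIII.fiberRank f F p y = 0) :
    ∃ U : Y.Opens, y ∈ U ∧ IsZero (((Coh.Rpush f p).obj F).restrict U.ι) := by
  haveI : Coh.IsQCoh F := hF.1
  obtain ⟨W, hW, hy, -⟩ := exists_affine_mem y
  letI : (f ⁻¹ᵁ W : Scheme.{u}).Over (Spec (CommRingCat.of Γ(Y, W))) := ⟨restOver f hW⟩
  haveI := RpushLib.isQCoh_rpush f (M := F) p
  haveI : IsNoetherianRing Γ(Y, W) := IsLocallyNoetherian.component_noetherian ⟨W, hW⟩
  haveI := QCohLib.finite_sections_of_isCoh (RpushLib.isCoh_rpush f hF p) hW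
  obtain ⟨Φ⟩ := nonempty_fibModel_restOver f hW hF hfl
  obtain ⟨e⟩ := nonempty_rpush_sections f (M := F) p hW
  refine exists_isZero_restrict _ hW hy ?_
  rw [e.support_eq]
  refine notMem_support_HH_of_fiberRank_eq_zero Φ p _ ?_
  refine (fiberRank_restOver f hW F p _).trans ?_
  rw [hW.fromSpec_primeIdealOf]
  exact h

/-- The key criterion: flat cokernels on every affine open give local freeness of rank the fibre dimension. -/
theorem isFinLocFree_rpush_of (hF : Coh.IsCoh F) (hfl : FlatMod.IsFlatOver f F) (p : ℕ)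
    (h : ∀ (W : Y.Opens) (hW : IsAffineOpen W),
      letI : (f ⁻¹ᵁ W : Scheme.{u}).Over (Spec (CommRingCat.of Γ(Y, W))) := ⟨restOver f hW⟩
      ∀ Φ : FibModel Γ(Y, W) (f ⁻¹ᵁ W : Scheme.{u}) (restMod f F),
        Module.Flat Γ(Y, W) (Φ.L.X p ⧸ Φ.L.bd p) ∧
          Module.Flat Γ(Y, W) (Φ.L.X (p + 1) ⧸ Φ.L.bd (p + 1))) :
    FlatMod.IsFinLocFree ((Coh.Rpush f p).obj F) ∧
      ∀ y : Y, ∃ U : Y.Opens, y ∈ U ∧
        Nonempty (((Coh.Rpush f p).obj F).restrict U.ι ≅ FlatMod.freeMod (↑U) (CohIII.fiberRank f F p y)) := by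
  haveI : Coh.IsQCoh F := hF.1
  haveI := RpushLib.isQCoh_rpush f (M := F) p
  refine isFinLocFree_and_free_nhd _ (CohIII.fiberRank f F p) fun {W} hW => ?_
  letI : (f ⁻¹ᵁ W : Scheme.{u}).Over (Spec (CommRingCat.of Γ(Y, W))) := ⟨restOver f hW⟩
  haveI : IsNoetherianRing Γ(Y, W) := IsLocallyNoetherian.component_noetherian ⟨W, hW⟩
  obtain ⟨Φ⟩ := nonempty_fibModel_restOver f hW hF hfl
  obtain ⟨h0, h1⟩ := h W hW Φ
  obtain ⟨e⟩ := nonempty_rpush_sections f (M := F) p hW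
  obtain ⟨e'⟩ := nonempty_HH_equiv_kerδ Φ.toModel p
  haveI := flat_kerδ Φ.toModel p h0 h1
  refine ⟨Module.Flat.of_linearEquiv (e ≪≫ₗ e'),
    QCohLib.finite_sections_of_isCoh (RpushLib.isCoh_rpush f hF p) hW, fun q => ?_⟩
  refine ((e.baseChange Γ(Y, W) q.asIdeal.ResidueField _ _).finrank_eq).trans ?_
  exact (fdim_HH_eq_fiberRank Φ p h1 q).trans (fiberRank_restOver f hW F p q)

/-- Grauert's theorem. -/
theorem isFinLocFree_rpush_of_isLocallyConstant [IsReduced Y] (hF : Coh.IsCoh F)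
    (hfl : FlatMod.IsFlatOver f F) (p : ℕ) (hconst : IsLocallyConstant (CohIII.fiberRank f F p)) :
    FlatMod.IsFinLocFree ((Coh.Rpush f p).obj F) ∧
      ∀ y : Y, ∃ U : Y.Opens, y ∈ U ∧
        Nonempty (((Coh.Rpush f p).obj F).restrict U.ι ≅ FlatMod.freeMod (↑U) (CohIII.fiberRank f F p y)) := by
  haveI : Coh.IsQCoh F := hF.1
  refine isFinLocFree_rpush_of f hF hfl p fun W hW => ?_
  letI : (f ⁻¹ᵁ W : Scheme.{u}).Over (Spec (CommRingCat.of Γ(Y, W))) := ⟨restOver f hW⟩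
  intro Φ
  haveI : IsNoetherianRing Γ(Y, W) := IsLocallyNoetherian.component_noetherian ⟨W, hW⟩
  refine Φ.L.flat_quot_of_kdim_isLocallyConstant Φ.finite Φ.flat p ?_
  have he : (fun x : PrimeSpectrum Γ(Y, W) => FlatCx.kdim (Φ.L.δ p) x.asIdeal.ResidueField) =
      CohIII.fiberRank f F p ∘ hW.fromSpec :=
    funext fun x => (Φ.fiberRank_eq p x).symm.trans (fiberRank_restOver f hW F p x)
  rw [he]
  exact hconst.comp_continuous hW.fromSpec.continuous

/-- Fibre cohomology in a single degree gives a locally free direct image in that degree. -/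
theorem isFinLocFree_rpush_of_concentrated (hF : Coh.IsCoh F) (hfl : FlatMod.IsFlatOver f F) (p : ℕ)
    (hz : ∀ (y : Y) (i : ℕ), i ≠ p → CohIII.fiberRank f F i y = 0) :
    FlatMod.IsFinLocFree ((Coh.Rpush f p).obj F) ∧
      ∀ y : Y, ∃ U : Y.Opens, y ∈ U ∧
        Nonempty (((Coh.Rpush f p).obj F).restrict U.ι ≅ FlatMod.freeMod (↑U) (CohIII.fiberRank f F p y)) := by
  haveI : Coh.IsQCoh F := hF.1
  refine isFinLocFree_rpush_of f hF hfl p fun W hW => ?_
  letI : (f ⁻¹ᵁ W : Scheme.{u}).Over (Spec (CommRingCat.of Γ(Y, W))) := ⟨restOver f hW⟩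
  intro Φ
  haveI : IsNoetherianRing Γ(Y, W) := IsLocallyNoetherian.component_noetherian ⟨W, hW⟩
  have hk : ∀ i, i ≠ p → ∀ x : PrimeSpectrum Γ(Y, W), FlatCx.kdim (Φ.L.δ i) x.asIdeal.ResidueField = 0 :=
    fun i hi x => (Φ.fiberRank_eq i x).symm.trans ((fiberRank_restOver f hW F i x).trans (hz _ i hi))
  have hC : ∀ i, i ≠ p → Module.Flat Γ(Y, W) (Φ.L.X (i + 1) ⧸ Φ.L.bd (i + 1)) := fun i hi => by
    haveI := Φ.finite i; haveI := Φ.finite (i + 1); haveI := Φ.flat (i + 1)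
    haveI : Module.FinitePresentation Γ(Y, W) (Φ.L.X (i + 1)) := Module.finitePresentation_of_finite _ _
    haveI := flat_coker_of_kdim_eq_zero (Φ.L.δ i) (hk i hi)
    exact Module.Flat.of_linearEquiv (Submodule.quotEquivOfEq _ _ (Φ.L.range_δ i)).symm
  have h1 : Module.Flat Γ(Y, W) (Φ.L.X (p + 1) ⧸ Φ.L.bd (p + 1)) := by
    refine Φ.L.flat_quot_step (p + 1) (Φ.flat (p + 1 + 1)) (hC (p + 1) (by omega)) ?_
    haveI := Φ.finite (p + 1); haveI := Φ.finite (p + 1 + 1); haveI := Φ.flat (p + 1 + 1)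
    haveI : Module.FinitePresentation Γ(Y, W) (Φ.L.X (p + 1 + 1)) := Module.finitePresentation_of_finite _ _
    haveI : Subsingleton (LinearMap.ker (Φ.L.δ (p + 1))) := by
      rw [← Module.support_eq_empty_iff (R := Γ(Y, W)), Set.eq_empty_iff_forall_notMem]
      exact fun x => notMem_support_ker_of_kdim_eq_zero _ x (hk (p + 1) (by omega) x)
    infer_instance
  refine ⟨?_, h1⟩
  cases p with
  | zero => exact Φ.L.flat_quot_zero (Φ.flat 0)
  | succ i => exact hC i (by omega)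

/-- Vanishing of the higher direct images makes the direct image locally free. -/
theorem isFinLocFree_rpush_of_isZero_above (hF : Coh.IsCoh F) (hfl : FlatMod.IsFlatOver f F) (p : ℕ)
    (hz : ∀ i, p < i → FlatMod.IsFinLocFree ((Coh.Rpush f i).obj F))
    (hp : ∀ (W : Y.Opens) (hW : IsAffineOpen W),
      letI : (f ⁻¹ᵁ W : Scheme.{u}).Over (Spec (CommRingCat.of Γ(Y, W))) := ⟨restOver f hW⟩
      ∀ Φ : FibModel Γ(Y, W) (f ⁻¹ᵁ W : Scheme.{u}) (restMod f F),
        Module.Flat Γ(Y, W) (Φ.L.X p ⧸ Φ.L.bd p)) :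
    FlatMod.IsFinLocFree ((Coh.Rpush f p).obj F) ∧
      ∀ y : Y, ∃ U : Y.Opens, y ∈ U ∧
        Nonempty (((Coh.Rpush f p).obj F).restrict U.ι ≅ FlatMod.freeMod (↑U) (CohIII.fiberRank f F p y)) := by
  haveI : Coh.IsQCoh F := hF.1
  refine isFinLocFree_rpush_of f hF hfl p fun W hW => ?_
  letI : (f ⁻¹ᵁ W : Scheme.{u}).Over (Spec (CommRingCat.of Γ(Y, W))) := ⟨restOver f hW⟩
  intro Φ
  refine ⟨hp W hW Φ, ?_⟩
  haveI : IsNoetherianRing Γ(Y, W) := IsLocallyNoetherian.component_noetherian ⟨W, hW⟩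
  obtain ⟨N, hN⟩ := Φ.bounded
  refine Φ.L.flat_quot_of_flat_kerδ Φ.flat hN (N + 1) (p + 1) (by omega) fun i hi => ?_
  haveI := RpushLib.isQCoh_rpush f (M := F) i
  haveI := PullbackMod.flat_sections_of_flat_stalks ((Coh.Rpush f i).obj F) hW
    fun x => PullbackMod.isFlat_of_isFinLocFree _ (hz i (by omega)) x
  obtain ⟨e⟩ := nonempty_rpush_sections f (M := F) i hW
  obtain ⟨e'⟩ := nonempty_HH_equiv_kerδ Φ.toModel i
  exact Module.Flat.of_linearEquiv (e ≪≫ₗ e').symm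

/-- If the direct images above degree `p` are locally free and that in degree `p` is too, the rank is the
fibre dimension. -/
theorem fiberRank_eq_fibreRank_rpush (hF : Coh.IsCoh F) (hfl : FlatMod.IsFlatOver f F) (p : ℕ)
    (hz : ∀ i, p < i → FlatMod.IsFinLocFree ((Coh.Rpush f i).obj F)) (y : Y) :
    PullbackMod.fibreRank ((Coh.Rpush f p).obj F) y = CohIII.fiberRank f F p y := by
  haveI : Coh.IsQCoh F := hF.1
  haveI := RpushLib.isQCoh_rpush f (M := F) p
  obtain ⟨W, hW, hy, -⟩ := exists_affine_mem y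
  letI : (f ⁻¹ᵁ W : Scheme.{u}).Over (Spec (CommRingCat.of Γ(Y, W))) := ⟨restOver f hW⟩
  obtain ⟨Φ⟩ := nonempty_fibModel_restOver f hW hF hfl
  have h1 : Module.Flat Γ(Y, W) (Φ.L.X (p + 1) ⧸ Φ.L.bd (p + 1)) := by
    obtain ⟨N, hN⟩ := Φ.bounded
    refine Φ.L.flat_quot_of_flat_kerδ Φ.flat hN (N + 1) (p + 1) (by omega) fun i hi => ?_
    haveI := RpushLib.isQCoh_rpush f (M := F) i
    haveI := PullbackMod.flat_sections_of_flat_stalks ((Coh.Rpush f i).obj F) hW
      fun x => PullbackMod.isFlat_of_isFinLocFree _ (hz i (by omega)) x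
    obtain ⟨e⟩ := nonempty_rpush_sections f (M := F) i hW
    obtain ⟨e'⟩ := nonempty_HH_equiv_kerδ Φ.toModel i
    exact Module.Flat.of_linearEquiv (e ≪≫ₗ e').symm
  obtain ⟨e⟩ := nonempty_rpush_sections f (M := F) p hW
  rw [PullbackMod.fibreRank_eq _ hW y hy,
    (e.baseChange Γ(Y, W) (hW.primeIdealOf ⟨y, hy⟩).asIdeal.ResidueField _ _).finrank_eq]
  have h2 := (fdim_HH_eq_fiberRank Φ p h1 (hW.primeIdealOf ⟨y, hy⟩)).trans (fiberRank_restOver f hW F p _)
  rw [hW.fromSpec_primeIdealOf] at h2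
  exact h2

/-- All direct images locally free: the fibre dimensions are locally constant. -/
theorem isLocallyConstant_fiberRank (hF : Coh.IsCoh F) (hfl : FlatMod.IsFlatOver f F)
    (hlf : ∀ i, FlatMod.IsFinLocFree ((Coh.Rpush f i).obj F)) (p : ℕ) :
    IsLocallyConstant (CohIII.fiberRank f F p) := by
  haveI : Coh.IsQCoh F := hF.1
  haveI := RpushLib.isQCoh_rpush f (M := F) p
  have he : CohIII.fiberRank f F p = PullbackMod.fibreRank ((Coh.Rpush f p).obj F) :=
    funext fun y => (fiberRank_eq_fibreRank_rpush f hF hfl p (fun i _ => hlf i) y).symm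
  rw [he]
  exact PullbackMod.isFinLocFree_isLocallyConstant _ (hlf p)

/-- A fibre with zero dimensional cohomology has none. -/
theorem subsingleton_fiberH_of_fiberRank_eq_zero (hF : Coh.IsCoh F) (hfl : FlatMod.IsFlatOver f F) (p : ℕ) (y : Y)
    (h : CohIII.fiberRank f F p y = 0) : Subsingleton (CohIII.fiberH f F y p) := by
  haveI := finite_fiberH f hF hfl p y
  exact Module.finrank_zero_iff.1 h

end Groth.Agent.BCLib
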