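import Groth.Agent.BCLib.ModPow
import Groth.Agent.BCLib.Gamma
import Groth.Agent.BCLib.Grauert
import Groth.Agent.DevLib.Closed
import Groth.Agent.FlatCx.ArtinRees
import Groth.Agent.PullbackMod.FibreLocus

/-!
# Functions near a fibre with only constant functions
-/

set_option autoImplicit false
set_option backward.isDefEq.respectTransparency false
set_option backward.defeqAttrib.useBackward true
set_option linter.style.haveILetI false

universe u

open CategoryTheory CategoryTheory.Limits AlgebraicGeometry TopologicalSpace Opposite TensorProduct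
open Groth.Agent.CohBase Groth.Agent.ProjCoh Groth.Agent.FormalLib

noncomputable section

namespace Groth.Agent.BCLib

/-- A free module of rank one is the structure module. -/
def freeModOneIso (X : Scheme.{u}) : FlatMod.freeMod X 1 ≅ Coh.structureModule X where
  hom := Sigma.desc fun _ => 𝟙 _
  inv := Sigma.ι (fun _ : Fin 1 => Coh.structureModule X) 0
  hom_inv_id := Sigma.hom_ext _ _ fun i => by
    obtain rfl : i = 0 := Subsingleton.elim _ _
    simp
  inv_hom_id := by simp

theorem isFinLocFree_structureModule (X : Scheme.{u}) : FlatMod.IsFinLocFree (Coh.structureModule X) := fun x =>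
  ⟨⊤, 1, trivial, ⟨(Scheme.Modules.restrictFunctorIsoPullback (⊤ : X.Opens).ι).app _ ≪≫
    pullUnit (⊤ : X.Opens).ι ≪≫ (freeModOneIso _).symm⟩⟩

theorem isFlatOver_structureModule {X Y : Scheme.{u}} (f : X ⟶ Y) [Flat f] :
    FlatMod.IsFlatOver f (Coh.structureModule X) := fun x => by
  haveI : Coh.IsQCoh (Coh.structureModule Y) := (DevLib.isCoh_structureModule Y).1
  have h0 : FlatMod.IsFlatOverAt (𝟙 Y) (Coh.structureModule Y) (f x) := by
    have hmod : FlatMod.moduleStalkOver (𝟙 Y) (Coh.structureModule Y) (f x) =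
        FlatMod.moduleStalk (Coh.structureModule Y) (f x) := by
      apply Module.ext
      funext r m
      show (Scheme.Hom.stalkMap (𝟙 Y) (f x)) r • m = _
      rw [Scheme.Hom.stalkMap_id]
      rfl
    unfold FlatMod.IsFlatOverAt
    rw [hmod]
    exact PullbackMod.isFlat_of_isFinLocFree _ (isFinLocFree_structureModule Y) (f x)
  have h1 := (PullbackMod.isFlatOverAt_pullback_comp_iff f (𝟙 Y) (Coh.structureModule Y) x
    (Flat.stalkMap f x)).2 h0
  have h2 := PullbackMod.isFlatOverAt_of_iso (pullUnit f) (f ≫ 𝟙 Y) x h1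
  rw [Category.comp_id] at h2
  exact h2

theorem finrank_fiberH_zero {X Y : Scheme.{u}} (f : X ⟶ Y) (y : Y)
    (hy : Function.Bijective (algebraMap (Y.residueField y) Γ(f.fiber y, ⊤))) :
    CohIII.fiberRank f (Coh.structureModule X) 0 y = 1 := by
  letI : (f.fiber y).Over (Spec (CommRingCat.of (Y.residueField y))) := ⟨f.fiberToSpecResidueField y⟩
  let e : (CohIII.globalSectionsA (Y.residueField y)).obj (Coh.structureModule (f.fiber y)) ≃ₗ[Y.residueField y]
      Coh.HH (f.fiber y) ((Scheme.Modules.pullback (f.fiberι y)).obj (Coh.structureModule X)) 0 :=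
    gammaH0 (Coh.structureModule (f.fiber y)) ≪≫ₗ (hhEquivL (pullUnit (f.fiberι y)) 0).symm
  let one : (CohIII.globalSectionsA (Y.residueField y)).obj (Coh.structureModule (f.fiber y)) := (1 : Γ(f.fiber y, ⊤))
  have hsm : ∀ c : Y.residueField y, c • one =
      (algebraMap (Y.residueField y) Γ(f.fiber y, ⊤) c : Γ(f.fiber y, ⊤)) := fun c => by
    show (Coh.toGlobal (f.fiberToSpecResidueField y) c : Γ(f.fiber y, ⊤)) * 1 = _
    rw [mul_one]
    rfl
  haveI : Nontrivial Γ(f.fiber y, ⊤) := hy.1.nontrivial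
  refine (e.finrank_eq).symm.trans (finrank_eq_one one (fun h => one_ne_zero (α := Γ(f.fiber y, ⊤)) h) fun w => ?_)
  obtain ⟨c, hc⟩ := hy.2 w
  exact ⟨c, (hsm c).trans hc⟩

/-- A vector in a free module which is not in `p Q` is non-zero in the fibre at `p`. -/
theorem tmul_residue_ne_zero {A Q : Type u} [CommRing A] [AddCommGroup Q] [Module A Q] [Module.Finite A Q]
    [Module.Projective A Q] (p : PrimeSpectrum A) (x : Q) (hx : x ∉ p.asIdeal • (⊤ : Submodule A Q)) :
    x ⊗ₜ[A] (1 : p.asIdeal.ResidueField) ≠ 0 ∧ ∃ φ : Q →ₗ[A] A, φ x ∉ p.asIdeal := by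
  classical
  obtain ⟨r, f, hf⟩ := Module.Finite.exists_fin' A Q
  obtain ⟨s, hs⟩ := Module.projective_lifting_property f LinearMap.id hf
  have h1 : ∃ i, s x i ∉ p.asIdeal := by
    by_contra h
    push Not at h
    apply hx
    rw [show x = f (s x) from (LinearMap.congr_fun hs x).symm, pi_eq_sum_univ (s x), map_sum]
    refine Submodule.sum_mem _ fun i _ => ?_
    rw [map_smul]
    exact Submodule.smul_mem_smul (h i) trivial
  obtain ⟨i, hi⟩ := h1
  refine ⟨fun h0 => hi ?_, ⟨LinearMap.proj i ∘ₗ s, hi⟩⟩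
  have := congrArg ((TensorProduct.lid A p.asIdeal.ResidueField).toLinearMap ∘ₗ (LinearMap.proj i ∘ₗ s).rTensor p.asIdeal.ResidueField) h0
  rw [map_zero, LinearMap.comp_apply, LinearMap.rTensor_tmul] at this
  have h2 : algebraMap A p.asIdeal.ResidueField (s x i) = 0 := by
    rw [Algebra.algebraMap_eq_smul_one]
    exact this
  exact Ideal.algebraMap_residueField_eq_zero.1 h2

/-- Near a prime where `δ` has one dimensional fibre kernel, `ker δ` is free on `x`. -/
theorem exists_bijective_away {A Q P : Type u} [CommRing A] [IsNoetherianRing A] [AddCommGroup Q] [Module A Q]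
    [Module.Finite A Q] [Module.Projective A Q] [AddCommGroup P] [Module A P] [Module.Finite A P]
    [Module.Flat A P] (δ : Q →ₗ[A] P) (p : PrimeSpectrum A) (x : Q) (hx0 : δ x = 0)
    (hx : x ∉ p.asIdeal • (⊤ : Submodule A Q))
    (hk : FlatCx.kdim δ p.asIdeal.ResidueField = 1) :
    ∃ g : A, g ∉ p.asIdeal ∧ (∀ a : A, a • x = 0 → g * a = 0) ∧ ∀ z, δ z = 0 → ∃ a : A, g • z = a • x := by
  obtain ⟨hx1, φ, hφ⟩ := tmul_residue_ne_zero p x hx
  let K := p.asIdeal.ResidueField
  let N := Submodule.span A {x}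
  haveI : Module.FinitePresentation A P := Module.finitePresentation_of_finite A _
  let δ' : (Q ⧸ N) →ₗ[A] P := N.liftQ δ (by rw [Submodule.span_le, Set.singleton_subset_iff]; exact hx0)
  have hxK : (1 : K) ⊗ₜ[A] x ≠ 0 := fun h => hx1 (by
    have := congrArg (TensorProduct.comm A K Q) h
    rwa [TensorProduct.comm_tmul, map_zero] at this)
  have hk' : FlatCx.kdim δ' K = 0 := by
    show Module.finrank K (LinearMap.ker (δ'.baseChange K)) = 0
    haveI : Subsingleton (LinearMap.ker (δ'.baseChange K)) := by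
      refine ⟨fun a b => ?_⟩
      suffices h0 : ∀ c : LinearMap.ker (δ'.baseChange K), c = 0 by rw [h0 a, h0 b]
      rintro ⟨w, hw⟩
      apply Subtype.ext
      have hsurj : Function.Surjective (N.mkQ.baseChange K) := by
        rw [LinearMap.baseChange_eq_ltensor]
        exact LinearMap.lTensor_surjective K (Submodule.mkQ_surjective _)
      obtain ⟨v, rfl⟩ := hsurj w
      have hv : v ∈ LinearMap.ker (δ.baseChange K) := by
        rw [LinearMap.mem_ker] at hw ⊢
        rw [← LinearMap.comp_apply, ← LinearMap.baseChange_comp] at hw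
        rwa [show δ' ∘ₗ N.mkQ = δ from Submodule.liftQ_mkQ _ _ _] at hw
      have hx' : (1 : K) ⊗ₜ[A] x ∈ LinearMap.ker (δ.baseChange K) := by
        rw [LinearMap.mem_ker, LinearMap.baseChange_tmul, hx0, tmul_zero]
      obtain ⟨c, hc⟩ := (finrank_eq_one_iff_of_nonzero' (⟨_, hx'⟩ : LinearMap.ker (δ.baseChange K))
        (fun h => hxK (congrArg Subtype.val h))).1 hk ⟨v, hv⟩
      show N.mkQ.baseChange K v = 0
      rw [← show c • ((1 : K) ⊗ₜ[A] x) = v from congrArg Subtype.val hc, map_smul, LinearMap.baseChange_tmul,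
        show N.mkQ x = 0 from (Submodule.Quotient.mk_eq_zero _).2 (Submodule.mem_span_singleton_self x),
        tmul_zero, smul_zero]
    exact Module.finrank_zero_of_subsingleton
  have hns := notMem_support_ker_of_kdim_eq_zero δ' p hk'
  obtain ⟨s, hs, hs'⟩ : ∃ s ∉ p.asIdeal, ∀ c : LinearMap.ker δ', s • c = 0 := by
    rw [Module.mem_support_iff_of_finite, SetLike.not_le_iff_exists] at hns
    obtain ⟨s, hs, hsp⟩ := hns
    exact ⟨s, hsp, Module.mem_annihilator.1 hs⟩
  refine ⟨s * φ x, fun h => (p.isPrime.mem_or_mem h).elim hs hφ, fun a ha => ?_, fun z hz => ?_⟩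
  · have h1 := congrArg φ ha
    rw [map_smul, map_zero, smul_eq_mul] at h1
    rw [mul_assoc, mul_comm (φ x) a, h1, mul_zero]
  · have h1 := congrArg Subtype.val (hs' ⟨N.mkQ z, LinearMap.mem_ker.2 hz⟩)
    have h2 : s • z ∈ N := (Submodule.Quotient.mk_eq_zero _).1 h1
    obtain ⟨a, ha⟩ := Submodule.mem_span_singleton.1 h2
    exact ⟨φ x * a, by rw [mul_comm s, mul_smul, mul_smul, ha]⟩

theorem exists_away_bijective_algebraMap {A : Type u} [CommRing A] [IsNoetherianRing A] {X : Scheme.{u}}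
    [X.Over (Spec (CommRingCat.of A))] [IsProper (X ↘ Spec (CommRingCat.of A))]
    [Flat (X ↘ Spec (CommRingCat.of A))] (p : Spec (CommRingCat.of A))
    (hne : ∃ z' : X, (X ↘ Spec (CommRingCat.of A)) z' = p)
    (hrk : CohIII.fiberRank (X ↘ Spec (CommRingCat.of A)) (Coh.structureModule X) 0 p = 1) :
    ∃ g : A, g ∉ p.asIdeal ∧ (∀ a : A, Coh.toGlobal (X ↘ Spec (CommRingCat.of A)) a = 0 → g * a = 0) ∧
      ∀ t : Γ(X, ⊤), ∃ a : A, (show Γ(X, ⊤) from Coh.toGlobal (X ↘ Spec (CommRingCat.of A)) g) * t =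
        Coh.toGlobal (X ↘ Spec (CommRingCat.of A)) a := by
  let F := Coh.structureModule X
  haveI : Coh.IsQCoh F := (DevLib.isCoh_structureModule X).1
  obtain ⟨Φ⟩ := nonempty_fibModel (DevLib.isCoh_structureModule X)
    (isFlatOver_structureModule (X ↘ Spec (CommRingCat.of A)))
  let Q := Φ.L.X 0 ⧸ Φ.L.bd 0
  haveI := Φ.finite 0; haveI := Φ.finite 1; haveI := Φ.flat 1
  haveI : Module.Flat A Q := Φ.L.flat_quot_zero (Φ.flat 0)
  haveI : Module.FinitePresentation A Q := Module.finitePresentation_of_finite A _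
  haveI : Module.Projective A Q := Module.Flat.projective_of_finitePresentation
  let eT : (CohIII.globalSectionsA A).obj F ≃ₗ[A] LinearMap.ker ((Φ.L.δ 0).rTensor A) :=
    gammaH0 F ≪≫ₗ (hhEquivL (tensorASelfIso A F).symm 0) ≪≫ₗ hhKer Φ.toModel 0 (ModuleCat.of A A)
  let ε : (CohIII.globalSectionsA A).obj F →ₗ[A] Q :=
    (TensorProduct.rid A Q).toLinearMap ∘ₗ (LinearMap.ker ((Φ.L.δ 0).rTensor A)).subtype ∘ₗ eT.toLinearMap
  have hεinj : Function.Injective ε := fun a b hab =>
    eT.injective (Subtype.ext ((TensorProduct.rid A Q).injective hab))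
  have hε0 : ∀ v, Φ.L.δ 0 (ε v) = 0 := fun v => by
    have h1 : ∀ w : Q ⊗[A] A, Φ.L.δ 0 (TensorProduct.rid A Q w) =
        TensorProduct.rid A _ ((Φ.L.δ 0).rTensor A w) := fun w => by
      induction w using TensorProduct.induction_on with
      | zero => simp
      | tmul q a => simp
      | add u v hu hv => simp only [map_add, hu, hv]
    exact (h1 _).trans ((congrArg _ (eT v).2).trans (map_zero _))
  have hεsurj : ∀ z, Φ.L.δ 0 z = 0 → ∃ v, ε v = z := fun z hz =>
    ⟨eT.symm ⟨z ⊗ₜ[A] (1 : A), LinearMap.mem_ker.2 (by rw [LinearMap.rTensor_tmul, hz, zero_tmul])⟩, by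
      show TensorProduct.rid A Q (eT (eT.symm _)).1 = z
      rw [LinearEquiv.apply_symm_apply, TensorProduct.rid_tmul, one_smul]⟩
  let one : (CohIII.globalSectionsA A).obj F := (1 : Γ(X, ⊤))
  have hsm : ∀ a : A, a • one = (Coh.toGlobal (X ↘ Spec (CommRingCat.of A)) a : Γ(X, ⊤)) := fun a => by
    show (show Γ(X, ⊤) from Coh.toGlobal (X ↘ Spec (CommRingCat.of A)) a) * 1 = _
    rw [mul_one]
  obtain ⟨z', hz'⟩ := hne
  have hx : ε one ∉ p.asIdeal • (⊤ : Submodule A Q) := by
    intro hmem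
    obtain ⟨_, ⟨U : X.Opens, (hU : IsAffineOpen U), rfl⟩, hzU, -⟩ :=
      X.isBasis_affineOpens.exists_subset_of_mem_open (Set.mem_univ z') isOpen_univ
    let P : Ideal A := p.asIdeal
    obtain ⟨h, hh⟩ := exists_iso_modPow F P 1
    have h0 : tH (F := F) 0 (quotMap (P ^ 1)) ((hhEquivL (A := A) (tensorASelfIso A F).symm 0) (gammaH0 (A := A) F one)) = 0 := by
      refine (hhKer Φ.toModel 0 _).injective (Subtype.ext ?_)
      refine (hhKer_natural Φ.toModel 0 (quotMap (P ^ 1)) _).trans ?_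
      have hw : (eT one).1 = ε one ⊗ₜ[A] (1 : A) := ((TensorProduct.rid A Q).symm_apply_apply _).symm
      rw [map_zero]
      show (Ideal.Quotient.mkₐ A (P ^ 1)).toLinearMap.lTensor Q (eT one).1 = 0
      rw [hw, LinearMap.lTensor_tmul]
      refine (congrArg (ε one ⊗ₜ[A] ·) (map_one (Ideal.Quotient.mk (P ^ 1)))).trans ?_
      exact (FlatCx.tmul_one_eq_zero_iff _ _).2 (by rw [pow_one]; exact hmem)
    have h1 : (Formal.modPowπ P 1 F).app ⊤ (1 : Γ(X, ⊤)) = 0 := by
      apply (RpushLib.h0Γ (Formal.modPow P 1 F)).injective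
      rw [map_zero]
      refine (h0Γ_natural (Formal.modPowπ P 1 F) (1 : Γ(X, ⊤))).trans ?_
      have he : Formal.modPowπ P 1 F = ((tensorASelfIso A F).inv ≫
          (CohIII.tensorAFunctor A F).map (quotMap (P ^ 1))) ≫ h.inv := by
        rw [← hh, Category.assoc, Iso.hom_inv_id, Category.comp_id]
      rw [he, ← Formal.HHmap_comp, ← Formal.HHmap_comp]
      exact (congrArg (Sheaf.H.map ((SheafOfModules.toSheaf _).map h.inv) 0) h0).trans (map_zero _)
    have h2 : (Formal.modPowπ P 1 F).app U (1 : Γ(X, U)) = 0 := by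
      have hnat : (Formal.modPowπ P 1 F).app U (X.presheaf.map (homOfLE le_top : U ⟶ ⊤).op (1 : Γ(X, ⊤))) =
          (Formal.modPow P 1 F).presheaf.map (homOfLE le_top : U ⟶ ⊤).op ((Formal.modPowπ P 1 F).app ⊤ (1 : Γ(X, ⊤))) :=
        ConcreteCategory.congr_hom (((Scheme.Modules.toPresheaf X).map (Formal.modPowπ P 1 F)).naturality (homOfLE le_top : U ⟶ ⊤).op) _
      rw [h1, map_zero] at hnat
      refine Eq.trans (congrArg _ ?_) hnat
      exact (map_one (X.presheaf.map (homOfLE le_top : U ⟶ ⊤).op).hom).symm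
    have h3 : (1 : Γ(X, U)) ∈ LinearMap.ker (secMap (cst A X) (Formal.modPowπ P 1 F) U) := h2
    rw [(secMap_modPowπ P 1 F (DevLib.isCoh_structureModule X).1 hU).2, pow_one] at h3
    have h4 : ∀ t : Sec (cst A X) F U, t ∈ P • (⊤ : Submodule A (Sec (cst A X) F U)) →
        X.presheaf.germ U z' hzU t ∈ IsLocalRing.maximalIdeal (X.presheaf.stalk z') := by
      intro t ht
      refine Submodule.smul_induction_on ht (fun a ha t _ => ?_) (fun u v hu hv => ?_)
      · show X.presheaf.germ U z' hzU (X.presheaf.map (homOfLE le_top : U ⟶ ⊤).op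
          (Coh.toGlobal (X ↘ Spec (CommRingCat.of A)) a) * (show Γ(X, U) from t)) ∈ _
        rw [map_mul]
        refine Ideal.mul_mem_right _ _ ?_
        rw [TopCat.Presheaf.germ_res_apply]
        have ha' : a ∈ ((X ↘ Spec (CommRingCat.of A)) z').asIdeal := by rw [hz']; exact ha
        rw [IsLocalRing.mem_maximalIdeal, mem_nonunits_iff]
        intro hu
        have hb : z' ∈ X.basicOpen ((X ↘ Spec (CommRingCat.of A)).appTop ((Scheme.ΓSpecIso (CommRingCat.of A)).inv a)) :=
          (X.mem_basicOpen _ z' (show z' ∈ (⊤ : X.Opens) from trivial)).2 hu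
        erw [← Scheme.preimage_basicOpen_top, basicOpen_eq_of_affine] at hb
        exact hb ha'
      · rw [map_add]
        exact Ideal.add_mem _ hu hv
    have h5 := h4 _ h3
    rw [map_one] at h5
    exact (IsLocalRing.maximalIdeal.isMaximal _).ne_top ((Ideal.eq_top_iff_one _).2 h5)
  have hk : FlatCx.kdim (Φ.L.δ 0) p.asIdeal.ResidueField = 1 :=
    (Φ.fiberRank_eq 0 p).symm.trans hrk
  obtain ⟨g, hg, hg1, hg2⟩ := exists_bijective_away (Φ.L.δ 0) p (ε one) (hε0 one) hx hk
  refine ⟨g, hg, fun a ha => hg1 a ?_, fun t => ?_⟩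
  · rw [← map_smul, hsm, ha]
    exact map_zero ε
  · obtain ⟨a, ha⟩ := hg2 (ε (t : (CohIII.globalSectionsA A).obj F)) (hε0 _)
    refine ⟨a, ?_⟩
    rw [← map_smul, ← map_smul] at ha
    exact (hεinj ha).trans (hsm a)

end Groth.Agent.BCLib
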