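import Groth.Agent.BCLib.Main
import Groth.Agent.PullbackMod.Flat
import Groth.Agent.ProperFin.PushCov

/-!
# Sections of an inverse image along a base change of an affine base
-/

set_option autoImplicit false
set_option backward.isDefEq.respectTransparency false
set_option backward.defeqAttrib.useBackward true
set_option linter.style.haveILetI false

universe u

open CategoryTheory CategoryTheory.Limits AlgebraicGeometry TopologicalSpace Opposite TensorProduct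
open Groth.Agent.CohBase Groth.Agent.ProjCoh Groth.Agent.FormalLib Groth.Agent.PullbackMod

noncomputable section

namespace Groth.Agent.BCLib

theorem isBaseChange_of_isPushout {R R' B B' : Type u} [CommRing R] [CommRing R'] [CommRing B] [CommRing B']
    [Algebra R R'] [Algebra R B] [Algebra R B'] [Algebra R' B'] [Algebra B B'] [IsScalarTower R B B']
    [IsScalarTower R R' B'] [Algebra.IsPushout R R' B B'] {M M' : Type u} [AddCommGroup M] [Module B M]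
    [Module R M] [IsScalarTower R B M] [AddCommGroup M'] [Module B' M'] [Module R' M'] [Module R M']
    [Module B M'] [IsScalarTower R' B' M'] [IsScalarTower B B' M'] [IsScalarTower R R' M']
    (θ : M →ₗ[B] M') (hθ : IsBaseChange B' θ) (θR : M →ₗ[R] M') (hR : ∀ m, θR m = θ m) :
    IsBaseChange R' θR := by
  let e : R' ⊗[R] M ≃ₗ[R'] M' :=
    (Algebra.IsPushout.cancelBaseChange R R' B B' M).symm ≪≫ₗ hθ.equiv.restrictScalars R'
  refine IsBaseChange.of_equiv e fun m => ?_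
  simp [e, Algebra.IsPushout.cancelBaseChange_symm_tmul, IsBaseChange.equiv_tmul, hR]

variable {R R' : CommRingCat.{u}} {X X' : Scheme.{u}} (f : X ⟶ Spec R) (f' : X' ⟶ Spec R')
  (g' : X' ⟶ X) (φ : R ⟶ R')

/-- The ring map `R → Γ(W, O)`. -/
def secHom (W : X.Opens) : R ⟶ Γ(X, W) :=
  (Scheme.ΓSpecIso R).inv ≫ f.appTop ≫ X.presheaf.map (homOfLE (le_top : W ≤ ⊤)).op

theorem secHom_hom (W : X.Opens) : (secHom f W).hom = φV (Coh.toGlobal (A := R) f) W := rfl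

theorem secHom_eq_appLE (W : X.Opens) :
    secHom f W = (Scheme.ΓSpecIso R).inv ≫ f.appLE ⊤ W le_top := rfl

variable {f f' g' φ}

theorem secHom_comm (w : g' ≫ f = f' ≫ Spec.map φ) {W : X.Opens} {W' : X'.Opens} (e : W' ≤ g' ⁻¹ᵁ W) :
    secHom f W ≫ g'.appLE W W' e = φ ≫ secHom f' W' := by
  rw [secHom_eq_appLE, secHom_eq_appLE, Category.assoc, Scheme.Hom.appLE_comp_appLE,
    reassoc_of% Scheme.ΓSpecIso_inv_naturality φ]
  congr 1
  refine Eq.trans ?_ (Scheme.Hom.comp_appLE f' (Spec.map φ) ⊤ W' le_top)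
  simp only [w]

variable (hc : IsPullback g' f' f (Spec.map φ)) {W : X.Opens}

include hc in
theorem isPushout_secHom (hW : IsAffineOpen W) :
    IsAffineOpen (g' ⁻¹ᵁ W) ∧
      IsPushout φ (secHom f W) (secHom f' (g' ⁻¹ᵁ W)) (g'.app W) := by
  have hWeq : g' ⁻¹ᵁ W ⊓ f' ⁻¹ᵁ ⊤ = g' ⁻¹ᵁ W := inf_top_eq _
  obtain ⟨hW', hpo⟩ := isPushout_appLE hc (isAffineOpen_top (Spec R)) hW (isAffineOpen_top (Spec R'))
    (le_top : W ≤ f ⁻¹ᵁ ⊤) (le_top : (⊤ : (Spec R').Opens) ≤ (Spec.map φ) ⁻¹ᵁ ⊤)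
  let e₁ : W ≤ f ⁻¹ᵁ ⊤ := le_top
  let e₂ : (⊤ : (Spec R').Opens) ≤ (Spec.map φ) ⁻¹ᵁ ⊤ := le_top
  letI : Algebra Γ(Spec R, ⊤) Γ(X, W) := (f.appLE ⊤ W e₁).hom.toAlgebra
  letI : Algebra Γ(Spec R, ⊤) Γ(Spec R', ⊤) := ((Spec.map φ).appLE ⊤ ⊤ e₂).hom.toAlgebra
  letI : Algebra Γ(X, W) Γ(X', g' ⁻¹ᵁ W ⊓ f' ⁻¹ᵁ ⊤) := (g'.appLE W _ inf_le_left).hom.toAlgebra
  letI : Algebra Γ(Spec R', ⊤) Γ(X', g' ⁻¹ᵁ W ⊓ f' ⁻¹ᵁ ⊤) := (f'.appLE ⊤ _ inf_le_right).hom.toAlgebra
  letI : Algebra Γ(Spec R, ⊤) Γ(X', g' ⁻¹ᵁ W ⊓ f' ⁻¹ᵁ ⊤) :=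
    ((g'.appLE W _ inf_le_left).hom.comp (f.appLE ⊤ W e₁).hom).toAlgebra
  haveI : IsScalarTower Γ(Spec R, ⊤) Γ(X, W) Γ(X', g' ⁻¹ᵁ W ⊓ f' ⁻¹ᵁ ⊤) := .of_algebraMap_eq fun _ => rfl
  haveI : IsScalarTower Γ(Spec R, ⊤) Γ(Spec R', ⊤) Γ(X', g' ⁻¹ᵁ W ⊓ f' ⁻¹ᵁ ⊤) := .of_algebraMap_eq' (by
      show ((f.appLE ⊤ W e₁) ≫ g'.appLE W _ inf_le_left).hom =
        (((Spec.map φ).appLE ⊤ ⊤ e₂) ≫ f'.appLE ⊤ _ inf_le_right).hom
      simp only [Scheme.Hom.appLE_comp_appLE, hc.w])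
  have h := CommRingCat.isPushout_iff_isPushout.mpr hpo
  refine ⟨hWeq ▸ hW', ?_⟩
  refine h.of_iso (Scheme.ΓSpecIso R) (Scheme.ΓSpecIso R') (Iso.refl _)
    (X'.presheaf.mapIso (eqToIso hWeq).op.symm) ?_ ?_ ?_ ?_
  · exact Scheme.ΓSpecIso_naturality φ |> (fun e => (congrArg (· ≫ _) (Scheme.Hom.appLE_eq_app _)).trans e)
  · show f.appLE ⊤ W _ ≫ 𝟙 _ = (Scheme.ΓSpecIso R).hom ≫ secHom f W
    rw [Category.comp_id, secHom_eq_appLE, Iso.hom_inv_id_assoc]
  · show f'.appLE ⊤ _ _ ≫ X'.presheaf.map _ = (Scheme.ΓSpecIso R').hom ≫ secHom f' _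
    rw [secHom_eq_appLE, Iso.hom_inv_id_assoc, Scheme.Hom.appLE_map]
  · show g'.appLE W _ _ ≫ X'.presheaf.map _ = 𝟙 _ ≫ g'.app W
    rw [Category.id_comp, Scheme.Hom.appLE_map, Scheme.Hom.app_eq_appLE]

variable (G : X.Modules) (W)

variable (f f' g' φ) in
/-- Inverse image of sections, linear over `R`. -/
def secPull (w : g' ≫ f = f' ≫ Spec.map φ) {W' : X'.Opens} (e : W' ≤ g' ⁻¹ᵁ W) :
    letI := Module.compHom (Sec (Coh.toGlobal (A := R') f') ((Scheme.Modules.pullback g').obj G) W') φ.hom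
    Sec (Coh.toGlobal (A := R) f) G W →ₗ[R]
      Sec (Coh.toGlobal (A := R') f') ((Scheme.Modules.pullback g').obj G) W' :=
  letI := Module.compHom (Sec (Coh.toGlobal (A := R') f') ((Scheme.Modules.pullback g').obj G) W') φ.hom
  { toFun := fun s => pullMap g' G e (show Γ(G, W) from s)
    map_add' := map_add (pullMap g' G e)
    map_smul' := fun r s => by
      refine (pullMap_smul g' G e _ _).trans ?_
      exact congrArg (fun c : Γ(X', W') => c • pullMap g' G e (show Γ(G, W) from s))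
        (congr($(secHom_comm w e).hom r)) }

variable {W}

include hc in
theorem isBaseChange_secPull (hW : IsAffineOpen W) [Coh.IsQCoh G] {W' : X'.Opens}
    (hW' : W' = g' ⁻¹ᵁ W) :
    letI := φ.hom.toAlgebra
    letI := Module.compHom (Sec (Coh.toGlobal (A := R') f') ((Scheme.Modules.pullback g').obj G) W') φ.hom
    haveI : IsScalarTower R R' (Sec (Coh.toGlobal (A := R') f') ((Scheme.Modules.pullback g').obj G) W') :=
      .of_algebraMap_smul fun _ _ => rfl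
    IsBaseChange R' (secPull f f' g' φ W G hc.w hW'.le) := by
  subst hW'
  obtain ⟨hWaff, hpo⟩ := isPushout_secHom hc hW
  let gG := (Scheme.Modules.pullback g').obj G
  let W' := g' ⁻¹ᵁ W
  letI := φ.hom.toAlgebra
  letI : Algebra R Γ(X, W) := (secHom f W).hom.toAlgebra
  letI : Algebra R' Γ(X', W') := (secHom f' W').hom.toAlgebra
  letI : Algebra Γ(X, W) Γ(X', W') := (g'.app W).hom.toAlgebra
  letI : Algebra R Γ(X', W') := ((g'.app W).hom.comp (secHom f W).hom).toAlgebra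
  haveI : IsScalarTower R Γ(X, W) Γ(X', W') := .of_algebraMap_eq fun _ => rfl
  haveI : IsScalarTower R R' Γ(X', W') := .of_algebraMap_eq' (congrArg CommRingCat.Hom.hom hpo.w.symm)
  haveI : Algebra.IsPushout R R' Γ(X, W) Γ(X', W') := CommRingCat.isPushout_iff_isPushout.mp hpo
  letI : Module R Γ(G, W) := inferInstanceAs (Module R (Sec (Coh.toGlobal (A := R) f) G W))
  haveI : IsScalarTower R Γ(X, W) Γ(G, W) := .of_algebraMap_smul fun _ _ => rfl
  letI : Module R' Γ(gG, W') := inferInstanceAs (Module R' (Sec (Coh.toGlobal (A := R') f') gG W'))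
  haveI : IsScalarTower R' Γ(X', W') Γ(gG, W') := .of_algebraMap_smul fun _ _ => rfl
  letI : Module R Γ(gG, W') := Module.compHom _ φ.hom
  haveI : IsScalarTower R R' Γ(gG, W') := .of_algebraMap_smul fun _ _ => rfl
  letI : Module Γ(X, W) Γ(gG, W') := Module.compHom _ (g'.appLE W W' le_rfl).hom
  haveI : IsScalarTower Γ(X, W) Γ(X', W') Γ(gG, W') := .of_algebraMap_smul fun r x => by
    show (g'.app W).hom r • x = (g'.appLE W W' le_rfl).hom r • x
    rw [Scheme.Hom.app_eq_appLE]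
  let θR : Γ(G, W) →ₗ[R] Γ(gG, W') := secPull f f' g' φ W G hc.w le_rfl
  refine isBaseChange_of_isPushout (B' := Γ(X', W')) (pullMapL g' G le_rfl) ?_ θR fun _ => rfl
  have h := isBaseChange_pullMapL g' G hW hWaff (le_rfl : W' ≤ g' ⁻¹ᵁ W)
  convert h using 2
  exact Scheme.Hom.app_eq_appLE g' ▸ rfl

end Groth.Agent.BCLib
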