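import Groth.Agent.BCLib.SteinFlat

/-!
# `O_Y = f_* O_X` near a fibre with only constant functions
-/

set_option autoImplicit false
set_option backward.isDefEq.respectTransparency false
set_option backward.defeqAttrib.useBackward true
set_option linter.style.haveILetI false

universe u

open CategoryTheory CategoryTheory.Limits AlgebraicGeometry TopologicalSpace Opposite

noncomputable section

namespace Groth.Agent.BCLib

theorem bijective_of_away {A A' S S' : Type u} [CommRing A] [CommRing A'] [CommRing S] [CommRing S']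
    [Algebra A A'] [Algebra S S'] (j : A →+* S) (φ : A' →+* S') (h : A) [IsLocalization.Away h A']
    [IsLocalization.Away (j h) S'] (hc : ∀ a, φ (algebraMap A A' a) = algebraMap S S' (j a))
    (g : A) (hg : IsUnit (algebraMap A A' g)) (h1 : ∀ a, j a = 0 → g * a = 0)
    (h2 : ∀ t, ∃ a, j g * t = j a) : Function.Bijective φ := by
  constructor
  · rw [injective_iff_map_eq_zero]
    intro x hx
    obtain ⟨⟨a, ⟨_, n, rfl⟩⟩, ha⟩ := IsLocalization.surj (Submonoid.powers h) x
    have ha0 : algebraMap S S' (j a) = 0 := by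
      rw [← hc, ← ha, map_mul, hx, zero_mul]
    obtain ⟨⟨_, m, rfl⟩, hm⟩ := (IsLocalization.map_eq_zero_iff (Submonoid.powers (j h)) S' (j a)).1 ha0
    have hm' : g * (h ^ m * a) = 0 := h1 _ (by rw [map_mul, map_pow]; exact hm)
    have hu : ∀ k : ℕ, IsUnit (algebraMap A A' (h ^ k)) := fun k => by
      rw [map_pow]
      exact (IsLocalization.Away.algebraMap_isUnit h).pow k
    have h3 : algebraMap A A' g * (algebraMap A A' (h ^ m) * algebraMap A A' a) = 0 := by
      rw [← map_mul, ← map_mul, hm', map_zero]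
    rw [hg.mul_right_eq_zero, (hu m).mul_right_eq_zero] at h3
    rw [h3] at ha
    exact (hu n).mul_left_eq_zero.1 ha
  · intro t
    obtain ⟨⟨T, ⟨_, n, rfl⟩⟩, hT⟩ := IsLocalization.surj (Submonoid.powers (j h)) t
    obtain ⟨a, ha⟩ := h2 T
    have hu : IsUnit (algebraMap A A' (g * h ^ n)) := by
      rw [map_mul, map_pow]
      exact hg.mul ((IsLocalization.Away.algebraMap_isUnit h).pow n)
    obtain ⟨v, hv⟩ := hu.exists_right_inv
    refine ⟨algebraMap A A' a * v, ?_⟩
    rw [map_mul, hc, ← ha, map_mul, ← hT]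
    have h4 : φ (algebraMap A A' (g * h ^ n)) * φ v = 1 := by rw [← map_mul, hv, map_one]
    rw [hc, map_mul, map_pow, map_mul] at h4
    calc _ = t * (algebraMap S S' (j g) * algebraMap S S' (j h ^ n) * φ v) := by ring
      _ = t := by rw [h4, mul_one]

theorem fiberRank_congr {X Y : Scheme.{u}} (f : X ⟶ Y) {F G : X.Modules} (e : F ≅ G) (p : ℕ) (y : Y) :
    CohIII.fiberRank f F p y = CohIII.fiberRank f G p y := by
  letI : (f.fiber y).Over (Spec (CommRingCat.of (Y.residueField y))) := ⟨f.fiberToSpecResidueField y⟩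
  exact (hhEquivL (A := Y.residueField y) ((Scheme.Modules.pullback (f.fiberι y)).mapIso e) p).finrank_eq

/-- If the fibre at `y` has only constant functions then `O_Y → f_* O_X` is bijective near `y`. -/
theorem exists_nhd_bijective_app {X Y : Scheme.{u}} (f : X ⟶ Y) [IsProper f] [Flat f] [IsLocallyNoetherian Y]
    (y : Y) (hy : Function.Bijective (algebraMap (Y.residueField y) Γ(f.fiber y, ⊤))) :
    ∃ U : Y.Opens, y ∈ U ∧ ∀ V : Y.Opens, V ≤ U → Function.Bijective (f.app V) := by
  obtain ⟨W, hW, hyW, -⟩ := exists_affine_mem y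
  letI : (f ⁻¹ᵁ W : Scheme.{u}).Over (Spec (CommRingCat.of Γ(Y, W))) := ⟨restOver f hW⟩
  haveI : IsNoetherianRing Γ(Y, W) := IsLocallyNoetherian.component_noetherian ⟨W, hW⟩
  haveI hpr : IsProper (restOver f hW) := isProper_restOver f hW
  haveI : IsProper ((f ⁻¹ᵁ W : Scheme.{u}) ↘ Spec (CommRingCat.of Γ(Y, W))) := hpr
  haveI hfl : Flat (restOver f hW) := MorphismProperty.of_isPullback (isPullback_restOver f hW) inferInstance
  haveI : Flat ((f ⁻¹ᵁ W : Scheme.{u}) ↘ Spec (CommRingCat.of Γ(Y, W))) := hfl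
  let q := hW.primeIdealOf ⟨y, hyW⟩
  have hq : hW.fromSpec q = y := hW.fromSpec_primeIdealOf _
  have hne : ∃ z : (f ⁻¹ᵁ W : Scheme.{u}), restOver f hW z = q := by
    haveI : Nontrivial Γ(f.fiber y, ⊤) := hy.1.nontrivial
    obtain ⟨w⟩ : Nonempty (f.fiber y) := by
      by_contra h
      haveI : IsEmpty (f.fiber y) := not_nonempty_iff.1 h
      exact not_subsingleton Γ(f.fiber y, ⊤) inferInstance
    have hw := Set.mem_range_self (f := f.fiberι y) w
    rw [f.range_fiberι y] at hw
    refine ⟨⟨f.fiberι y w, show f (f.fiberι y w) ∈ W by rw [show f (f.fiberι y w) = y from hw]; exact hyW⟩, ?_⟩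
    apply hW.fromSpec.isOpenEmbedding.injective
    rw [hq, ← Scheme.Hom.comp_apply, ← (isPullback_restOver f hW).w, Scheme.Hom.comp_apply]
    exact hw
  have hrk : CohIII.fiberRank (restOver f hW) (Coh.structureModule (f ⁻¹ᵁ W : Scheme.{u})) 0 q = 1 := by
    haveI : Coh.IsQCoh (Coh.structureModule X) := (DevLib.isCoh_structureModule X).1
    rw [← fiberRank_congr (restOver f hW) (ProjCoh.pullUnit (f ⁻¹ᵁ W).ι) 0 q]
    refine (fiberRank_restOver f hW (Coh.structureModule X) 0 q).trans ?_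
    rw [hq]
    exact finrank_fiberH_zero f y hy
  obtain ⟨g, hg, hg1, hg2⟩ := exists_away_bijective_algebraMap (A := Γ(Y, W)) q hne hrk
  have hj : ∀ a, Coh.toGlobal (restOver f hW) a = RpushLib.preTop f W a :=
    fun a => RingHom.congr_fun (RpushLib.toGlobal_eq f hW) a
  have hinj : Function.Injective ((f ⁻¹ᵁ W).topIso.inv.hom) :=
    (ConcreteCategory.bijective_of_isIso (f ⁻¹ᵁ W).topIso.inv).1
  have h1 : ∀ a, f.app W a = 0 → g * a = 0 := fun a ha => hg1 a (by
    refine (hj a).trans ?_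
    show (f ⁻¹ᵁ W).topIso.inv.hom (f.app W a) = 0
    rw [ha, map_zero])
  have h2 : ∀ t, ∃ a, f.app W g * t = f.app W a := fun t => by
    obtain ⟨a, ha⟩ := hg2 ((f ⁻¹ᵁ W).topIso.inv.hom t)
    refine ⟨a, hinj ?_⟩
    rw [map_mul]
    refine Eq.trans ?_ (hj a)
    refine Eq.trans ?_ ha
    exact congrArg (· * (f ⁻¹ᵁ W).topIso.inv.hom t) (hj g).symm
  have hbasic : ∀ h : Γ(Y, W), Y.basicOpen h ≤ Y.basicOpen g → Function.Bijective (f.app (Y.basicOpen h)) := by
    intro h hh
    haveI := hW.isLocalization_basicOpen h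
    have hcpt : IsCompact ((f ⁻¹ᵁ W) : Set X) :=
      (quasiCompact_iff_forall_isAffineOpen.1 (inferInstanceAs (QuasiCompact f))) W hW
    haveI hsep : IsSeparated (restOver f hW) := inferInstance
    have hqs : IsQuasiSeparated ((f ⁻¹ᵁ W) : Set X) := by
      haveI : QuasiSeparatedSpace (f ⁻¹ᵁ W : Scheme.{u}) :=
        AlgebraicGeometry.quasiSeparatedSpace_of_quasiSeparated (restOver f hW)
      exact (isQuasiSeparated_iff_quasiSeparatedSpace _ (f ⁻¹ᵁ W).2).2 ‹_›
    haveI := isLocalization_basicOpen_of_qcqs hcpt hqs (f.app W h)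
    have he : f ⁻¹ᵁ Y.basicOpen h = X.basicOpen (f.app W h) := Scheme.preimage_basicOpen f h
    let φ : Γ(Y, Y.basicOpen h) →+* Γ(X, X.basicOpen (f.app W h)) :=
      (X.presheaf.map (eqToHom he.symm).op).hom.comp (f.app (Y.basicOpen h)).hom
    have hb : Function.Bijective φ := by
      refine bijective_of_away (A := Γ(Y, W)) (S := Γ(X, f ⁻¹ᵁ W)) (f.app W).hom φ h (fun a => ?_) g ?_ h1 h2
      · exact RpushLib.app_map_map f _ _ _ a
      · have hu : IsUnit (Y.presheaf.map (homOfLE (Y.basicOpen_le g)).op g) := RingedSpace.isUnit_res_basicOpen _ g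
        have := hu.map (Y.presheaf.map (homOfLE hh).op).hom
        rw [← ConcreteCategory.comp_apply, ← Functor.map_comp] at this
        exact this
    have hres : Function.Bijective (X.presheaf.map (eqToHom he.symm).op) := ConcreteCategory.bijective_of_isIso _
    exact (Function.Bijective.of_comp_iff' hres _).1 hb
  refine ⟨Y.basicOpen g, ?_, fun V hV => ?_⟩
  · rw [← hq]
    have hmem : q ∈ hW.fromSpec ⁻¹ᵁ Y.basicOpen g := by
      rw [hW.fromSpec_preimage_basicOpen]
      exact hg
    exact hmem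
  · have hcov : ∀ V : Y.Opens, V ≤ Y.basicOpen g → ∀ v : V, ∃ h : Γ(Y, W), Y.basicOpen h ≤ V ∧
        Y.basicOpen h ≤ Y.basicOpen g ∧ v.1 ∈ Y.basicOpen h := fun V hV v => by
      obtain ⟨h, hh, hv⟩ := hW.exists_basicOpen_le v (Y.basicOpen_le g (hV v.2))
      exact ⟨h, hh, hh.trans hV, hv⟩
    have hres : ∀ {V D : Y.Opens} (e : D ≤ V) (s : Γ(Y, V)),
        X.presheaf.map (homOfLE (f.preimage_mono e)).op (f.app V s) = f.app D (Y.presheaf.map (homOfLE e).op s) :=
      fun {V D} e s => (ConcreteCategory.congr_hom (f.naturality (homOfLE e).op) s).symm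
    have hinjV : ∀ V : Y.Opens, V ≤ Y.basicOpen g → Function.Injective (f.app V) := by
      intro V hV s t hst
      choose h hh hh' hv using hcov V hV
      refine TopCat.Sheaf.eq_of_locally_eq' Y.sheaf (fun v => Y.basicOpen (h v)) V (fun v => homOfLE (hh v))
        (fun v hv' => Opens.mem_iSup.2 ⟨⟨v, hv'⟩, hv _⟩) s t fun v => (hbasic (h v) (hh' v)).1 ?_
      show f.app _ (Y.presheaf.map _ s) = f.app _ (Y.presheaf.map _ t)
      rw [← hres, ← hres, hst]
    refine ⟨hinjV V hV, fun t => ?_⟩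
    choose h hh hh' hv using hcov V hV
    choose s hs using fun v => (hbasic (h v) (hh' v)).2
      (X.presheaf.map (homOfLE (f.preimage_mono (hh v))).op t)
    obtain ⟨S, hS, -⟩ := TopCat.Sheaf.existsUnique_gluing' Y.sheaf (fun v => Y.basicOpen (h v)) V
      (fun v => homOfLE (hh v)) (fun v hv' => Opens.mem_iSup.2 ⟨⟨v, hv'⟩, hv _⟩) s (fun v w => by
        apply hinjV _ ((inf_le_left.trans (hh v)).trans hV)
        show f.app _ (Y.presheaf.map _ (s v)) = f.app _ (Y.presheaf.map _ (s w))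
        rw [← homOfLE_leOfHom (Opens.infLELeft _ _), ← homOfLE_leOfHom (Opens.infLERight _ _), ← hres, ← hres,
          hs, hs, ← ConcreteCategory.comp_apply, ← ConcreteCategory.comp_apply, ← Functor.map_comp,
          ← Functor.map_comp]
        rfl)
    refine ⟨S, TopCat.Sheaf.eq_of_locally_eq' X.sheaf (fun v => f ⁻¹ᵁ Y.basicOpen (h v)) (f ⁻¹ᵁ V)
      (fun v => homOfLE (f.preimage_mono (hh v)))
      (fun x hx => Opens.mem_iSup.2 ⟨⟨f x, hx⟩, hv ⟨f x, hx⟩⟩) _ t fun v => ?_⟩
    show X.presheaf.map _ (f.app V S) = _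
    rw [hres]
    refine Eq.trans (congrArg (f.app (Y.basicOpen (h v))) ?_) (hs v)
    exact hS v

end Groth.Agent.BCLib
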