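import Groth.Agent.BCLib.Semi

/-!
# Vanishing and local freeness read off the fibres
-/

set_option autoImplicit false
set_option backward.isDefEq.respectTransparency false
set_option backward.defeqAttrib.useBackward true

universe u

open CategoryTheory CategoryTheory.Limits AlgebraicGeometry TopologicalSpace Opposite TensorProduct

noncomputable section

namespace Groth.Agent.BCLib

variable {A : Type u} [CommRing A]

theorem lTensor_residueField_baseChange_injective {C F : Type u} [AddCommGroup C] [Module A C] [AddCommGroup F]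
    [Module A F] [Module.Finite A C] (δ : C →ₗ[A] F) (x : PrimeSpectrum A)
    (h : FlatCx.kdim δ x.asIdeal.ResidueField = 0) :
    Function.Injective ((δ.baseChange (Localization.AtPrime x.asIdeal)).lTensor
      (IsLocalRing.ResidueField (Localization.AtPrime x.asIdeal))) := by
  let R := Localization.AtPrime x.asIdeal
  let k := IsLocalRing.ResidueField R
  have hinj : Function.Injective (δ.baseChange k) := by
    rw [← LinearMap.ker_eq_bot]
    exact Submodule.finrank_eq_zero.1 h
  have hcancel : ∀ z, δ.baseChange k (AlgebraTensorModule.cancelBaseChange A R k k C z) =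
      AlgebraTensorModule.cancelBaseChange A R k k F ((δ.baseChange R).baseChange k z) := fun z => by
    induction z using TensorProduct.induction_on with
    | zero => simp
    | tmul l w =>
      induction w using TensorProduct.induction_on with
      | zero => simp
      | tmul r c => simp
      | add a b ha hb => simp only [tmul_add, map_add, ha, hb]
    | add a b ha hb => simp only [map_add, ha, hb]
  show Function.Injective ((δ.baseChange R).lTensor k)
  intro a b hab
  have hab' : (δ.baseChange R).baseChange k a = (δ.baseChange R).baseChange k b := hab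
  apply (AlgebraTensorModule.cancelBaseChange A R k k C).injective
  exact hinj ((hcancel a).trans ((congrArg _ hab').trans (hcancel b).symm))

theorem notMem_support_ker_of_kdim_eq_zero {C F : Type u} [AddCommGroup C] [Module A C] [AddCommGroup F]
    [Module A F] [Module.Finite A C] [Module.FinitePresentation A F] [Module.Flat A F] (δ : C →ₗ[A] F)
    (x : PrimeSpectrum A) (h : FlatCx.kdim δ x.asIdeal.ResidueField = 0) :
    x ∉ Module.support A (LinearMap.ker δ) := by
  let R := Localization.AtPrime x.asIdeal
  have hk : Function.Injective ((δ.baseChange R).lTensor (IsLocalRing.ResidueField R)) :=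
    lTensor_residueField_baseChange_injective δ x h
  haveI : Module.Free R (R ⊗[A] F) := Module.free_of_flat_of_isLocalRing
  obtain ⟨l, hl⟩ := (IsLocalRing.split_injective_iff_lTensor_residueField_injective (δ.baseChange R)).2 hk
  rw [Module.notMem_support_iff']
  intro c
  have h0 : (1 : R) ⊗ₜ[A] c.1 = 0 := by
    have h1 := LinearMap.congr_fun hl ((1 : R) ⊗ₜ[A] c.1)
    rw [LinearMap.comp_apply, LinearMap.baseChange_tmul, show δ c.1 = 0 from c.2, tmul_zero, map_zero,
      LinearMap.id_apply] at h1
    exact h1.symm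
  haveI : IsLocalizedModule x.asIdeal.primeCompl (TensorProduct.mk A R C 1) :=
    (isLocalizedModule_iff_isBaseChange x.asIdeal.primeCompl R _).2 (TensorProduct.isBaseChange A C R)
  obtain ⟨⟨s, hs⟩, hsc⟩ :=
    (IsLocalizedModule.eq_zero_iff x.asIdeal.primeCompl (TensorProduct.mk A R C 1) (m := c.1)).1 h0
  exact ⟨s, hs, Subtype.ext hsc⟩

/-- A linear map which is injective on every fibre has flat cokernel. -/
theorem flat_coker_of_kdim_eq_zero {C F : Type u} [AddCommGroup C] [Module A C] [AddCommGroup F]
    [Module A F] [Module.Finite A C] [Module.FinitePresentation A F] [Module.Flat A F] (δ : C →ₗ[A] F)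
    (h : ∀ x : PrimeSpectrum A, FlatCx.kdim δ x.asIdeal.ResidueField = 0) :
    Module.Flat A (F ⧸ LinearMap.range δ) := by
  refine Module.flat_of_localized_maximal _ fun P hP => ?_
  let R := Localization.AtPrime P
  let x : PrimeSpectrum A := ⟨P, inferInstance⟩
  haveI : Module.Free R (R ⊗[A] F) := Module.free_of_flat_of_isLocalRing
  haveI : Module.Free R (R ⊗[A] (F ⧸ LinearMap.range δ)) := by
    have he : Function.Exact (δ.baseChange R) ((LinearMap.range δ).mkQ.baseChange R) := fun z =>
      lTensor_exact R δ.exact_map_mkQ_range (Submodule.mkQ_surjective _) z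
    have hs : Function.Surjective ((LinearMap.range δ).mkQ.baseChange R) := by
      rw [LinearMap.baseChange_eq_ltensor]
      exact LinearMap.lTensor_surjective R (Submodule.mkQ_surjective _)
    exact Module.free_of_lTensor_residueField_injective (δ.baseChange R) _ hs he
      (lTensor_residueField_baseChange_injective δ x (h x))
  haveI : Module.Flat A (R ⊗[A] (F ⧸ LinearMap.range δ)) := Module.Flat.trans A R _
  exact Module.Flat.of_linearEquiv
    ((LocalizedModule.equivTensorProduct P.primeCompl (F ⧸ LinearMap.range δ)).restrictScalars A)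

/-- An extension of flat modules is flat. -/
theorem flat_of_flat_quotient {C : Type u} [AddCommGroup C] [Module A C] (K : Submodule A C)
    [Module.Flat A K] [Module.Flat A (C ⧸ K)] : Module.Flat A C := by
  rw [Module.Flat.iff_lTensor_preserves_injective_linearMap]
  intro M M' _ _ _ _ g hg
  rw [injective_iff_map_eq_zero]
  intro x hx
  have h1 : K.mkQ.rTensor M x = 0 := by
    apply Module.Flat.lTensor_preserves_injective_linearMap (M := C ⧸ K) g hg
    rw [map_zero, ← LinearMap.comp_apply, LinearMap.lTensor_comp_rTensor, ← LinearMap.rTensor_comp_lTensor,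
      LinearMap.comp_apply, hx, map_zero]
  obtain ⟨k, rfl⟩ := (rTensor_exact M (LinearMap.exact_subtype_mkQ K) (Submodule.mkQ_surjective _) x).1 h1
  rw [← LinearMap.comp_apply, LinearMap.lTensor_comp_rTensor, ← LinearMap.rTensor_comp_lTensor,
    LinearMap.comp_apply, map_eq_zero_iff _ (FlatCx.rTensor_injective_of_flat_quotient K M'),
    map_eq_zero_iff _ (Module.Flat.lTensor_preserves_injective_linearMap (M := K) g hg)] at hx
  rw [hx, map_zero]

namespace Cx

variable (L : Cx A)

theorem flat_quot_step (n : ℕ) (hflat : Module.Flat A (L.X (n + 1)))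
    (h₁ : Module.Flat A (L.X (n + 1) ⧸ L.bd (n + 1))) (hk : Module.Flat A (LinearMap.ker (L.δ n))) :
    Module.Flat A (L.X n ⧸ L.bd n) := by
  haveI := hflat
  haveI : Module.Flat A ((L.X (n + 1)) ⧸ LinearMap.range (L.δ n)) :=
    Module.Flat.of_linearEquiv (Submodule.quotEquivOfEq _ _ (L.range_δ n))
  haveI : Module.Flat A (LinearMap.range (L.δ n)) := by
    rw [Module.Flat.iff_lTensor_preserves_injective_linearMap]
    intro M M' _ _ _ _ g hg x y hxy
    apply FlatCx.rTensor_injective_of_flat_quotient (LinearMap.range (L.δ n)) M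
    apply Module.Flat.lTensor_preserves_injective_linearMap (M := L.X (n + 1)) g hg
    rw [← LinearMap.comp_apply, LinearMap.lTensor_comp_rTensor, ← LinearMap.rTensor_comp_lTensor,
      LinearMap.comp_apply, hxy, ← LinearMap.comp_apply, LinearMap.rTensor_comp_lTensor,
      ← LinearMap.lTensor_comp_rTensor, LinearMap.comp_apply]
  haveI : Module.Flat A ((L.X n ⧸ L.bd n) ⧸ LinearMap.ker (L.δ n)) :=
    Module.Flat.of_linearEquiv (L.δ n).quotKerEquivRange
  haveI := hk
  exact flat_of_flat_quotient (LinearMap.ker (L.δ n))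

theorem flat_quot_of_flat_kerδ (hflat : ∀ n, Module.Flat A (L.X n)) {N : ℕ}
    (hN : ∀ n, N < n → Subsingleton (L.X n)) :
    ∀ k n, N < n + k → (∀ m, n ≤ m → Module.Flat A (LinearMap.ker (L.δ m))) →
      Module.Flat A (L.X n ⧸ L.bd n)
  | 0, n, hn, _ => by
    haveI := hN n hn
    haveI : Subsingleton (L.X n ⧸ L.bd n) := (Submodule.mkQ_surjective _).subsingleton
    infer_instance
  | k + 1, n, hn, h =>
    L.flat_quot_step n (hflat (n + 1))
      (flat_quot_of_flat_kerδ hflat hN k (n + 1) (by omega) fun m hm => h m (by omega)) (h n le_rfl)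

theorem flat_quot_zero (hflat : Module.Flat A (L.X 0)) : Module.Flat A (L.X 0 ⧸ L.bd 0) :=
  haveI := hflat
  Module.Flat.of_linearEquiv (Submodule.quotEquivOfEqBot (L.bd 0) rfl)

theorem fdim_kerδ (n : ℕ) (hflat : Module.Flat A (L.X (n + 1)))
    (h₁ : Module.Flat A (L.X (n + 1) ⧸ L.bd (n + 1))) (x : PrimeSpectrum A) :
    FlatCx.fdim (LinearMap.ker (L.δ n)) x = FlatCx.kdim (L.δ n) x.asIdeal.ResidueField := by
  haveI := hflat
  haveI : Module.Flat A (L.X (n + 1) ⧸ LinearMap.range (L.δ n)) :=
    Module.Flat.of_linearEquiv (Submodule.quotEquivOfEq _ _ (L.range_δ n))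
  let K := x.asIdeal.ResidueField
  let ι := (LinearMap.ker (L.δ n)).subtype
  have hc : ∀ {M N : Type u} [AddCommGroup M] [Module A M] [AddCommGroup N] [Module A N] (g : M →ₗ[A] N)
      (z : M ⊗[A] K), TensorProduct.comm A N K (g.rTensor K z) = g.baseChange K (TensorProduct.comm A M K z) := by
    intro M N _ _ _ _ g z
    induction z using TensorProduct.induction_on with
    | zero => simp
    | tmul m a => simp
    | add a b ha hb => simp only [map_add, ha, hb]
  obtain ⟨hi, hr⟩ := FlatCx.kerTensor_injective_range (L.δ n) K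
  have hinj : Function.Injective (ι.baseChange K) := fun a b hab => by
    obtain ⟨a, rfl⟩ := (TensorProduct.comm A _ K).surjective a
    obtain ⟨b, rfl⟩ := (TensorProduct.comm A _ K).surjective b
    rw [← hc, ← hc] at hab
    rw [hi ((TensorProduct.comm A _ K).injective hab)]
  have hrange : LinearMap.range (ι.baseChange K) = LinearMap.ker ((L.δ n).baseChange K) := by
    ext z
    obtain ⟨z, rfl⟩ := (TensorProduct.comm A _ K).surjective z
    rw [LinearMap.mem_ker, ← hc, map_eq_zero_iff _ (LinearEquiv.injective _), ← LinearMap.mem_ker, ← hr]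
    constructor
    · rintro ⟨w, hw⟩
      obtain ⟨w, rfl⟩ := (TensorProduct.comm A _ K).surjective w
      exact ⟨w, (TensorProduct.comm A _ K).injective ((hc ι w).trans hw)⟩
    · rintro ⟨w, rfl⟩
      exact ⟨TensorProduct.comm A _ K w, (hc ι w).symm⟩
  show Module.finrank K (K ⊗[A] LinearMap.ker (L.δ n)) = Module.finrank K _
  rw [← hrange, LinearMap.finrank_range_of_inj hinj]

end Cx

variable {X : Scheme.{u}} [X.Over (Spec (CommRingCat.of A))] {F : X.Modules}

theorem notMem_support_HH_of_fiberRank_eq_zero [IsNoetherianRing A] (Φ : FibModel A X F) (p : ℕ)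
    (x : PrimeSpectrum A) (h : CohIII.fiberRank (X ↘ Spec (CommRingCat.of A)) F p x = 0) :
    x ∉ Module.support A (Coh.HH X F p) := by
  haveI := Φ.finite p; haveI := Φ.finite (p + 1); haveI := Φ.flat (p + 1)
  haveI : Module.FinitePresentation A (Φ.L.X (p + 1)) := Module.finitePresentation_of_finite A _
  obtain ⟨e⟩ := nonempty_HH_equiv_kerδ Φ.toModel p
  rw [e.support_eq]
  exact notMem_support_ker_of_kdim_eq_zero (Φ.L.δ p) x ((Φ.fiberRank_eq p x).symm.trans h)

theorem fdim_HH_eq_fiberRank (Φ : FibModel A X F) (p : ℕ)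
    (h₁ : Module.Flat A (Φ.L.X (p + 1) ⧸ Φ.L.bd (p + 1))) (x : PrimeSpectrum A) :
    FlatCx.fdim (Coh.HH X F p) x = CohIII.fiberRank (X ↘ Spec (CommRingCat.of A)) F p x := by
  obtain ⟨e⟩ := nonempty_HH_equiv_kerδ Φ.toModel p
  rw [Φ.fiberRank_eq p x, ← Φ.L.fdim_kerδ p (Φ.flat (p + 1)) h₁ x]
  exact ((e.baseChange A x.asIdeal.ResidueField _ _)).finrank_eq

/-- Over a reduced base, constant fibre dimensions give a flat `H^p` of that rank. -/
theorem flat_HH_and_fdim_of_isLocallyConstant [IsNoetherianRing A] [IsReduced A] (Φ : FibModel A X F) (p : ℕ)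
    (h : IsLocallyConstant fun x : PrimeSpectrum A => CohIII.fiberRank (X ↘ Spec (CommRingCat.of A)) F p x) :
    Module.Flat A (Coh.HH X F p) ∧ Module.Finite A (Coh.HH X F p) ∧ ∀ x : PrimeSpectrum A,
      FlatCx.fdim (Coh.HH X F p) x = CohIII.fiberRank (X ↘ Spec (CommRingCat.of A)) F p x := by
  have hk : IsLocallyConstant fun x : PrimeSpectrum A => FlatCx.kdim (Φ.L.δ p) x.asIdeal.ResidueField := by
    convert h using 1
    exact funext fun x => (Φ.fiberRank_eq p x).symm
  obtain ⟨h0, h1⟩ := Φ.L.flat_quot_of_kdim_isLocallyConstant Φ.finite Φ.flat p hk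
  obtain ⟨e⟩ := nonempty_HH_equiv_kerδ Φ.toModel p
  haveI := flat_kerδ Φ.toModel p h0 h1
  haveI := Φ.finite p
  exact ⟨Module.Flat.of_linearEquiv e, Module.Finite.equiv e.symm, fdim_HH_eq_fiberRank Φ p h1⟩

/-- If all `H^q` are flat, every fibre dimension is the rank of `H^q`. -/
theorem fdim_HH_eq_fiberRank_of_flat (Φ : FibModel A X F) (h : ∀ q, Module.Flat A (Coh.HH X F q)) (p : ℕ)
    (x : PrimeSpectrum A) :
    FlatCx.fdim (Coh.HH X F p) x = CohIII.fiberRank (X ↘ Spec (CommRingCat.of A)) F p x := by
  obtain ⟨N, hN⟩ := Φ.bounded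
  refine fdim_HH_eq_fiberRank Φ p
    (Φ.L.flat_quot_of_flat_kerδ Φ.flat hN (N + 1) (p + 1) (by omega) fun n _ => ?_) x
  obtain ⟨e⟩ := nonempty_HH_equiv_kerδ Φ.toModel n
  haveI := h n
  exact Module.Flat.of_linearEquiv e.symm

end Groth.Agent.BCLib
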