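import Groth.Agent.BCLib.Local
import Groth.Agent.BCLib.Const
import Groth.Agent.PullbackMod.FibreRank

/-!
# Reduction to an affine open of the base
-/

set_option autoImplicit false
set_option backward.isDefEq.respectTransparency false
set_option backward.defeqAttrib.useBackward true
set_option linter.style.haveILetI false

universe u

open CategoryTheory CategoryTheory.Limits AlgebraicGeometry TopologicalSpace Opposite TensorProduct

noncomputable section

namespace Groth.Agent.BCLib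

variable {X Y : Scheme.{u}} (f : X ⟶ Y) {W : Y.Opens} (hW : IsAffineOpen W)

/-- `f⁻¹ W` over `Spec Γ(Y, W)`. -/
abbrev restOver : (f ⁻¹ᵁ W : Scheme.{u}) ⟶ Spec Γ(Y, W) := (f ∣_ W) ≫ hW.isoSpec.hom

theorem isPullback_restOver : IsPullback (f ⁻¹ᵁ W).ι (restOver f hW) f hW.fromSpec :=
  (isPullback_morphismRestrict f W).flip.of_iso (Iso.refl _) (Iso.refl _) hW.isoSpec (Iso.refl _)
    (by simp) (by simp) (by simp) (by simp [IsAffineOpen.isoSpec_hom])

/-- The restriction of `F` to `f⁻¹ W`. -/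
abbrev restMod (F : X.Modules) : (f ⁻¹ᵁ W : Scheme.{u}).Modules :=
  (Scheme.Modules.pullback (f ⁻¹ᵁ W).ι).obj F

theorem fiberRank_restOver [IsProper f] (F : X.Modules) [Coh.IsQCoh F] (p : ℕ) (q : Spec Γ(Y, W)) :
    CohIII.fiberRank (restOver f hW) (restMod f F) p q = CohIII.fiberRank f F p (hW.fromSpec q) :=
  fiberRank_baseChange (isPullback_restOver f hW) F p q

theorem isProper_restOver [IsProper f] : IsProper (restOver f hW) :=
  MorphismProperty.of_isPullback (isPullback_restOver f hW) inferInstance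

theorem isFlatOver_restMod {F : X.Modules} [Coh.IsQCoh F] (hfl : FlatMod.IsFlatOver f F) :
    FlatMod.IsFlatOver (restOver f hW) (restMod f F) := fun x =>
  PullbackMod.isFlatOverAt_baseChange (isPullback_restOver f hW) F x (hfl _)

theorem nonempty_fibModel_restOver [IsProper f] [IsLocallyNoetherian Y] {F : X.Modules} (hF : Coh.IsCoh F)
    (hfl : FlatMod.IsFlatOver f F) :
    letI : (f ⁻¹ᵁ W : Scheme.{u}).Over (Spec (CommRingCat.of Γ(Y, W))) := ⟨restOver f hW⟩
    Nonempty (FibModel Γ(Y, W) (f ⁻¹ᵁ W : Scheme.{u}) (restMod f F)) := by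
  letI : (f ⁻¹ᵁ W : Scheme.{u}).Over (Spec (CommRingCat.of Γ(Y, W))) := ⟨restOver f hW⟩
  haveI : IsNoetherianRing Γ(Y, W) := IsLocallyNoetherian.component_noetherian ⟨W, hW⟩
  haveI : Coh.IsQCoh F := hF.1
  haveI : IsProper ((f ⁻¹ᵁ W : Scheme.{u}) ↘ Spec (CommRingCat.of Γ(Y, W))) := isProper_restOver f hW
  exact nonempty_fibModel (PullbackMod.isCoh_pullback _ _ hF) (isFlatOver_restMod f hW hfl)

/-- A finite locally free sheaf is free of rank its fibre rank near every point. -/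
theorem exists_free_nhd_fibreRank {M : Y.Modules} (hM : FlatMod.IsFinLocFree M) (y : Y) :
    ∃ U : Y.Opens, y ∈ U ∧
      Nonempty (M.restrict U.ι ≅ FlatMod.freeMod (↑U) (PullbackMod.fibreRank M y)) := by
  haveI := (PullbackMod.isQCoh_and_isFP_of_isFinLocFree M hM).1
  obtain ⟨U, n, hyU, ⟨i⟩⟩ := hM y
  rw [PullbackMod.fibreRank_eq_of_freeAt M (PullbackMod.freeAt_of_restrict_iso M i hyU)]
  exact ⟨U, hyU, ⟨i⟩⟩

/-- A sheaf with flat finite sections of prescribed fibre dimensions. -/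
theorem isFinLocFree_and_free_nhd [IsLocallyNoetherian Y] (M : Y.Modules) [Coh.IsQCoh M] (h : Y → ℕ)
    (hMW : ∀ {W : Y.Opens} (hW : IsAffineOpen W), Module.Flat Γ(Y, W) Γ(M, W) ∧ Module.Finite Γ(Y, W) Γ(M, W) ∧
      ∀ q : PrimeSpectrum Γ(Y, W), FlatCx.fdim Γ(M, W) q = h (hW.fromSpec q)) :
    FlatMod.IsFinLocFree M ∧ ∀ y : Y, ∃ U : Y.Opens, y ∈ U ∧
      Nonempty (M.restrict U.ι ≅ FlatMod.freeMod (↑U) (h y)) := by
  have hM : FlatMod.IsFinLocFree M := PullbackMod.isFinLocFree_of_forall_affine M fun {W} hW => by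
    obtain ⟨h1, h2, -⟩ := hMW hW
    haveI := h1
    haveI := h2
    haveI : IsNoetherianRing Γ(Y, W) := IsLocallyNoetherian.component_noetherian ⟨W, hW⟩
    haveI : Module.FinitePresentation Γ(Y, W) Γ(M, W) := Module.finitePresentation_of_finite _ _
    exact ⟨h2, Module.Flat.projective_of_finitePresentation⟩
  refine ⟨hM, fun y => ?_⟩
  obtain ⟨_, ⟨W : Y.Opens, (hW : IsAffineOpen W), rfl⟩, hyW, -⟩ :=
    Y.isBasis_affineOpens.exists_subset_of_mem_open (Set.mem_univ y) isOpen_univ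
  obtain ⟨-, -, h3⟩ := hMW hW
  have hr : PullbackMod.fibreRank M y = h y := by
    have hh := h3 (hW.primeIdealOf ⟨y, hyW⟩)
    rw [hW.fromSpec_primeIdealOf] at hh
    rw [PullbackMod.fibreRank_eq M hW y hyW]
    exact hh
  exact hr ▸ exists_free_nhd_fibreRank hM y

end Groth.Agent.BCLib
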