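import Groth.Agent.BCLib.LiftFibre
import Groth.Agent.BCLib.AffBase
import Groth.Agent.AmpleLib.Pullback
import Groth.Agent.AmpleLib.GenLocus
import Groth.Agent.AmpleEmb.Inverse
import Groth.Agent.CurveLib.SerreAmple
import Groth.Agent.TildePerf.RelPerf

/-!
# An invertible module trivial on a fibre is trivial near the fibre
-/

set_option autoImplicit false
set_option backward.isDefEq.respectTransparency false
set_option backward.defeqAttrib.useBackward true
set_option linter.style.haveILetI false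

universe u

open CategoryTheory CategoryTheory.Limits AlgebraicGeometry TopologicalSpace Opposite
open Groth.Agent.CohBase Groth.Agent.ProjCoh Groth.Agent.FormalLib Groth.Agent.PullbackMod Groth.Agent.ParaFLib Groth.Agent.AmpleLib

noncomputable section

namespace Groth.Agent.BCLib

theorem exists_open_preimage_le {X Y : Scheme.{u}} (f : X ⟶ Y) [IsProper f] (G : X.Opens) (y : Y)
    (h : ∀ x : X, f x = y → x ∈ G) : ∃ U : Y.Opens, y ∈ U ∧ f ⁻¹ᵁ U ≤ G := by
  refine ⟨⟨(f '' (G : Set X)ᶜ)ᶜ, (f.isClosedMap _ G.2.isClosed_compl).isOpen_compl⟩, ?_, ?_⟩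
  · rintro ⟨x, hx, rfl⟩
    exact hx (h x rfl)
  · intro x hx
    by_contra hxG
    exact hx ⟨x, hxG, rfl⟩

theorem gen_of_le_genLocus {X : Scheme.{u}} {P : X.Modules} (hP : PicF.IsInvertible P)
    (s : Coh.structureModule X ⟶ P) {V : X.Opens} (hV : V ≤ CohB1.genLocus P s) :
    Gen V (resT (sec s) V) := gen_of_germ fun x hx => by
  have := (mem_genLocus_iff hP (s := s) (x := x)).1 (hV hx)
  simpa only [resT, TopCat.Presheaf.germ_res_apply] using this

theorem nonempty_restrict_iso_of_le_genLocus {X : Scheme.{u}} {P : X.Modules} (hP : PicF.IsInvertible P)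
    (s : Coh.structureModule X ⟶ P) {V : X.Opens} (hV : V ≤ CohB1.genLocus P s) :
    IsIso ((Scheme.Modules.restrictFunctor V.ι).map s) :=
  (isIso_restrict_iff s V).2 (gen_of_le_genLocus hP s hV)

/-- Over a Noetherian affine base: a section generating along the fibre. -/
theorem exists_sec_gen_fibre {R : CommRingCat.{u}} [IsNoetherianRing R] {X : Scheme.{u}}
    [X.Over (Spec (CommRingCat.of R))] [IsProper (str R X)] [Flat (str R X)] {P : X.Modules}
    (hP : PicF.IsInvertible P) (q : Spec R) (h1 : CohIII.fiberRank (str R X) P 1 q = 0)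
    (e : Coh.structureModule ((str R X).fiber q) ≅ (Scheme.Modules.pullback ((str R X).fiberι q)).obj P) :
    ∃ t : Coh.structureModule X ⟶ P, ∀ x : X, str R X x = q → x ∈ CohB1.genLocus P t := by
  haveI : IsLocallyNoetherian X := LocallyOfFiniteType.isLocallyNoetherian (str R X)
  haveI := InvExt.isQCoh_of_isInvertible hP
  let g := (str R X).fiberι q
  obtain ⟨s, c, hc, hs⟩ := exists_lift_fibre (CurveLib.isCoh_of_isInvertible hP)
    (TildePerf.isFlatOver_of_isFinLocFree _ (CurveLib.isFinLocFree_of_isInvertible hP)) q h1 (sec e.hom)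
  refine ⟨DCohLib.secHom P s, fun x hx => ?_⟩
  obtain ⟨z, rfl⟩ : ∃ z, g z = x := by
    have : x ∈ Set.range g := by rw [(str R X).range_fiberι q]; exact hx
    exact this
  rw [mem_genLocus_iff hP, sec_secHom]
  have hσ : Gen ⊤ (resT (sec e.hom) ⊤) :=
    (isIso_restrict_iff e.hom ⊤).1 inferInstance
  have hσ' := hσ.bijective_germ z trivial
  simp only [resT, TopCat.Presheaf.germ_res_apply] at hσ'
  obtain ⟨b, hb⟩ := exists_stalk_gen hP (g z)
  obtain ⟨a, ha⟩ := hb.2 (P.presheaf.germ ⊤ (g z) trivial s)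
  change a • b = _ at ha
  rw [← ha, AmpleLib.bijective_smul_iff hb]
  have key : g.stalkMap z a • pullStalk g P z b =
      ((str R X).fiber q).presheaf.germ ⊤ z trivial c •
        ((Scheme.Modules.pullback g).obj P).presheaf.germ ⊤ z trivial (sec e.hom) := by
    rw [← pullStalk_smul, ha, pullStalk_germ' g P z (W := ⊤) (W' := ⊤) trivial trivial le_top, hs, germ_smul']
  have hbij := bijective_pullStalk g z hb
  have h2 : Function.Bijective fun r : ((str R X).fiber q).presheaf.stalk z =>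
      r • g.stalkMap z a • pullStalk g P z b := by
    rw [key]
    exact (AmpleLib.bijective_smul_iff hσ' _).2 (hc.map _)
  exact isUnit_of_map_unit (g.stalkMap z).hom a ((AmpleLib.bijective_smul_iff hbij _).1 h2)

/-- A map from the fibre of the restriction to the fibre. -/
def fiberRestMap {X Y : Scheme.{u}} (f : X ⟶ Y) {W : Y.Opens} (hW : IsAffineOpen W) (q : Spec Γ(Y, W)) :
    (restOver f hW).fiber q ⟶ f.fiber (hW.fromSpec q) :=
  pullback.lift ((restOver f hW).fiberι q ≫ (f ⁻¹ᵁ W).ι)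
    ((restOver f hW).fiberToSpecResidueField q ≫ Spec.map (hW.fromSpec.residueFieldMap q))
    (by
      refine ((Category.assoc _ _ _).trans ?_).trans (Category.assoc _ _ _).symm
      rw [(isPullback_restOver f hW).w, Scheme.Hom.SpecMap_residueFieldMap_fromSpecResidueField]
      exact pullback.condition_assoc _)

theorem fiberRestMap_ι {X Y : Scheme.{u}} (f : X ⟶ Y) {W : Y.Opens} (hW : IsAffineOpen W) (q : Spec Γ(Y, W)) :
    fiberRestMap f hW q ≫ f.fiberι (hW.fromSpec q) = (restOver f hW).fiberι q ≫ (f ⁻¹ᵁ W).ι :=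
  pullback.lift_fst _ _ _

/-- An invertible module with trivial fibre at `y` and vanishing `H¹` there is trivial near the fibre. -/
theorem exists_nhd_iso_structureModule {X Y : Scheme.{u}} (f : X ⟶ Y) [IsProper f] [Flat f]
    [IsLocallyNoetherian Y] {P : X.Modules} (hP : PicF.IsInvertible P) (y : Y)
    (h1 : CohIII.fiberRank f P 1 y = 0)
    (e : Coh.structureModule (f.fiber y) ≅ (Scheme.Modules.pullback (f.fiberι y)).obj P) :
    ∃ U : Y.Opens, y ∈ U ∧
      Nonempty ((Scheme.Modules.pullback (f ⁻¹ᵁ U).ι).obj P ≅ Coh.structureModule (f ⁻¹ᵁ U : Scheme.{u})) := by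
  haveI := InvExt.isQCoh_of_isInvertible hP
  obtain ⟨_, ⟨W : Y.Opens, (hW : IsAffineOpen W), rfl⟩, hyW, -⟩ :=
    Y.isBasis_affineOpens.exists_subset_of_mem_open (Set.mem_univ y) isOpen_univ
  obtain ⟨q, rfl⟩ : ∃ q, hW.fromSpec q = y := ⟨_, hW.fromSpec_primeIdealOf ⟨y, hyW⟩⟩
  letI : (f ⁻¹ᵁ W : Scheme.{u}).Over (Spec (CommRingCat.of Γ(Y, W))) := ⟨restOver f hW⟩
  haveI : IsNoetherianRing Γ(Y, W) := IsLocallyNoetherian.component_noetherian ⟨W, hW⟩
  haveI hpr : IsProper (restOver f hW) := isProper_restOver f hW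
  haveI : IsProper (str Γ(Y, W) (f ⁻¹ᵁ W : Scheme.{u})) := hpr
  haveI hfl : Flat (restOver f hW) := MorphismProperty.of_isPullback (isPullback_restOver f hW) inferInstance
  haveI : Flat (str Γ(Y, W) (f ⁻¹ᵁ W : Scheme.{u})) := hfl
  have hPW := AmpleLib.isInvertible_pullback (f ⁻¹ᵁ W).ι hP
  let eW : Coh.structureModule ((restOver f hW).fiber q) ≅
      (Scheme.Modules.pullback ((restOver f hW).fiberι q)).obj (restMod f P) :=
    (pullUnit (fiberRestMap f hW q)).symm ≪≫ (Scheme.Modules.pullback (fiberRestMap f hW q)).mapIso e ≪≫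
      (Scheme.Modules.pullbackComp (fiberRestMap f hW q) (f.fiberι (hW.fromSpec q))).app P ≪≫
      (Scheme.Modules.pullbackCongr (fiberRestMap_ι f hW q)).app P ≪≫
      ((Scheme.Modules.pullbackComp ((restOver f hW).fiberι q) (f ⁻¹ᵁ W).ι).app P).symm
  obtain ⟨t, ht⟩ := exists_sec_gen_fibre (R := Γ(Y, W)) hPW q ((fiberRank_restOver f hW P 1 q).trans h1) eW
  let G : X.Opens := (f ⁻¹ᵁ W).ι ''ᵁ CohB1.genLocus _ t
  have hG : ∀ x : X, f x = hW.fromSpec q → x ∈ G := fun x hx => by
    have hxW : x ∈ f ⁻¹ᵁ W := show f x ∈ W by rw [hx]; exact hyW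
    refine ⟨⟨x, hxW⟩, ht _ (hW.fromSpec.isOpenEmbedding.injective ?_), rfl⟩
    show hW.fromSpec (restOver f hW ⟨x, hxW⟩) = _
    rw [← Scheme.Hom.comp_apply, ← (isPullback_restOver f hW).w, Scheme.Hom.comp_apply]
    exact hx
  obtain ⟨U₀, hyU, hU₀⟩ := exists_open_preimage_le f G (hW.fromSpec q) hG
  refine ⟨U₀, hyU, ?_⟩
  have hVW : f ⁻¹ᵁ U₀ ≤ f ⁻¹ᵁ W := hU₀.trans (fun x hx => by obtain ⟨w, -, rfl⟩ := hx; exact w.2)
  let j := X.homOfLE hVW
  have hjV : j.opensRange ≤ CohB1.genLocus _ t := fun w hw => by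
    obtain ⟨v, rfl⟩ := hw
    obtain ⟨w', hw', hww⟩ := hU₀ v.2
    have : w' = j v := (f ⁻¹ᵁ W).ι.isOpenEmbedding.injective (hww.trans (by
      rw [← Scheme.Hom.comp_apply, Scheme.homOfLE_ι]; rfl))
    exact this ▸ hw'
  haveI := nonempty_restrict_iso_of_le_genLocus hPW t hjV
  haveI : IsIso ((Scheme.Modules.pullback j.opensRange.ι).map t) :=
    (NatIso.isIso_map_iff (Scheme.Modules.restrictFunctorIsoPullback j.opensRange.ι) t).1 inferInstance
  let k := j.isoOpensRange
  have hk : k.hom ≫ j.opensRange.ι = j := Scheme.Hom.isoOpensRange_hom_ι j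
  haveI : IsIso ((Scheme.Modules.pullback k.hom).map ((Scheme.Modules.pullback j.opensRange.ι).map t)) :=
    inferInstance
  haveI : IsIso ((Scheme.Modules.pullback (k.hom ≫ j.opensRange.ι)).map t) :=
    (NatIso.isIso_map_iff (Scheme.Modules.pullbackComp k.hom j.opensRange.ι) t).1 this
  haveI : IsIso ((Scheme.Modules.pullback j).map t) :=
    (NatIso.isIso_map_iff (Scheme.Modules.pullbackCongr hk) t).1 this
  exact ⟨(Scheme.Modules.pullbackCongr (X.homOfLE_ι hVW).symm).app P ≪≫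
    ((Scheme.Modules.pullbackComp j (f ⁻¹ᵁ W).ι).app P).symm ≪≫
    (asIso ((Scheme.Modules.pullback j).map t)).symm ≪≫ pullUnit j⟩

theorem fiberRank_eq_zero_of_iso {X Y : Scheme.{u}} (f : X ⟶ Y) {P : X.Modules} (y : Y) {p : ℕ}
    (h : Subsingleton (Coh.HH (f.fiber y) (Coh.structureModule (f.fiber y)) p))
    (e : Coh.structureModule (f.fiber y) ≅ (Scheme.Modules.pullback (f.fiberι y)).obj P) :
    CohIII.fiberRank f P p y = 0 := by
  letI : (f.fiber y).Over (Spec (CommRingCat.of (Y.residueField y))) := ⟨f.fiberToSpecResidueField y⟩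
  haveI : Subsingleton (CohIII.fiberH f P y p) :=
    (hhEquivL (A := Y.residueField y) e p).toEquiv.subsingleton_congr.1 h
  exact Module.finrank_zero_of_subsingleton

/-- Invertible modules which agree on a fibre with vanishing `H¹(O)` agree near the fibre. -/
theorem exists_nhd_iso_of_fibre_iso {X Y : Scheme.{u}} (f : X ⟶ Y) [IsProper f] [Flat f] [IsLocallyNoetherian Y]
    (y : Y) (h1 : Subsingleton (Coh.HH (f.fiber y) (Coh.structureModule (f.fiber y)) 1))
    {L M : X.Modules} (hL : PicF.IsInvertible L) (hM : PicF.IsInvertible M)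
    (ey : (Scheme.Modules.pullback (f.fiberι y)).obj L ≅ (Scheme.Modules.pullback (f.fiberι y)).obj M) :
    ∃ U : Y.Opens, y ∈ U ∧ Nonempty (L.restrict (f ⁻¹ᵁ U).ι ≅ M.restrict (f ⁻¹ᵁ U).ι) := by
  obtain ⟨N, hN, ⟨eN⟩⟩ := AmpleEmb.exists_isInverseOf hL
  let P := CohB1.tensorMod N M
  let g := f.fiberι y
  let e : Coh.structureModule (f.fiber y) ≅ (Scheme.Modules.pullback g).obj P :=
    (pullO g).symm ≪≫ (Scheme.Modules.pullback g).mapIso eN.symm ≪≫ pullTensor g L N ≪≫ AmpleLib.comm _ _ ≪≫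
      AmpleLib.tIso (Iso.refl _) ey ≪≫ (pullTensor g N M).symm
  obtain ⟨U, hyU, ⟨i⟩⟩ := exists_nhd_iso_structureModule f (isInvertible_tensor hN hM) y
    (fiberRank_eq_zero_of_iso f y h1 e) e
  let j := (f ⁻¹ᵁ U).ι
  exact ⟨U, hyU, ⟨(Scheme.Modules.restrictFunctorIsoPullback j).app L ≪≫ (unitR _).symm ≪≫
    AmpleLib.tIso (Iso.refl _) (i.symm ≪≫ pullTensor j N M) ≪≫ (AmpleLib.assoc _ _ _).symm ≪≫
    AmpleLib.tIso ((pullTensor j L N).symm ≪≫ (Scheme.Modules.pullback j).mapIso eN ≪≫ pullO j) (Iso.refl _) ≪≫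
    unitL _ ≪≫ ((Scheme.Modules.restrictFunctorIsoPullback j).app M).symm⟩⟩

end Groth.Agent.BCLib
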