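import Groth.Agent.BCLib.HHMap

/-!
# Semicontinuity and constancy of fibre dimensions
-/

set_option autoImplicit false
set_option backward.isDefEq.respectTransparency false
set_option backward.defeqAttrib.useBackward true

universe u

open CategoryTheory CategoryTheory.Limits AlgebraicGeometry TopologicalSpace Opposite TensorProduct

noncomputable section

namespace Groth.Agent.BCLib

namespace Cx

variable {A : Type u} [CommRing A] (L : Cx A)

theorem kdim_δ_add (hfin : ∀ n, Module.Finite A (L.X n)) (n : ℕ) (x : PrimeSpectrum A) :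
    FlatCx.kdim (L.δ n) x.asIdeal.ResidueField + FlatCx.fdim (L.X (n + 1)) x =
      FlatCx.fdim (L.X n ⧸ L.bd n) x + FlatCx.fdim (L.X (n + 1) ⧸ L.bd (n + 1)) x := by
  haveI := hfin n; haveI := hfin (n + 1)
  rw [show FlatCx.fdim (L.X (n + 1) ⧸ L.bd (n + 1)) x =
      FlatCx.fdim (L.X (n + 1) ⧸ LinearMap.range (L.δ n)) x from
    ((Submodule.quotEquivOfEq _ _ (L.range_δ n).symm).baseChange A x.asIdeal.ResidueField _ _).finrank_eq]
  exact FlatCx.kdim_add (L.δ n) x.asIdeal.ResidueField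

theorem kdim_δ_upperSemicontinuous [IsNoetherianRing A] (hfin : ∀ n, Module.Finite A (L.X n))
    (hflat : ∀ n, Module.Flat A (L.X n)) (n : ℕ) :
    UpperSemicontinuous fun x : PrimeSpectrum A => FlatCx.kdim (L.δ n) x.asIdeal.ResidueField := by
  haveI := hfin n; haveI := hfin (n + 1); haveI := hflat (n + 1)
  haveI : Module.FinitePresentation A (L.X (n + 1)) := Module.finitePresentation_of_finite A _
  intro x N hN
  obtain ⟨U, hU, hxU, h⟩ := FlatCx.exists_nhd_fdim_le (L.X n ⧸ L.bd n) x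
  obtain ⟨V, hV, hxV, h'⟩ := FlatCx.exists_nhd_fdim_le (L.X (n + 1) ⧸ L.bd (n + 1)) x
  have hW : IsOpen ((fun y : PrimeSpectrum A => FlatCx.fdim (L.X (n + 1)) y) ⁻¹'
      {FlatCx.fdim (L.X (n + 1)) x}) := FlatCx.fdim_isLocallyConstant _ _
  refine Filter.mem_of_superset (((hU.inter hV).inter hW).mem_nhds ⟨⟨hxU, hxV⟩, rfl⟩) ?_
  rintro y ⟨⟨hyU, hyV⟩, hyW⟩
  have e1 := L.kdim_δ_add hfin n x
  have e2 := L.kdim_δ_add hfin n y
  have e3 : FlatCx.fdim (L.X (n + 1)) y = FlatCx.fdim (L.X (n + 1)) x := hyW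
  have h1 := h y hyU
  have h2 := h' y hyV
  show FlatCx.kdim (L.δ n) y.asIdeal.ResidueField < N
  replace hN : FlatCx.kdim (L.δ n) x.asIdeal.ResidueField < N := hN
  omega

/-- If the fibre dimensions of cohomology are locally constant over a reduced ring, the two relevant
cokernels are flat. -/
theorem flat_quot_of_kdim_isLocallyConstant [IsNoetherianRing A] [IsReduced A]
    (hfin : ∀ n, Module.Finite A (L.X n)) (hflat : ∀ n, Module.Flat A (L.X n)) (n : ℕ)
    (h : IsLocallyConstant fun x : PrimeSpectrum A => FlatCx.kdim (L.δ n) x.asIdeal.ResidueField) :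
    Module.Flat A (L.X n ⧸ L.bd n) ∧ Module.Flat A (L.X (n + 1) ⧸ L.bd (n + 1)) := by
  haveI := hfin n; haveI := hfin (n + 1); haveI := hflat (n + 1)
  haveI : Module.FinitePresentation A (L.X (n + 1)) := Module.finitePresentation_of_finite A _
  suffices hh : ∀ x : PrimeSpectrum A, ∀ᶠ y in nhds x,
      FlatCx.fdim (L.X n ⧸ L.bd n) y = FlatCx.fdim (L.X n ⧸ L.bd n) x ∧
        FlatCx.fdim (L.X (n + 1) ⧸ L.bd (n + 1)) y = FlatCx.fdim (L.X (n + 1) ⧸ L.bd (n + 1)) x from
    ⟨FlatCx.flat_of_fdim_isLocallyConstant _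
      ((IsLocallyConstant.iff_eventually_eq _).2 fun x => (hh x).mono fun _ h => h.1),
    FlatCx.flat_of_fdim_isLocallyConstant _
      ((IsLocallyConstant.iff_eventually_eq _).2 fun x => (hh x).mono fun _ h => h.2)⟩
  intro x
  obtain ⟨U, hU, hxU, h1⟩ := FlatCx.exists_nhd_fdim_le (L.X n ⧸ L.bd n) x
  obtain ⟨V, hV, hxV, h2⟩ := FlatCx.exists_nhd_fdim_le (L.X (n + 1) ⧸ L.bd (n + 1)) x
  have h3 := (IsLocallyConstant.iff_eventually_eq _).1
    (FlatCx.fdim_isLocallyConstant (A := A) (L.X (n + 1))) x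
  have h4 := (IsLocallyConstant.iff_eventually_eq _).1 h x
  filter_upwards [hU.mem_nhds hxU, hV.mem_nhds hxV, h3, h4] with y hyU hyV e3 e4
  have e1 := L.kdim_δ_add hfin n x
  have e2 := L.kdim_δ_add hfin n y
  have i1 := h1 y hyU
  have i2 := h2 y hyV
  constructor <;> omega

end Cx

variable {A : Type u} [CommRing A] {X : Scheme.{u}} [X.Over (Spec (CommRingCat.of A))] {F : X.Modules}

include X F in
theorem flat_coker_δ {Φ : Model A X F} {p : ℕ} (h : Module.Flat A (Φ.L.X (p + 1) ⧸ Φ.L.bd (p + 1))) :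
    Module.Flat A (Φ.L.X (p + 1) ⧸ LinearMap.range (Φ.L.δ p)) :=
  Module.Flat.of_linearEquiv (Submodule.quotEquivOfEq _ _ (Φ.L.range_δ p))

theorem preservesEpi_of_flat (Φ : Model A X F) (p : ℕ)
    (h : Module.Flat A (Φ.L.X (p + 1) ⧸ Φ.L.bd (p + 1))) :
    (CohIII.tensorAFunctor A F ⋙ CohIII.HAb X p).PreservesEpimorphisms :=
  haveI := flat_coker_δ h
  ⟨fun g _ => (AddCommGrpCat.epi_iff_surjective _).2
    (surjective_tH_of_flat Φ p g ((ModuleCat.epi_iff_surjective g).1 inferInstance))⟩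

/-- `H^p(X, F) = ker δ_p`. -/
theorem nonempty_HH_equiv_kerδ (Φ : Model A X F) (p : ℕ) :
    Nonempty (Coh.HH X F p ≃ₗ[A] LinearMap.ker (Φ.L.δ p)) := by
  let r := TensorProduct.rid A (Φ.L.X p)
  have hd : ∀ w, Φ.L.d p (r w) = TensorProduct.rid A _ (Φ.L.dT A p w) := fun w => by
    induction w using TensorProduct.induction_on with
    | zero => simp
    | tmul y c => simp [r, Cx.dT]
    | add a b ha hb => simp only [map_add, ha, hb]
  let pr : Φ.L.Z A p →ₗ[A] LinearMap.ker (Φ.L.δ p) :=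
    ((Φ.L.bd p).mkQ ∘ₗ r.toLinearMap).restrict fun z hz => LinearMap.mem_ker.2 (by
      show Φ.L.d p (r z) = 0
      rw [hd, show Φ.L.dT A p z = 0 from hz, map_zero])
  have hpr : Function.Surjective pr := by
    rintro ⟨w, hw⟩
    obtain ⟨y, rfl⟩ := Submodule.mkQ_surjective _ w
    refine ⟨⟨r.symm y, LinearMap.mem_ker.2 ((TensorProduct.rid A (Φ.L.X (p + 1))).injective ?_)⟩,
      Subtype.ext (congrArg (Φ.L.bd p).mkQ (r.apply_symm_apply y))⟩
    rw [← hd, r.apply_symm_apply, map_zero]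
    exact LinearMap.mem_ker.1 hw
  have hmk : ∀ z, TensorProduct.rid A (Φ.L.X p ⧸ Φ.L.bd p) ((Φ.L.bd p).mkQ.rTensor A z) =
      (Φ.L.bd p).mkQ (r z) := fun z => by
    induction z using TensorProduct.induction_on with
    | zero => simp
    | tmul y c => simp [r]
    | add a b ha hb => simp only [map_add, ha, hb]
  have hker : LinearMap.ker (Φ.ev (ModuleCat.of A A) p) = LinearMap.ker pr := Submodule.ext fun z => by
    refine (Φ.ev_eq_zero_iff _ p z).trans ?_
    rw [← Cx.ker_rTensor_mkQ_bd, LinearMap.mem_ker, ← map_eq_zero_iff _ (TensorProduct.rid A _).injective]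
    exact ⟨fun h => LinearMap.mem_ker.2 (Subtype.ext ((hmk z.1).symm.trans h)),
      fun h => (hmk z.1).trans (congrArg Subtype.val (LinearMap.mem_ker.1 h))⟩
  exact ⟨hhEquivL (tensorASelfIso A F).symm p ≪≫ₗ
    (LinearMap.quotKerEquivOfSurjective (R := A) (M := ↥(Φ.L.Z A p))
      (M₂ := Coh.HH X (tA A F (ModuleCat.of A A)) p) (Φ.ev (ModuleCat.of A A) p) (Φ.ev_surjective _ p)).symm ≪≫ₗ
    Submodule.quotEquivOfEq _ _ hker ≪≫ₗ
    LinearMap.quotKerEquivOfSurjective (R := A) (M := ↥(Φ.L.Z A p))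
      (M₂ := ↥(LinearMap.ker (Φ.L.δ p))) pr hpr⟩

theorem flat_kerδ (Φ : Model A X F) (p : ℕ) (h₀ : Module.Flat A (Φ.L.X p ⧸ Φ.L.bd p))
    (h₁ : Module.Flat A (Φ.L.X (p + 1) ⧸ Φ.L.bd (p + 1))) : Module.Flat A (LinearMap.ker (Φ.L.δ p)) := by
  haveI := Φ.flat (p + 1)
  haveI := flat_coker_δ h₁
  haveI := h₀
  rw [Module.Flat.iff_lTensor_preserves_injective_linearMap]
  intro M N _ _ _ _ g hg x y hxy
  apply (FlatCx.kerTensor_injective_range (Φ.L.δ p) M).1
  apply Module.Flat.lTensor_preserves_injective_linearMap (M := Φ.L.X p ⧸ Φ.L.bd p) g hg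
  rw [← LinearMap.comp_apply, LinearMap.lTensor_comp_rTensor, ← LinearMap.rTensor_comp_lTensor,
    LinearMap.comp_apply, hxy, ← LinearMap.comp_apply, LinearMap.rTensor_comp_lTensor,
    ← LinearMap.lTensor_comp_rTensor, LinearMap.comp_apply]

end Groth.Agent.BCLib
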