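import Groth.Agent.BCLib.Main

/-!
# The local criterion for the exchange property
-/

set_option autoImplicit false
set_option backward.isDefEq.respectTransparency false
set_option backward.defeqAttrib.useBackward true

universe u

open CategoryTheory CategoryTheory.Limits AlgebraicGeometry TensorProduct

noncomputable section

namespace Groth.Agent.BCLib

namespace Cx

variable {A : Type u} [CommRing A] (L : Cx A)

/-- Coboundaries of the complex itself. -/
def bd : ∀ n, Submodule A (L.X n)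
  | 0 => ⊥
  | n + 1 => LinearMap.range (L.d n)

theorem bd_le_ker : ∀ n, L.bd n ≤ LinearMap.ker (L.d n)
  | 0 => bot_le
  | n + 1 => by
    rintro _ ⟨x, rfl⟩
    exact L.d_d_apply n x

/-- The differential on cochains modulo coboundaries. -/
def δ (n : ℕ) : (L.X n ⧸ L.bd n) →ₗ[A] L.X (n + 1) := (L.bd n).liftQ (L.d n) (L.bd_le_ker n)

variable (M : Type u) [AddCommGroup M] [Module A M]

theorem δ_rTensor_mkQ (n : ℕ) (z : L.X n ⊗[A] M) :
    (L.δ n).rTensor M ((L.bd n).mkQ.rTensor M z) = L.dT M n z := by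
  rw [← LinearMap.rTensor_comp_apply, δ, Submodule.liftQ_mkQ]

theorem ker_rTensor_mkQ_bd (n : ℕ) : LinearMap.ker ((L.bd n).mkQ.rTensor M) = L.B M n := by
  have h := LinearMap.exact_iff.1
    (rTensor_exact M (LinearMap.exact_subtype_mkQ (L.bd n)) (Submodule.mkQ_surjective _))
  rw [h]
  cases n with
  | zero =>
    show _ = (⊥ : Submodule A (L.X 0 ⊗[A] M))
    rw [eq_bot_iff]
    rintro _ ⟨w, rfl⟩
    have hsub : (L.bd 0).subtype = 0 := LinearMap.ext fun y => (Submodule.mem_bot A).1 y.2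
    rw [hsub, LinearMap.rTensor_zero]
    exact zero_mem _
  | succ n =>
    show _ = LinearMap.range ((L.d n).rTensor M)
    rw [show L.d n = (L.bd (n + 1)).subtype ∘ₗ (L.d n).rangeRestrict from rfl, LinearMap.rTensor_comp,
      LinearMap.range_comp_of_range_eq_top]
    exact LinearMap.range_eq_top.2 (LinearMap.rTensor_surjective M (L.d n).surjective_rangeRestrict)

end Cx

variable {A : Type u} [CommRing A] {X : Scheme.{u}} [X.Over (Spec (CommRingCat.of A))] {F : X.Modules}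
  (Φ : Model A X F) (p : ℕ)

/-- The map induced by `g` on `H^p`. -/
abbrev tH {M N : ModuleCat.{u} A} (g : M ⟶ N) : Coh.HH X (tA A F M) p →+ Coh.HH X (tA A F N) p :=
  ((CohIII.tensorAFunctor A F ⋙ CohIII.HAb X p).map g).hom

theorem tH_ev {M N : ModuleCat.{u} A} (g : M ⟶ N) (z : Φ.L.Z M p) (z' : Φ.L.Z N p)
    (h : z'.1 = g.hom.lTensor _ z.1) : tH p g (Φ.ev M p z) = Φ.ev N p z' :=
  Φ.ev_natural g p z z' h

theorem kerTensorSurj_aux (L : Cx A) (n : ℕ) (k : Type u) [AddCommGroup k] [Module A k] (f : A →ₗ[A] k)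
    (z : L.X n ⊗[A] k) (z₀ : L.X n ⊗[A] A) (hz₀ : L.dT A n z₀ = 0)
    (hB : z - f.lTensor (L.X n) z₀ ∈ L.B k n) :
    (L.bd n).mkQ.rTensor k z ∈ LinearMap.range ((LinearMap.ker (L.δ n)).subtype.rTensor k) := by
  rw [← L.ker_rTensor_mkQ_bd, LinearMap.mem_ker, map_sub, sub_eq_zero] at hB
  obtain ⟨v, hv⟩ := FlatCx.kerTensorSurj_self (L.δ n)
    (show (L.bd n).mkQ.rTensor A z₀ ∈ LinearMap.ker ((L.δ n).rTensor A) by
      rw [LinearMap.mem_ker, Cx.δ_rTensor_mkQ, hz₀])
  refine ⟨f.lTensor _ v, ?_⟩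
  rw [hB, ← LinearMap.comp_apply, LinearMap.rTensor_comp_lTensor, ← LinearMap.lTensor_comp_rTensor,
    LinearMap.comp_apply, hv, ← LinearMap.comp_apply, LinearMap.lTensor_comp_rTensor, ← LinearMap.comp_apply,
    LinearMap.rTensor_comp_lTensor]

theorem lTensor_mem_Z (L : Cx A) (n : ℕ) {M N : Type u} [AddCommGroup M] [Module A M] [AddCommGroup N]
    [Module A N] (f : M →ₗ[A] N) {z : L.X n ⊗[A] M} (hz : z ∈ L.Z M n) :
    f.lTensor (L.X n) z ∈ L.Z N n := by
  rw [LinearMap.mem_ker, Cx.dT, ← LinearMap.comp_apply, LinearMap.rTensor_comp_lTensor,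
    ← LinearMap.lTensor_comp_rTensor, LinearMap.comp_apply,
    show (L.d n).rTensor M z = 0 from hz, map_zero]

include Φ in
theorem kerTensorSurj_of_surjective (k : Type u) [CommRing k] [Algebra A k]
    (h : Function.Surjective (tH (F := F) p (ModuleCat.ofHom (Algebra.linearMap A k)))) :
    FlatCx.KerTensorSurj (Φ.L.δ p) k := by
  intro w hw
  obtain ⟨z, rfl⟩ := LinearMap.rTensor_surjective k (Submodule.mkQ_surjective (Φ.L.bd p)) w
  have hz : Φ.L.dT k p z = 0 := (Φ.L.δ_rTensor_mkQ k p z).symm.trans (LinearMap.mem_ker.1 hw)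
  obtain ⟨y, hy⟩ := h (Φ.ev (ModuleCat.of A k) p ⟨z, LinearMap.mem_ker.2 hz⟩)
  obtain ⟨z₀, rfl⟩ := Φ.ev_surjective (ModuleCat.of A A) p y
  let z' : Φ.L.Z (ModuleCat.of A k) p :=
    ⟨(Algebra.linearMap A k).lTensor (Φ.L.X p) z₀.1, lTensor_mem_Z Φ.L p _ z₀.2⟩
  have hy' : Φ.ev (ModuleCat.of A k) p z' = Φ.ev (ModuleCat.of A k) p ⟨z, LinearMap.mem_ker.2 hz⟩ :=
    (tH_ev Φ p (ModuleCat.ofHom (Algebra.linearMap A k)) z₀ z' rfl).symm.trans hy
  exact kerTensorSurj_aux Φ.L p k (Algebra.linearMap A k) z z₀.1 (LinearMap.mem_ker.1 z₀.2)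
    ((Φ.ev_eq_zero_iff (ModuleCat.of A k) p (⟨z, LinearMap.mem_ker.2 hz⟩ - z')).1
      (by rw [map_sub, hy', sub_self]))

include Φ in
theorem surjective_tH_of_flat [Module.Flat A (Φ.L.X (p + 1) ⧸ LinearMap.range (Φ.L.δ p))]
    {M N : ModuleCat.{u} A} (g : M ⟶ N) (hg : Function.Surjective g.hom) :
    Function.Surjective (tH (F := F) p g) := by
  haveI := Φ.flat (p + 1)
  intro x
  obtain ⟨⟨z, hz⟩, rfl⟩ := Φ.ev_surjective N p x
  have hw : (Φ.L.bd p).mkQ.rTensor N z ∈ LinearMap.ker ((Φ.L.δ p).rTensor N) := by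
    rw [LinearMap.mem_ker, Cx.δ_rTensor_mkQ]
    exact hz
  rw [← (FlatCx.kerTensor_injective_range (Φ.L.δ p) N).2] at hw
  obtain ⟨v, hv⟩ := hw
  obtain ⟨v', rfl⟩ := LinearMap.lTensor_surjective _ hg v
  obtain ⟨z', hz'⟩ := LinearMap.rTensor_surjective (M : Type u) (Submodule.mkQ_surjective (Φ.L.bd p))
    ((LinearMap.ker (Φ.L.δ p)).subtype.rTensor M v')
  have hz'Z : z' ∈ Φ.L.Z M p := by
    rw [LinearMap.mem_ker, ← Cx.δ_rTensor_mkQ, hz', ← LinearMap.rTensor_comp_apply, LinearMap.comp_ker_subtype,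
      LinearMap.rTensor_zero, LinearMap.zero_apply]
  have hgz' : g.hom.lTensor _ z' ∈ Φ.L.Z N p := by
    rw [LinearMap.mem_ker, Cx.dT, ← LinearMap.comp_apply, LinearMap.rTensor_comp_lTensor,
      ← LinearMap.lTensor_comp_rTensor, LinearMap.comp_apply,
      show (Φ.L.d p).rTensor M z' = 0 from hz'Z, map_zero]
  refine ⟨Φ.ev M p ⟨z', hz'Z⟩, ?_⟩
  rw [tH_ev Φ p g ⟨z', hz'Z⟩ ⟨_, hgz'⟩ rfl, ← sub_eq_zero, ← map_sub, Φ.ev_eq_zero_iff]
  rw [AddSubgroupClass.coe_sub, ← Cx.ker_rTensor_mkQ_bd, LinearMap.mem_ker, map_sub, sub_eq_zero, ← hv,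
    ← LinearMap.comp_apply, LinearMap.rTensor_comp_lTensor, ← LinearMap.lTensor_comp_rTensor,
    LinearMap.comp_apply, hz', ← LinearMap.comp_apply, LinearMap.lTensor_comp_rTensor, ← LinearMap.comp_apply,
    LinearMap.rTensor_comp_lTensor]

include Φ in
/-- The criterion. -/
theorem preservesEpi_iff [IsNoetherianRing A] [IsLocalRing A] :
    (CohIII.tensorAFunctor A F ⋙ CohIII.HAb X p).PreservesEpimorphisms ↔
      Function.Surjective (tH (F := F) p
        (ModuleCat.ofHom (Algebra.linearMap A (IsLocalRing.ResidueField A)))) := by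
  constructor
  · intro h
    haveI : Epi (ModuleCat.ofHom (Algebra.linearMap A (IsLocalRing.ResidueField A))) :=
      (ModuleCat.epi_iff_surjective _).2 IsLocalRing.residue_surjective
    exact (AddCommGrpCat.epi_iff_surjective _).1 (inferInstanceAs (Epi
      ((CohIII.tensorAFunctor A F ⋙ CohIII.HAb X p).map
        (ModuleCat.ofHom (Algebra.linearMap A (IsLocalRing.ResidueField A))))))
  · intro h
    haveI := Φ.finite p
    haveI := Φ.finite (p + 1)
    haveI := Φ.flat (p + 1)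
    haveI := FlatCx.flat_coker_of_kerTensorSurj (Φ.L.δ p) (kerTensorSurj_of_surjective Φ p _ h)
    exact ⟨fun g _ => (AddCommGrpCat.epi_iff_surjective _).2
      (surjective_tH_of_flat Φ p g ((ModuleCat.epi_iff_surjective g).1 inferInstance))⟩

end Groth.Agent.BCLib
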