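import Groth.Agent.BCLib.BaseChange
import Groth.Agent.BCLib.Criterion

/-!
# A finite complex computing the cohomology of all fibres
-/

set_option autoImplicit false
set_option backward.isDefEq.respectTransparency false
set_option backward.defeqAttrib.useBackward true
set_option linter.style.haveILetI false

universe u

open CategoryTheory CategoryTheory.Limits AlgebraicGeometry TopologicalSpace Opposite TensorProduct
open Groth.Agent.CohBase Groth.Agent.ProjCoh Groth.Agent.FormalLib

noncomputable section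

namespace Groth.Agent.BCLib

/-- Cochains are invariant under isomorphisms of sheaves. -/
def cochEquiv {A : Type u} [CommRing A] {X : Scheme.{u}} [X.Over (Spec (CommRingCat.of A))] {ι : Type u}
    (V : ι → X.Opens) {N N' : X.Modules} (e : N ≅ N') (q : ℕ) :
    Coch (str A X) N V q ≃ₗ[A] Coch (str A X) N' V q :=
  LinearEquiv.ofLinear (cochMap V e.hom q) (cochMap V e.inv q)
    (by rw [← cochMap_comp, e.inv_hom_id]; exact LinearMap.ext fun _ => rfl)
    (by rw [← cochMap_comp, e.hom_inv_id]; exact LinearMap.ext fun _ => rfl)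

namespace Cx

variable {A : Type u} [CommRing A] (L : Cx A)

theorem range_δ (n : ℕ) : LinearMap.range (L.δ n) = L.bd (n + 1) := Submodule.range_liftQ _ _ _

theorem baseChange_δ_mkQ (B : Type u) [CommRing B] [Algebra A B] (n : ℕ) (z : B ⊗[A] L.X n) :
    (L.δ n).baseChange B ((L.bd n).mkQ.baseChange B z) = (L.d n).baseChange B z := by
  rw [← LinearMap.comp_apply, ← LinearMap.baseChange_comp, δ, Submodule.liftQ_mkQ]

theorem baseChange_mkQ_eq_zero_iff (B : Type u) [CommRing B] [Algebra A B] (n : ℕ) (z : B ⊗[A] L.X n) :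
    (L.bd n).mkQ.baseChange B z = 0 ↔ z ∈ L.bBC B n := by
  obtain ⟨z, rfl⟩ := (TensorProduct.comm A (L.X n) B).surjective z
  rw [L.mem_bBC_iff, ← L.ker_rTensor_mkQ_bd, LinearMap.mem_ker]
  have h : TensorProduct.comm A _ B ((L.bd n).mkQ.rTensor B z) =
      (L.bd n).mkQ.baseChange B (TensorProduct.comm A (L.X n) B z) := by
    induction z using TensorProduct.induction_on with
    | zero => simp
    | tmul x b => simp
    | add a b ha hb => simp only [map_add, ha, hb]
  rw [← h, map_eq_zero_iff _ (LinearEquiv.injective _)]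

/-- Cohomology of the base change to a field is the kernel of `δ`. -/
theorem finrank_eq_kdim (K : Type u) [Field K] [Algebra A K] (n : ℕ) {H : Type u} [AddCommGroup H]
    [Module K H] (ev : L.zBC K n →ₗ[K] H) (hs : Function.Surjective ev)
    (hk : ∀ z, ev z = 0 ↔ z.1 ∈ L.bBC K n) : Module.finrank K H = FlatCx.kdim (L.δ n) K := by
  let pr : L.zBC K n →ₗ[K] LinearMap.ker ((L.δ n).baseChange K) :=
    ((L.bd n).mkQ.baseChange K).restrict fun z hz =>
      LinearMap.mem_ker.2 ((L.baseChange_δ_mkQ K n z).trans (LinearMap.mem_ker.1 hz))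
  have hpr : Function.Surjective pr := by
    rintro ⟨w, hw⟩
    have hs' : Function.Surjective ((L.bd n).mkQ.baseChange K) := by
      rw [LinearMap.baseChange_eq_ltensor]
      exact LinearMap.lTensor_surjective K (Submodule.mkQ_surjective _)
    obtain ⟨z, rfl⟩ := hs' w
    exact ⟨⟨z, LinearMap.mem_ker.2 ((L.baseChange_δ_mkQ K n z).symm.trans (LinearMap.mem_ker.1 hw))⟩, rfl⟩
  have hker : LinearMap.ker ev = LinearMap.ker pr := Submodule.ext fun z =>
    (hk z).trans ((L.baseChange_mkQ_eq_zero_iff K n z.1).symm.trans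
      ⟨fun h => LinearMap.mem_ker.2 (Subtype.ext h), fun h => congrArg Subtype.val (LinearMap.mem_ker.1 h)⟩)
  have h1 := (LinearMap.quotKerEquivOfSurjective (R := K) (M := ↥(L.zBC K n)) ev hs).finrank_eq
  have h2 := (LinearMap.quotKerEquivOfSurjective (R := K) (M := ↥(L.zBC K n)) (M₂ := ↥(LinearMap.ker ((L.δ n).baseChange K))) pr hpr).finrank_eq
  rw [← h1, hker]
  exact h2

end Cx

variable (A : Type u) [CommRing A] (X : Scheme.{u}) [X.Over (Spec (CommRingCat.of A))] (F : X.Modules)

/-- A finite complex computing also the cohomology of all the fibres. -/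
structure FibModel extends Model A X F where
  fiberRank_eq : ∀ (q : ℕ) (x : PrimeSpectrum A),
    CohIII.fiberRank (X ↘ Spec (CommRingCat.of A)) F q x = FlatCx.kdim (L.δ q) x.asIdeal.ResidueField
  finite_fiberH : ∀ (q : ℕ) (x : Spec (CommRingCat.of A)),
    Module.Finite ((Spec (CommRingCat.of A)).residueField x) (CohIII.fiberH (X ↘ Spec (CommRingCat.of A)) F x q)

variable {A X F}

theorem exists_cover_bij [IsNoetherianRing A] [IsProper (X ↘ Spec (CommRingCat.of A))]
    (hF : Coh.IsCoh F) (hfl : FlatMod.IsFlatOver (X ↘ Spec (CommRingCat.of A)) F) :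
    ∃ (ι : Type u) (_ : Finite ι) (V : ι → X.Opens) (_ : (⊤ : X.Opens) ≤ iSup V)
      (_ : ∀ (m : ℕ) (i : Fin (m + 1) → ι), IsAffineOpen (inter V i)) (L : Cx A)
      (φ : CxHom L (cechCx A V F)), (∀ n, Module.Finite A (L.X n)) ∧ (∀ n, Module.Flat A (L.X n)) ∧
      (∀ n, Nat.card ι < n → Subsingleton (L.X n)) ∧ (∀ n, Module.Free A (L.X (n + 1))) ∧
        ∀ (M : Type u) [AddCommGroup M] [Module A M], φ.Bij M := by
  haveI hq : Coh.IsQCoh F := hF.1
  obtain ⟨ι, hι, V, hcov, haff⟩ := exists_affine_cover (X ↘ Spec (CommRingCat.of A))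
  let K := cechCx A V F
  haveI : ∀ n, Module.Flat A (K.X n) := flat_cechCx_X V F haff hfl
  have hB0 : ∀ (n : ℕ) (y : K.X n), y ⊗ₜ[A] (1 : A) ∈ K.B A n → y ∈ K.bd n := by
    intro n y hy
    rw [← K.ker_rTensor_mkQ_bd, LinearMap.mem_ker, LinearMap.rTensor_tmul] at hy
    have := congrArg (TensorProduct.rid A _) hy
    rwa [TensorProduct.rid_tmul, one_smul, map_zero, Submodule.mkQ_apply, Submodule.Quotient.mk_eq_zero] at this
  have hgen : ∀ n, ∃ (a : ℕ) (s : Fin a → K.X n), (∀ i, K.d n (s i) = 0) ∧ LinearMap.ker (K.d n) ≤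
      Submodule.span A (Set.range s) ⊔ K.bd n := by
    intro n
    obtain ⟨a, s, hs, hs'⟩ := exists_gens_cechCx (A := A) V F haff hcov hF n
    refine ⟨a, s, hs, fun z hz => ?_⟩
    obtain ⟨c, hc⟩ := hs' z hz
    rw [show z = Fintype.linearCombination A s c + (z - Fintype.linearCombination A s c) by abel]
    refine add_mem (Submodule.mem_sup_left ?_) (Submodule.mem_sup_right (hB0 n _ hc))
    rw [← Fintype.range_linearCombination]
    exact ⟨c, rfl⟩
  obtain ⟨a, s, hs, hs'⟩ := hgen 0
  obtain ⟨L, φ, h⟩ := exists_model K ⟨a, s, hs, hs'.trans (sup_le le_rfl bot_le)⟩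
    (fun n => hgen (n + 1)) (Nat.card ι) (fun n hn => exact'_cechCx V F haff n (by omega))
  exact ⟨ι, hι, V, hcov, haff, L, φ, h⟩

/-- The finite complex computes the cohomology after any base change. -/
theorem exists_evBC {ι : Type u} [Finite ι] {R R' : CommRingCat.{u}} {X X' : Scheme.{u}}
    [X.Over (Spec (CommRingCat.of R))] [X'.Over (Spec (CommRingCat.of R'))] {g' : X' ⟶ X} {φ : R ⟶ R'}
    (hc : IsPullback g' (str R' X') (str R X) (Spec.map φ)) (V : ι → X.Opens) (G : X.Modules)
    [Coh.IsQCoh G] (hcov : (⊤ : X.Opens) ≤ iSup V)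
    (haff : ∀ (m : ℕ) (i : Fin (m + 1) → ι), IsAffineOpen (inter V i)) [IsSeparated (str R X)]
    {L : Cx R} (ψ : CxHom L (cechCx R V G)) (hψ : ∀ (M : Type u) [AddCommGroup M] [Module R M], ψ.Bij M)
    (q : ℕ) :
    letI := φ.hom.toAlgebra
    ∃ ev : L.zBC R' q →ₗ[R'] Coh.HH X' ((Scheme.Modules.pullback g').obj G) q,
      Function.Surjective ev ∧ ∀ z, ev z = 0 ↔ z.1 ∈ L.bBC R' q := by
  letI := φ.hom.toAlgebra
  obtain ⟨ev, hev, hev0⟩ := exists_clBC g' φ hc V G haff hcov q (cechCx R V G)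
    (fun n => cochEquiv V (tensorASelfIso R G) n) fun n x => dL_cochMap V _ n x
  refine ⟨ev ∘ₗ ((ψ.f q).baseChange R').restrict fun z hz => ψ.mapsTo_zBC R' q hz, fun x => ?_, fun z => ?_⟩
  · obtain ⟨z, rfl⟩ := hev x
    obtain ⟨l, hl, hzl⟩ := (ψ.bijBC R' (hψ R') q).1 z.1 z.2
    refine ⟨⟨l, hl⟩, Eq.symm (sub_eq_zero.1 ?_)⟩
    rw [LinearMap.comp_apply, ← map_sub]
    exact (hev0 _).2 hzl
  · exact (hev0 _).trans ((ψ.bijBC R' (hψ R') q).2 z.1 z.2)

theorem fromSpecResidueField_eq {R : CommRingCat.{u}} (x : Spec R) :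
    Spec.map (CommRingCat.ofHom (algebraMap R x.asIdeal.ResidueField) ≫ (Scheme.Spec.residueFieldIso R x).inv) =
      (Spec R).fromSpecResidueField x := by
  rw [Spec.map_comp, Scheme.Spec.map_residueFieldIso_inv_eq_fromSpecResidueField]

theorem fiberRank_eq_kdim_aux {R : CommRingCat.{u}} {X : Scheme.{u}} [X.Over (Spec (CommRingCat.of R))]
    [IsSeparated (str R X)] {ι : Type u} [Finite ι] (V : ι → X.Opens) (G : X.Modules) [Coh.IsQCoh G]
    (hcov : (⊤ : X.Opens) ≤ iSup V) (haff : ∀ (m : ℕ) (i : Fin (m + 1) → ι), IsAffineOpen (inter V i))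
    {L : Cx R} (ψ : CxHom L (cechCx R V G)) (hψ : ∀ (M : Type u) [AddCommGroup M] [Module R M], ψ.Bij M)
    (hfin : ∀ n, Module.Finite R (L.X n)) (q : ℕ) (x : Spec R) :
    CohIII.fiberRank (str R X) G q x = FlatCx.kdim (L.δ q) x.asIdeal.ResidueField ∧
      Module.Finite ((Spec R).residueField x) (CohIII.fiberH (str R X) G x q) := by
  let φ : R ⟶ (Spec R).residueField x :=
    CommRingCat.ofHom (algebraMap R x.asIdeal.ResidueField) ≫ (Scheme.Spec.residueFieldIso R x).inv
  letI : ((str R X).fiber x).Over (Spec (CommRingCat.of ((Spec R).residueField x))) :=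
    ⟨(str R X).fiberToSpecResidueField x⟩
  have hc : IsPullback ((str R X).fiberι x) (str ((Spec R).residueField x) ((str R X).fiber x)) (str R X)
      (Spec.map φ) := by
    rw [fromSpecResidueField_eq]
    exact IsPullback.of_hasPullback _ _
  obtain ⟨ev, hs, hk⟩ := exists_evBC hc V G hcov haff ψ hψ q
  letI := φ.hom.toAlgebra
  haveI := hfin q
  haveI : Module.Finite ((Spec R).residueField x) (L.zBC ((Spec R).residueField x) q) := inferInstance
  refine ⟨Eq.trans ?_ (FlatCx.kdim_hom x.asIdeal.ResidueField ((Spec R).residueField x)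
    { toRingHom := (Scheme.Spec.residueFieldIso R x).inv.hom, commutes' := fun _ => rfl } (L.δ q)),
    Module.Finite.of_surjective ev hs⟩
  exact L.finrank_eq_kdim _ q ev hs hk

/-- Existence of the finite complex. -/
theorem nonempty_fibModel [IsNoetherianRing A] [IsProper (X ↘ Spec (CommRingCat.of A))]
    (hF : Coh.IsCoh F) (hfl : FlatMod.IsFlatOver (X ↘ Spec (CommRingCat.of A)) F) :
    Nonempty (FibModel A X F) := by
  haveI hq : Coh.IsQCoh F := hF.1
  obtain ⟨ι, hι, V, hcov, haff, L, φ, hfin, hflat, hbd, hfree, hbij⟩ := exists_cover_bij hF hfl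
  refine ⟨{ L := L, finite := hfin, flat := hflat, bounded := ⟨_, hbd⟩
            free := hfree
            ev := fun M q => cl V F haff hcov M q ∘ₗ φ.zMap M q
            ev_surjective := fun M q x => ?_
            ev_eq_zero_iff := fun M q z => ?_
            ev_natural := fun {M N} g q z z' h => ?_
            fiberRank_eq := fun q x =>
              (fiberRank_eq_kdim_aux (R := CommRingCat.of A) V F hcov haff φ hbij hfin q x).1
            finite_fiberH := fun q x =>
              (fiberRank_eq_kdim_aux (R := CommRingCat.of A) V F hcov haff φ hbij hfin q x).2 }⟩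
  · obtain ⟨⟨z, hz⟩, rfl⟩ := cl_surjective V F haff hcov M q x
    obtain ⟨l, hl, hzl⟩ := (hbij M q).1 z hz
    refine ⟨⟨l, hl⟩, Eq.symm (sub_eq_zero.1 ?_)⟩
    rw [LinearMap.comp_apply, ← map_sub]
    exact (cl_eq_zero_iff V F haff hcov M q _).2 hzl
  · refine (cl_eq_zero_iff V F haff hcov M q _).trans ⟨fun h => (hbij M q).2 z.1 z.2 h, fun h => ?_⟩
    exact φ.mapsTo_B q h
  · refine cl_natural V F haff hcov g q _ _ ?_
    show (φ.f q).rTensor N z'.1 = g.hom.lTensor _ ((φ.f q).rTensor M z.1)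
    rw [h, ← LinearMap.comp_apply, ← LinearMap.comp_apply, LinearMap.lTensor_comp_rTensor,
      LinearMap.rTensor_comp_lTensor]

end Groth.Agent.BCLib
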