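import Groth.Agent.BCLib.HHMap

/-!
# Fibre dimensions of cohomology are invariant under base change
-/

set_option autoImplicit false
set_option backward.isDefEq.respectTransparency false
set_option backward.defeqAttrib.useBackward true
set_option linter.style.haveILetI false

universe u

open CategoryTheory CategoryTheory.Limits AlgebraicGeometry TopologicalSpace Opposite TensorProduct
open Groth.Agent.CohBase Groth.Agent.ProjCoh Groth.Agent.FormalLib

noncomputable section

namespace Groth.Agent.BCLib

/-- The identity of a complex. -/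
def CxHom.idHom {A : Type u} [CommRing A] (K : Cx A) : CxHom K K where
  f _ := LinearMap.id
  comm _ := rfl

theorem CxHom.idHom_bij {A : Type u} [CommRing A] (K : Cx A) (M : Type u) [AddCommGroup M] [Module A M] :
    (CxHom.idHom K).Bij M := fun n =>
  ⟨fun z hz => ⟨z, hz, by simp [CxHom.idHom]⟩, fun l _ h => by simpa [CxHom.idHom] using h⟩

/-- The cohomology dimension of a base change along a field extension. -/
theorem finrank_HH_fieldExt {k k' : Type u} [Field k] [Field k'] {X X' : Scheme.{u}}
    [X.Over (Spec (CommRingCat.of k))] [X'.Over (Spec (CommRingCat.of k'))] {g' : X' ⟶ X}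
    {φ : CommRingCat.of k ⟶ CommRingCat.of k'}
    (hc : IsPullback g' (str k' X') (str k X) (Spec.map φ))
    [IsSeparated (str k X)] [QuasiCompact (str k X)] (G : X.Modules) [Coh.IsQCoh G] (p : ℕ)
    {G' : X'.Modules} (e : (Scheme.Modules.pullback g').obj G ≅ G') :
    Module.finrank k' (Coh.HH X' G' p) = Module.finrank k (Coh.HH X G p) := by
  obtain ⟨ι, hι, V, hcov, haff⟩ := exists_affine_cover (str k X)
  let K := cechCx k V G
  have h0 : IsPullback (𝟙 X) (str k X) (str k X) (Spec.map (𝟙 (CommRingCat.of k))) := by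
    rw [Spec.map_id]
    exact IsPullback.id_horiz _
  obtain ⟨ev, hs, hk⟩ := exists_evBC (R := CommRingCat.of k) (R' := CommRingCat.of k) h0 V G hcov haff
    (CxHom.idHom K) (fun M _ _ => CxHom.idHom_bij K M) p
  obtain ⟨ev', hs', hk'⟩ := exists_evBC (R := CommRingCat.of k) (R' := CommRingCat.of k') hc V G hcov haff
    (CxHom.idHom K) (fun M _ _ => CxHom.idHom_bij K M) p
  have h1 : Module.finrank k (Coh.HH X G p) = FlatCx.kdim (K.δ p) k :=
    (hhEquivL ((Scheme.Modules.pullbackId X).app G) p).finrank_eq.symm.trans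
      (K.finrank_eq_kdim k p ev hs hk)
  have h2 : Module.finrank k' (Coh.HH X' G' p) = Module.finrank k' (Coh.HH X' ((Scheme.Modules.pullback g').obj G) p) :=
    (hhEquivL e p).finrank_eq.symm
  letI := φ.hom.toAlgebra
  rw [h1, h2, K.finrank_eq_kdim k' p ev' hs' hk']
  exact FlatCx.kdim_ext k k' (K.δ p)

/-- The fibre dimensions of cohomology are invariant under base change. -/
theorem fiberRank_baseChange {X X' Y Y' : Scheme.{u}} {f : X ⟶ Y} {f' : X' ⟶ Y'} {g' : X' ⟶ X} {g : Y' ⟶ Y}
    (h : IsPullback g' f' f g) [IsSeparated f] [QuasiCompact f] (F : X.Modules) [Coh.IsQCoh F] (p : ℕ) (y : Y') :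
    CohIII.fiberRank f' ((Scheme.Modules.pullback g').obj F) p y = CohIII.fiberRank f F p (g y) := by
  have hc := isPullback_fiberToSpecResidueField_of_isPullback h y
  haveI : Coh.IsQCoh (CohIII.fiberMod f F (g y)) := PullbackMod.isQCoh_pullback _ F
  letI : (f.fiber (g y)).Over (Spec (CommRingCat.of (Y.residueField (g y)))) :=
    ⟨f.fiberToSpecResidueField (g y)⟩
  letI : (f'.fiber y).Over (Spec (CommRingCat.of (Y'.residueField y))) := ⟨f'.fiberToSpecResidueField y⟩
  haveI : IsSeparated (str (Y.residueField (g y)) (f.fiber (g y))) :=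
    inferInstanceAs (IsSeparated (pullback.snd f (Y.fromSpecResidueField (g y))))
  haveI : QuasiCompact (str (Y.residueField (g y)) (f.fiber (g y))) :=
    inferInstanceAs (QuasiCompact (pullback.snd f (Y.fromSpecResidueField (g y))))
  refine finrank_HH_fieldExt (k := Y.residueField (g y)) (k' := Y'.residueField y)
    (φ := g.residueFieldMap y) hc (CohIII.fiberMod f F (g y)) p ?_
  exact (Scheme.Modules.pullbackComp _ (f.fiberι (g y))).app F ≪≫
    (Scheme.Modules.pullbackCongr (pullback.lift_fst _ _ _)).app F ≪≫
    ((Scheme.Modules.pullbackComp (f'.fiberι y) g').app F).symm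

/-- The cohomology of a fibre of a proper morphism is finite. -/
theorem finite_fiberH {X Y : Scheme.{u}} (f : X ⟶ Y) [IsProper f] [IsLocallyNoetherian Y] {F : X.Modules}
    (hF : Coh.IsCoh F) (_hfl : FlatMod.IsFlatOver f F) (p : ℕ) (y : Y) :
    Module.Finite (Y.residueField y) (CohIII.fiberH f F y p) := by
  haveI : IsProper (f.fiberToSpecResidueField y) :=
    inferInstanceAs (IsProper (pullback.snd f (Y.fromSpecResidueField y)))
  haveI : IsLocallyNoetherian (f.fiber y) :=
    LocallyOfFiniteType.isLocallyNoetherian (f.fiberToSpecResidueField y)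
  haveI : CompactSpace (f.fiber y) := QuasiCompact.compactSpace_of_compactSpace (f.fiberToSpecResidueField y)
  haveI : IsNoetherian (f.fiber y) := ⟨⟩
  exact ProperFin.allFin_of_isCoh (A := Y.residueField y) (f.fiberToSpecResidueField y) _
    (PullbackMod.isCoh_pullback _ _ hF) p

end Groth.Agent.BCLib
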