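import Groth.Agent.RpushLib.Finite
import Groth.Agent.BCLib.AffBase

/-!
# Sections of higher direct images over affine opens, as modules
-/

set_option autoImplicit false
set_option backward.isDefEq.respectTransparency false
set_option backward.defeqAttrib.useBackward true
set_option linter.style.haveILetI false

universe u

open CategoryTheory Limits Opposite TopologicalSpace AlgebraicGeometry
open Groth.Agent.CohBase Groth.Agent.RpushLib

noncomputable section

namespace Groth.Agent.BCLib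

/-- The map on cohomology induced by a morphism of sheaves, linear over the global functions. -/
def hhMapΓ {X : Scheme.{u}} {M N : X.Modules} (f : M ⟶ N) (q : ℕ) :
    Coh.HH X M q →ₗ[Coh.Γtop X] Coh.HH X N q where
  toFun := Sheaf.H.map ((SheafOfModules.toSheaf X.ringCatSheaf).map f) q
  map_add' := map_add _
  map_smul' r x := by
    have h : Coh.smulAb M r ≫ (SheafOfModules.toSheaf X.ringCatSheaf).map f =
        (SheafOfModules.toSheaf X.ringCatSheaf).map f ≫ Coh.smulAb N r := by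
      ext U m
      exact (f.val.app U).hom.map_smul' (Coh.resTop X U r) m
    show Sheaf.H.map _ q (Sheaf.H.map _ q x) = Sheaf.H.map _ q (Sheaf.H.map _ q x)
    exact ((Sheaf.H.map_comp_apply _ _ x).symm.trans (congrArg (fun t => Sheaf.H.map t q x) h)).trans
      (Sheaf.H.map_comp_apply _ _ x)

/-- Isomorphic sheaves have isomorphic cohomology over the global functions. -/
def hhEquivΓ {X : Scheme.{u}} {M N : X.Modules} (e : M ≅ N) (q : ℕ) :
    Coh.HH X M q ≃ₗ[Coh.Γtop X] Coh.HH X N q :=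
  LinearEquiv.ofLinearMap (hhMapΓ e.hom q) (hhMapΓ e.inv q)
    (LinearMap.ext fun x => (Formal.HHmap_comp e.inv e.hom q x).trans (by
      rw [e.inv_hom_id, CategoryTheory.Functor.map_id, Sheaf.H.map_id_apply]; rfl))
    (LinearMap.ext fun x => (Formal.HHmap_comp e.hom e.inv q x).trans (by
      rw [e.hom_inv_id, CategoryTheory.Functor.map_id, Sheaf.H.map_id_apply]; rfl))

/-- An isomorphism of modules on sections. -/
def modIsoSections {S : Scheme.{u}} {M N : S.Modules} (e : M ≅ N) (W : S.Opens) :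
    Γ(M, W) ≃ₗ[Γ(S, W)] Γ(N, W) :=
  LinearEquiv.ofLinearMap (QCohLib.appLinear e.hom W) (QCohLib.appLinear e.inv W)
    (LinearMap.ext fun x => congr(($(e.inv_hom_id)).app W x))
    (LinearMap.ext fun x => congr(($(e.hom_inv_id)).app W x))

variable {X S : Scheme.{u}} (f : X ⟶ S) {M : X.Modules}

theorem nonempty_HH_seqU (R : InjectiveResolution M) (U : X.Opens) : ∀ (p m : ℕ),
    Nonempty (Coh.HH U.toScheme (seqU R U p).X₁ (m + 1) ≃ₗ[Coh.Γtop U.toScheme]
      Coh.HH U.toScheme (M.restrict U.ι) (p + m + 1))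
  | 0, m => by
    rw [Nat.zero_add]
    exact ⟨hhEquivΓ ((Scheme.Modules.restrictFunctor U.ι).mapIso (zeroIso R)).symm (m + 1)⟩
  | p + 1, m => by
    obtain ⟨e⟩ := nonempty_HH_seqU R U p (m + 1)
    rw [show p + 1 + m + 1 = p + (m + 1) + 1 by omega]
    exact ⟨(LinearEquiv.ofBijective (δH (seqU_shortExact R U p) (m + 1))
      (δH_bijective (seqU_shortExact R U p) (m + 1) (subsingleton_seqU R U p m)
        (subsingleton_seqU R U p (m + 1)))).trans e⟩

variable [QuasiCompact f] [QuasiSeparated f] [Coh.IsQCoh M]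

theorem nonempty_coker_sections (R : InjectiveResolution M) (p : ℕ) {W : S.Opens} (hW : IsAffineOpen W) :
    letI := Module.compHom (Coh.HH (f ⁻¹ᵁ W).toScheme (M.restrict (f ⁻¹ᵁ W).ι) (p + 1)) (preTop f W)
    Nonempty (Γ(cokernel (pushπ f R p), W) ≃ₗ[Γ(S, W)]
      Coh.HH (f ⁻¹ᵁ W).toScheme (M.restrict (f ⁻¹ᵁ W).ι) (p + 1)) := by
  let U := f ⁻¹ᵁ W
  have hU : U.ι ''ᵁ ⊤ = U := Scheme.Opens.ι_image_top U
  obtain ⟨hs, hk⟩ := δΓ_spec (seqU_shortExact R U p) (subsingleton_seqU R U p 0)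
  let H := Coh.HH U.toScheme (seqU R U p).X₁ 1
  let H' := Coh.HH U.toScheme (M.restrict U.ι) (p + 1)
  letI : Module Γ(S, W) H := Module.compHom H (preTop f W)
  letI : Module Γ(S, W) H' := Module.compHom H' (preTop f W)
  obtain ⟨e'⟩ := nonempty_HH_seqU R U p 0
  let e : H ≃ₗ[Γ(S, W)] H' :=
    { toFun := e', invFun := e'.symm, left_inv := e'.symm_apply_apply, right_inv := e'.apply_symm_apply
      map_add' := map_add e'
      map_smul' := fun a x => map_smul e' (preTop f W a) x }
  let t : Γ(Z R (p + 1), U) →+ Γ((seqU R U p).X₃, ⊤) := rM (Z R (p + 1)) hU.le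
  have ht : Function.Bijective t :=
    ⟨Function.LeftInverse.injective (g := rM (Z R (p + 1)) hU.ge) fun z =>
      (rM_rM _ _ _ _).trans (restr_self _ _ _),
    fun b => ⟨rM (Z R (p + 1)) hU.ge b, (rM_rM _ _ _ _).trans (restr_self _ _ _)⟩⟩
  let θ : Γ((Scheme.Modules.pushforward f).obj (Z R (p + 1)), W) →ₗ[Γ(S, W)] H :=
    { toFun := fun s => δΓ (seqU_shortExact R U p) (t s)
      map_add' := fun a b => by rw [← map_add (δΓ (seqU_shortExact R U p)), ← map_add t]
      map_smul' := fun a s => by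
        show _ = preTop f W a • δΓ (seqU_shortExact R U p) (t s)
        refine Eq.trans ?_ (δΓ_smul _ _ _)
        exact congrArg _ (rM_smul_restrict _ U hU.le (f.app W a) _) }
  let q : Γ((Scheme.Modules.pushforward f).obj (Z R (p + 1)), W) →ₗ[Γ(S, W)] Γ(cokernel (pushπ f R p), W) :=
    QCohLib.appLinear (cokernel.π (pushπ f R p)) W
  have hl := locImage f R p
  have hq : Function.Surjective q := hl.coker_surjective hW
  have hker : LinearMap.ker θ = LinearMap.ker q := by
    refine le_antisymm (fun s hs' => ?_) (fun s hs' => ?_)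
    · obtain ⟨j, hj⟩ := (hk _).mp (LinearMap.mem_ker.mp hs')
      let j' : Γ(R.cocomplex.X p, U) := rM (R.cocomplex.X p) hU.ge j
      have : (zπ R p).app U j' = s := by
        refine ht.1 ?_
        show rM _ hU.le ((zπ R p).app U j') = t s
        rw [← app_rM, show rM (R.cocomplex.X p) hU.le j' = j from (rM_rM _ _ _ _).trans (restr_self _ _ _)]
        exact hj
      exact LinearMap.mem_ker.mpr ((congrArg q this).symm.trans (coker_app_app (φ := pushπ f R p) W j'))
    · obtain ⟨j, hj⟩ := hl.coker_exact hW s (show q s = 0 from hs')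
      let j0 : Γ(R.cocomplex.X p, U) := j
      refine LinearMap.mem_ker.mpr ((hk _).mpr ⟨rM (R.cocomplex.X p) hU.le j0, ?_⟩)
      have hj0 : (zπ R p).app U j0 = s := hj
      rw [← hj0]
      exact app_rM (zπ R p) hU.le j0
  have hθ : Function.Surjective θ := hs.comp ht.2
  exact ⟨(q.quotKerEquivOfSurjective hq).symm ≪≫ₗ Submodule.quotEquivOfEq _ _ hker.symm ≪≫ₗ
    θ.quotKerEquivOfSurjective hθ ≪≫ₗ e⟩

omit [QuasiCompact f] [QuasiSeparated f] [Coh.IsQCoh M] in
theorem nonempty_push_sections (M : X.Modules) (W : S.Opens) :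
    letI := Module.compHom (Coh.HH (f ⁻¹ᵁ W).toScheme (M.restrict (f ⁻¹ᵁ W).ι) 0) (preTop f W)
    Nonempty (Γ((Scheme.Modules.pushforward f).obj M, W) ≃ₗ[Γ(S, W)]
      Coh.HH (f ⁻¹ᵁ W).toScheme (M.restrict (f ⁻¹ᵁ W).ι) 0) := by
  let U := f ⁻¹ᵁ W
  have hU : U.ι ''ᵁ ⊤ = U := Scheme.Opens.ι_image_top U
  let H := Coh.HH U.toScheme (M.restrict U.ι) 0
  letI : Module Γ(S, W) H := Module.compHom H (preTop f W)
  let t : Γ(M, U) →+ Γ(M.restrict U.ι, ⊤) := rM M hU.le
  have ht : Function.Bijective t :=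
    ⟨Function.LeftInverse.injective (g := rM M hU.ge) fun z => (rM_rM _ _ _ _).trans (restr_self _ _ _),
    fun b => ⟨rM M hU.ge b, (rM_rM _ _ _ _).trans (restr_self _ _ _)⟩⟩
  let θ : Γ((Scheme.Modules.pushforward f).obj M, W) →ₗ[Γ(S, W)] H :=
    { toFun := fun s => h0Γ (M.restrict U.ι) (t s)
      map_add' := fun a b => by rw [← map_add (h0Γ (M.restrict U.ι)), ← map_add t]
      map_smul' := fun a s => by
        show _ = preTop f W a • h0Γ (M.restrict U.ι) (t s)
        refine Eq.trans ?_ (h0Γ_smul _ _ _)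
        exact congrArg _ (rM_smul_restrict _ U hU.le (f.app W a) _) }
  exact ⟨LinearEquiv.ofBijective θ ((h0Γ (M.restrict U.ι)).bijective.comp ht)⟩

/-- Cohomology of the preimage, in the module structure of the affine structure map. -/
theorem nonempty_HH_restrict (M : X.Modules) (p : ℕ) {W : S.Opens} (hW : IsAffineOpen W) :
    letI : (f ⁻¹ᵁ W : Scheme.{u}).Over (Spec (CommRingCat.of Γ(S, W))) := ⟨restOver f hW⟩
    letI := Module.compHom (Coh.HH (f ⁻¹ᵁ W).toScheme (M.restrict (f ⁻¹ᵁ W).ι) p) (preTop f W)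
    Nonempty (Coh.HH (f ⁻¹ᵁ W).toScheme (M.restrict (f ⁻¹ᵁ W).ι) p ≃ₗ[Γ(S, W)]
      Coh.HH (f ⁻¹ᵁ W).toScheme (restMod f M) p) := by
  letI : (f ⁻¹ᵁ W : Scheme.{u}).Over (Spec (CommRingCat.of Γ(S, W))) := ⟨restOver f hW⟩
  letI := Module.compHom (Coh.HH (f ⁻¹ᵁ W).toScheme (M.restrict (f ⁻¹ᵁ W).ι) p) (preTop f W)
  let e := hhEquivΓ ((Scheme.Modules.restrictFunctorIsoPullback (f ⁻¹ᵁ W).ι).app M) p
  exact ⟨
    { toFun := e, invFun := e.symm, left_inv := e.symm_apply_apply, right_inv := e.apply_symm_apply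
      map_add' := map_add e
      map_smul' := fun a x => by
        show e (preTop f W a • x) = Coh.toGlobal (restOver f hW) a • e x
        rw [toGlobal_eq f hW]
        exact map_smul e (preTop f W a) x }⟩

/-- Sections over an affine open of a higher direct image. -/
theorem nonempty_rpush_sections [HasInjectiveResolutions X.Modules] (p : ℕ) {W : S.Opens}
    (hW : IsAffineOpen W) :
    letI : (f ⁻¹ᵁ W : Scheme.{u}).Over (Spec (CommRingCat.of Γ(S, W))) := ⟨restOver f hW⟩
    Nonempty (Γ((Coh.Rpush f p).obj M, W) ≃ₗ[Γ(S, W)] Coh.HH (f ⁻¹ᵁ W).toScheme (restMod f M) p) := by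
  letI : (f ⁻¹ᵁ W : Scheme.{u}).Over (Spec (CommRingCat.of Γ(S, W))) := ⟨restOver f hW⟩
  letI (q : ℕ) := Module.compHom (Coh.HH (f ⁻¹ᵁ W).toScheme (M.restrict (f ⁻¹ᵁ W).ι) q) (preTop f W)
  obtain ⟨e⟩ := nonempty_HH_restrict f M p hW
  cases p with
  | zero =>
    obtain ⟨e'⟩ := nonempty_push_sections f M W
    exact ⟨(modIsoSections ((Scheme.Modules.pushforward f).rightDerivedZeroIsoSelf.app M) W).trans (e'.trans e)⟩
  | succ p =>
    obtain ⟨e'⟩ := nonempty_coker_sections f (injectiveResolution M) p hW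
    exact ⟨(modIsoSections (rpushIso f (injectiveResolution M) p) W).trans (e'.trans e)⟩

end Groth.Agent.BCLib
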