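import Groth.Agent.BCLib.Semi
import Groth.Agent.CompleteCurve.ProjSpace

/-!
# Jumping of cohomology over a discrete valuation ring
-/

set_option autoImplicit false
set_option backward.isDefEq.respectTransparency false
set_option backward.defeqAttrib.useBackward true

universe u

open CategoryTheory CategoryTheory.Limits AlgebraicGeometry TopologicalSpace Opposite TensorProduct

noncomputable section

namespace Groth.Agent.BCLib

theorem isProper_toBase (n : ℕ) (S : Scheme.{u}) : IsProper (CohB1.ProjSpaceOver.toBase n S) :=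
  inferInstanceAs (IsProper (pullback.snd (CohB1.ProjSpace.toSpec n (ULift.{u} ℤ)) (specULiftZIsTerminal.from S)))

variable {A : Type u} [CommRing A] [IsDomain A] [IsDiscreteValuationRing A]

namespace Cx

variable (L : Cx A)

theorem free_quot_iff_free_kerδ (hfin : ∀ n, Module.Finite A (L.X n)) (hflat : ∀ n, Module.Flat A (L.X n))
    (n : ℕ) : Module.Flat A (L.X n ⧸ L.bd n) ↔ Module.Free A (LinearMap.ker (L.δ n)) := by
  haveI := hfin n; haveI := hflat (n + 1)
  constructor
  · intro h
    infer_instance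
  · intro h
    haveI : Module.IsTorsionFree A (L.X n ⧸ L.bd n) := .of_smul_eq_zero fun a c hac => by
      by_contra hne
      rw [not_or] at hne
      have h1 : L.δ n c = 0 := (smul_eq_zero.1 (show a • L.δ n c = 0 by rw [← map_smul, hac, map_zero])).resolve_left hne.1
      have h2 : a • (⟨c, LinearMap.mem_ker.2 h1⟩ : LinearMap.ker (L.δ n)) = 0 := Subtype.ext hac
      exact hne.2 (congrArg Subtype.val ((smul_eq_zero.1 h2).resolve_left hne.1))
    infer_instance

theorem eq_genericPoint_or_eq (s : Spec (CommRingCat.of A)) (hs : s ≠ genericPoint ↥(Spec (CommRingCat.of A)))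
    (x : Spec (CommRingCat.of A)) : x = genericPoint ↥(Spec (CommRingCat.of A)) ∨ x = s := by
  rw [genericPoint_eq_bot_of_affine] at hs ⊢
  have h : ∀ y : PrimeSpectrum A, y ≠ ⊥ → y = IsLocalRing.closedPoint A := fun y hy =>
    PrimeSpectrum.ext (IsLocalRing.eq_maximalIdeal
      (y.isPrime.isMaximal fun hb => hy (PrimeSpectrum.ext hb)))
  by_cases hx : (x : PrimeSpectrum A) = (⊥ : PrimeSpectrum A)
  · exact Or.inl hx
  · exact Or.inr ((h x hx).trans (h s hs).symm)

end Cx

variable {X : Scheme.{u}} [X.Over (Spec (CommRingCat.of A))] {F : X.Modules}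

theorem fiberRank_eq_iff_free (Φ : FibModel A X F) (p : ℕ) (s : Spec (CommRingCat.of A))
    (hs : s ≠ genericPoint ↥(Spec (CommRingCat.of A))) :
    CohIII.fiberRank (X ↘ Spec (CommRingCat.of A)) F p s =
        CohIII.fiberRank (X ↘ Spec (CommRingCat.of A)) F p (genericPoint ↥(Spec (CommRingCat.of A))) ↔
      Module.Free A (Coh.HH X F p) ∧ Module.Free A (Coh.HH X F (p + 1)) := by
  have hfree : ∀ q, Module.Free A (Coh.HH X F q) ↔ Module.Flat A (Φ.L.X q ⧸ Φ.L.bd q) := fun q => by
    obtain ⟨e⟩ := nonempty_HH_equiv_kerδ Φ.toModel q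
    rw [Φ.L.free_quot_iff_free_kerδ Φ.finite Φ.flat q]
    exact ⟨fun h => Module.Free.of_equiv e, fun h => Module.Free.of_equiv e.symm⟩
  rw [hfree, hfree, Φ.fiberRank_eq, Φ.fiberRank_eq]
  constructor
  · intro h
    refine Φ.L.flat_quot_of_kdim_isLocallyConstant Φ.finite Φ.flat p ?_
    convert IsLocallyConstant.const (FlatCx.kdim (Φ.L.δ p) s.asIdeal.ResidueField) using 1
    funext x
    rcases Cx.eq_genericPoint_or_eq s hs x with rfl | rfl
    · exact h.symm
    · rfl
  · rintro ⟨h0, h1⟩
    haveI := Φ.finite p; haveI := Φ.finite (p + 1); haveI := Φ.flat (p + 1)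
    haveI : PreconnectedSpace (PrimeSpectrum A) := inferInstance
    have hc : ∀ (M : Type u) [AddCommGroup M] [Module A M] [Module.Finite A M] [Module.Flat A M]
        (x y : PrimeSpectrum A), FlatCx.fdim M x = FlatCx.fdim M y := fun M _ _ _ _ x y => by
      haveI : Module.FinitePresentation A M := Module.finitePresentation_of_finite A M
      exact (FlatCx.fdim_isLocallyConstant (A := A) M).apply_eq_of_preconnectedSpace x y
    have e1 := Φ.L.kdim_δ_add Φ.finite p s
    have e2 := Φ.L.kdim_δ_add Φ.finite p (genericPoint ↥(Spec (CommRingCat.of A)))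
    have a1 := hc (Φ.L.X (p + 1)) s (genericPoint ↥(Spec (CommRingCat.of A)))
    have a2 := hc (Φ.L.X p ⧸ Φ.L.bd p) s (genericPoint ↥(Spec (CommRingCat.of A)))
    have a3 := hc (Φ.L.X (p + 1) ⧸ Φ.L.bd (p + 1)) s (genericPoint ↥(Spec (CommRingCat.of A)))
    omega

end Groth.Agent.BCLib
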