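import Groth.Agent.BCLib.Ker
import Groth.Agent.BCLib.Local
import Groth.Agent.BCLib.Const

/-!
# Base change when all cohomology modules are flat
-/

set_option autoImplicit false
set_option backward.isDefEq.respectTransparency false
set_option backward.defeqAttrib.useBackward true
set_option linter.style.haveILetI false

universe u

open CategoryTheory CategoryTheory.Limits AlgebraicGeometry TopologicalSpace Opposite TensorProduct
open Groth.Agent.CohBase Groth.Agent.ProjCoh Groth.Agent.FormalLib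

noncomputable section

namespace Groth.Agent.BCLib

namespace Cx

variable {A : Type u} [CommRing A] (L : Cx A)

theorem exists_equiv_ker_baseChange (B : Type u) [CommRing B] [Algebra A B] (n : ℕ) {H : Type u}
    [AddCommGroup H] [Module B H] (ev : L.zBC B n →ₗ[B] H) (hs : Function.Surjective ev)
    (hk : ∀ z, ev z = 0 ↔ z.1 ∈ L.bBC B n) :
    Nonempty (H ≃ₗ[B] LinearMap.ker ((L.δ n).baseChange B)) := by
  let pr : L.zBC B n →ₗ[B] LinearMap.ker ((L.δ n).baseChange B) :=
    ((L.bd n).mkQ.baseChange B).restrict fun z hz =>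
      LinearMap.mem_ker.2 ((L.baseChange_δ_mkQ B n z).trans (LinearMap.mem_ker.1 hz))
  have hpr : Function.Surjective pr := by
    rintro ⟨w, hw⟩
    have hs' : Function.Surjective ((L.bd n).mkQ.baseChange B) := by
      rw [LinearMap.baseChange_eq_ltensor]
      exact LinearMap.lTensor_surjective B (Submodule.mkQ_surjective _)
    obtain ⟨z, rfl⟩ := hs' w
    exact ⟨⟨z, LinearMap.mem_ker.2 ((L.baseChange_δ_mkQ B n z).symm.trans (LinearMap.mem_ker.1 hw))⟩, rfl⟩
  exact ⟨surjEquiv (Z := ↥(L.zBC B n)) (K := ↥(LinearMap.ker ((L.δ n).baseChange B))) ev pr hs hpr fun z =>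
    (hk z).trans ((L.baseChange_mkQ_eq_zero_iff B n z.1).symm.trans
      ⟨fun h => Subtype.ext h, fun h => congrArg Subtype.val h⟩)⟩

/-- `ker (δ ⊗ A) = ker δ`. -/
theorem nonempty_ker_baseChange_self (n : ℕ) :
    Nonempty (LinearMap.ker ((L.δ n).baseChange A) ≃ₗ[A] LinearMap.ker (L.δ n)) := by
  let e := TensorProduct.lid A (L.X n ⧸ L.bd n)
  have h : ∀ z, L.δ n (e z) = TensorProduct.lid A (L.X (n + 1)) ((L.δ n).baseChange A z) := fun z => by
    induction z using TensorProduct.induction_on with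
    | zero => simp
    | tmul a c => simp [e]
    | add a b ha hb => simp only [map_add, ha, hb]
  refine ⟨LinearEquiv.ofSubmodules e _ _ ?_⟩
  ext w
  obtain ⟨z, rfl⟩ := e.surjective w
  rw [Submodule.map_equiv_eq_comap_symm, Submodule.mem_comap]
  simp only [LinearEquiv.coe_coe, LinearEquiv.symm_apply_apply, LinearMap.mem_ker]
  rw [h, map_eq_zero_iff _ (TensorProduct.lid A _).injective]

theorem nonempty_ker_baseChange (B : Type u) [CommRing B] [Algebra A B] (n : ℕ)
    (hflat : Module.Flat A (L.X (n + 1))) (h₁ : Module.Flat A (L.X (n + 1) ⧸ L.bd (n + 1))) :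
    Nonempty (LinearMap.ker ((L.δ n).baseChange B) ≃+ LinearMap.ker (L.δ n) ⊗[A] B) := by
  haveI := hflat
  haveI : Module.Flat A (L.X (n + 1) ⧸ LinearMap.range (L.δ n)) :=
    Module.Flat.of_linearEquiv (Submodule.quotEquivOfEq _ _ (L.range_δ n))
  obtain ⟨hi, hr⟩ := FlatCx.kerTensor_injective_range (L.δ n) B
  let c := TensorProduct.comm A (L.X n ⧸ L.bd n) B
  let f : LinearMap.ker (L.δ n) ⊗[A] B →+ B ⊗[A] (L.X n ⧸ L.bd n) :=
    c.toLinearMap.toAddMonoidHom.comp ((LinearMap.ker (L.δ n)).subtype.rTensor B).toAddMonoidHom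
  have hc : ∀ z, TensorProduct.comm A (L.X (n + 1)) B ((L.δ n).rTensor B z) = (L.δ n).baseChange B (c z) :=
    fun z => by
      induction z using TensorProduct.induction_on with
      | zero => simp
      | tmul x b => simp [c]
      | add a b ha hb => simp only [map_add, ha, hb]
  have hfk : ∀ w, f w ∈ LinearMap.ker ((L.δ n).baseChange B) := fun w => by
    show (L.δ n).baseChange B (c ((LinearMap.ker (L.δ n)).subtype.rTensor B w)) = 0
    rw [← hc, ← LinearMap.rTensor_comp_apply, LinearMap.comp_ker_subtype, LinearMap.rTensor_zero,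
      LinearMap.zero_apply, map_zero]
  let f' : LinearMap.ker (L.δ n) ⊗[A] B →+ LinearMap.ker ((L.δ n).baseChange B) :=
    { toFun := fun w => ⟨f w, hfk w⟩
      map_zero' := Subtype.ext (map_zero f)
      map_add' := fun a b => Subtype.ext (map_add f a b) }
  refine ⟨(AddEquiv.ofBijective f' ⟨fun a b h => hi (c.injective (congrArg Subtype.val h)), fun z => ?_⟩).symm⟩
  obtain ⟨w, hw⟩ := c.surjective z.1
  have hw0 : w ∈ LinearMap.ker ((L.δ n).rTensor B) := LinearMap.mem_ker.2 <|
    (TensorProduct.comm A (L.X (n + 1)) B).injective (by rw [hc, hw, map_zero]; exact z.2)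
  rw [← hr] at hw0
  obtain ⟨v, rfl⟩ := hw0
  exact ⟨v, Subtype.ext hw⟩

theorem flat_quot_of_exact (n : ℕ) (hflat : Module.Flat A (L.X (n + 1 + 1)))
    (h : ∀ (M : Type u) [AddCommGroup M] [Module A M], L.Exact' M n) :
    Module.Flat A (L.X (n + 1) ⧸ L.bd (n + 1)) := by
  haveI := hflat
  refine (FlatCx.kerInj_iff (L.δ (n + 1))).1 fun M N _ _ _ _ g _ x hx _ => ?_
  obtain ⟨z, rfl⟩ := LinearMap.rTensor_surjective M (Submodule.mkQ_surjective (L.bd (n + 1))) x
  obtain ⟨w, hw⟩ := h M (show z ∈ LinearMap.ker (L.dT M (n + 1)) from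
    LinearMap.mem_ker.2 ((L.δ_rTensor_mkQ M (n + 1) z).symm.trans hx))
  rw [← LinearMap.mem_ker, L.ker_rTensor_mkQ_bd]
  exact ⟨w, hw⟩

end Cx

/-- With flat cohomology, cohomology commutes with any base change. -/
theorem nonempty_HH_baseChange_of_flat {R R' : CommRingCat.{u}} {X X' : Scheme.{u}}
    [X.Over (Spec (CommRingCat.of R))] [X'.Over (Spec (CommRingCat.of R'))] {g' : X' ⟶ X} {φ : R ⟶ R'}
    (hc : IsPullback g' (str R' X') (str R X) (Spec.map φ)) [IsSeparated (str R X)] [QuasiCompact (str R X)]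
    (G : X.Modules) [Coh.IsQCoh G] (hfl : FlatMod.IsFlatOver (str R X) G)
    (hH : ∀ p, Module.Flat R (Coh.HH X G p)) (p : ℕ) :
    letI := φ.hom.toAlgebra
    Nonempty (Coh.HH X' ((Scheme.Modules.pullback g').obj G) p ≃+ Coh.HH X G p ⊗[R] R') := by
  obtain ⟨ι, hι, V, hcov, haff⟩ := exists_affine_cover (str R X)
  let K := cechCx R V G
  haveI hflat : ∀ n, Module.Flat R (K.X n) := flat_cechCx_X V G haff hfl
  have h0 : IsPullback (𝟙 X) (str R X) (str R X) (Spec.map (𝟙 R)) := by
    erw [Spec.map_id]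
    exact IsPullback.id_horiz _
  have hker : ∀ n, Nonempty (Coh.HH X G n ≃ₗ[R] LinearMap.ker (K.δ n)) := fun n => by
    obtain ⟨ev, hs, hk⟩ := exists_evBC h0 V G hcov haff (CxHom.idHom K) (fun M _ _ => CxHom.idHom_bij K M) n
    obtain ⟨e⟩ := K.exists_equiv_ker_baseChange R n ev hs hk
    obtain ⟨e'⟩ := K.nonempty_ker_baseChange_self n
    exact ⟨(hhEquivL ((Scheme.Modules.pullbackId X).app G) n).symm ≪≫ₗ e ≪≫ₗ e'⟩
  have hk : ∀ n, Module.Flat R (LinearMap.ker (K.δ n)) := fun n => by
    obtain ⟨e⟩ := hker n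
    haveI := hH n
    exact Module.Flat.of_linearEquiv e.symm
  have hC : ∀ k n, Nat.card ι ≤ n + k → Module.Flat R (K.X (n + 1) ⧸ K.bd (n + 1)) := by
    intro k
    induction k with
    | zero => exact fun n hn => K.flat_quot_of_exact n (hflat _) (exact'_cechCx V G haff n (by omega))
    | succ k ih => exact fun n hn => K.flat_quot_step (n + 1) (hflat _) (ih (n + 1) (by omega)) (hk _)
  obtain ⟨ev, hs, hk'⟩ := exists_evBC hc V G hcov haff (CxHom.idHom K) (fun M _ _ => CxHom.idHom_bij K M) p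
  letI := φ.hom.toAlgebra
  obtain ⟨e⟩ := K.exists_equiv_ker_baseChange R' p ev hs hk'
  obtain ⟨e'⟩ := K.nonempty_ker_baseChange R' p (hflat _) (hC (Nat.card ι) p (by omega))
  obtain ⟨e''⟩ := hker p
  exact ⟨e.toAddEquiv.trans (e'.trans (e''.symm.rTensor R').toAddEquiv)⟩

end Groth.Agent.BCLib
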