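import Groth.Agent.BCLib.Cochain
import Groth.Agent.BCLib.Const
import Groth.Agent.BCLib.FlatBase
import Groth.Agent.BCLib.Local

/-!
# Finite projective complexes of prescribed amplitude
-/

set_option autoImplicit false
set_option backward.isDefEq.respectTransparency false
set_option backward.defeqAttrib.useBackward true

universe u

open CategoryTheory CategoryTheory.Limits AlgebraicGeometry TensorProduct
open Groth.Agent.CohBase Groth.Agent.ProjCoh Groth.Agent.FormalLib

noncomputable section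

namespace Groth.Agent.BCLib

variable {A : Type u} [CommRing A]

namespace CxHom

variable {L K N : Cx A}

/-- Composition. -/
def comp (φ : CxHom L K) (ψ : CxHom N L) : CxHom N K where
  f n := φ.f n ∘ₗ ψ.f n
  comm n := LinearMap.ext fun x => by
    show K.d n (φ.f n (ψ.f n x)) = φ.f (n + 1) (ψ.f (n + 1) (N.d n x))
    rw [φ.comm_apply, ψ.comm_apply]

theorem bij_comp (φ : CxHom L K) (ψ : CxHom N L) (M : Type u) [AddCommGroup M] [Module A M]
    (hφ : φ.Bij M) (hψ : ψ.Bij M) : (φ.comp ψ).Bij M := by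
  have hc : ∀ n x, ((φ.comp ψ).f n).rTensor M x = (φ.f n).rTensor M ((ψ.f n).rTensor M x) :=
    fun n x => LinearMap.rTensor_comp_apply M _ _ x
  refine fun n => ⟨fun z hz => ?_, fun l hl hfl => ?_⟩
  · obtain ⟨l, hl, h⟩ := (hφ n).1 z hz
    obtain ⟨m, hm, hlm⟩ := (hψ n).1 l hl
    refine ⟨m, hm, ?_⟩
    rw [hc, show z - (φ.f n).rTensor M ((ψ.f n).rTensor M m) =
      (z - (φ.f n).rTensor M l) + (φ.f n).rTensor M (l - (ψ.f n).rTensor M m) by rw [map_sub]; abel]
    exact add_mem h (φ.mapsTo_B n hlm)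
  · rw [hc] at hfl
    refine (hψ n).2 l hl ((hφ n).2 _ ?_ hfl)
    show L.dT M n ((ψ.f n).rTensor M l) = 0
    rw [ψ.comm_rTensor, show N.dT M n l = 0 from hl, map_zero]

end CxHom

namespace Cx

variable (L : Cx A)

/-- `d ∘ t` arriving in degree `n`. -/
def back (t : ∀ n, L.X (n + 1) →ₗ[A] L.X n) : ∀ n, L.X n →ₗ[A] L.X n
  | 0 => 0
  | n + 1 => L.d n ∘ₗ t n

theorem exists_regular (hfin : ∀ n, Module.Finite A (L.X n)) (hflat : ∀ n, Module.Flat A (L.X n))
    [IsNoetherianRing A] (n : ℕ) (h : Module.Flat A (L.X (n + 1) ⧸ L.bd (n + 1))) :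
    ∃ t : L.X (n + 1) →ₗ[A] L.X n, L.d n ∘ₗ t ∘ₗ L.d n = L.d n := by
  haveI := hfin (n + 1)
  haveI := hflat (n + 1)
  haveI : Module.Flat A (L.X (n + 1) ⧸ LinearMap.range (L.d n)) := h
  haveI : Module.FinitePresentation A (L.X (n + 1)) := Module.finitePresentation_of_finite A _
  haveI : Module.FinitePresentation A (L.X (n + 1) ⧸ LinearMap.range (L.d n)) :=
    Module.finitePresentation_of_finite A _
  haveI : Module.Projective A (L.X (n + 1)) := Module.Flat.projective_of_finitePresentation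
  haveI : Module.Projective A (L.X (n + 1) ⧸ LinearMap.range (L.d n)) :=
    Module.Flat.projective_of_finitePresentation
  obtain ⟨σ, hσ⟩ := Module.projective_lifting_property (LinearMap.range (L.d n)).mkQ LinearMap.id
    (Submodule.mkQ_surjective _)
  let p : L.X (n + 1) →ₗ[A] LinearMap.range (L.d n) :=
    LinearMap.codRestrict _ (LinearMap.id - σ ∘ₗ (LinearMap.range (L.d n)).mkQ) fun x =>
      (Submodule.Quotient.mk_eq_zero _).1 (by
        rw [LinearMap.sub_apply, LinearMap.id_apply, LinearMap.comp_apply, ← Submodule.mkQ_apply, map_sub]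
        exact sub_eq_zero.2 (LinearMap.congr_fun hσ _).symm)
  obtain ⟨t, ht⟩ := Module.projective_lifting_property (L.d n).rangeRestrict p (L.d n).surjective_rangeRestrict
  refine ⟨t, LinearMap.ext fun x => (congrArg Subtype.val (LinearMap.congr_fun ht (L.d n x))).trans ?_⟩
  show L.d n x - σ ((LinearMap.range (L.d n)).mkQ (L.d n x)) = L.d n x
  rw [show (LinearMap.range (L.d n)).mkQ (L.d n x) = 0 from (Submodule.Quotient.mk_eq_zero _).2 ⟨x, rfl⟩,
    map_zero, sub_zero]

theorem mem_B_of_ker_eq_bot (n : ℕ) (h : LinearMap.ker (L.δ n) = ⊥)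
    (hflat : Module.Flat A (L.X (n + 1) ⧸ L.bd (n + 1)))
    (M : Type u) [AddCommGroup M] [Module A M] {z : L.X n ⊗[A] M} (hz : z ∈ L.Z M n) : z ∈ L.B M n := by
  haveI : Module.Flat A (L.X (n + 1) ⧸ LinearMap.range (L.δ n)) :=
    Module.Flat.of_linearEquiv (Submodule.quotEquivOfEq _ _ (L.range_δ n))
  have hinj : Function.Injective ((L.δ n).rTensor M) := by
    let e := LinearEquiv.ofInjective (L.δ n) (LinearMap.ker_eq_bot.1 h)
    intro x y hxy
    apply (LinearEquiv.rTensor M e).injective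
    apply FlatCx.rTensor_injective_of_flat_quotient (LinearMap.range (L.δ n)) M
    show (LinearMap.range (L.δ n)).subtype.rTensor M (e.toLinearMap.rTensor M x) =
      (LinearMap.range (L.δ n)).subtype.rTensor M (e.toLinearMap.rTensor M y)
    rw [← LinearMap.rTensor_comp_apply, ← LinearMap.rTensor_comp_apply]
    exact hxy
  rw [← L.ker_rTensor_mkQ_bd, LinearMap.mem_ker]
  exact hinj ((L.δ_rTensor_mkQ M n z).trans ((LinearMap.mem_ker.1 hz).trans (map_zero _).symm))

theorem exists_amplitude_aux [IsNoetherianRing A] (hfin : ∀ n, Module.Finite A (L.X n))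
    (hflat : ∀ n, Module.Flat A (L.X n)) {N : ℕ} (hN : ∀ n, N < n → Subsingleton (L.X n)) (lo hi : ℕ)
    (hlo : ∀ n, n < lo → ∀ x : PrimeSpectrum A, FlatCx.kdim (L.δ n) x.asIdeal.ResidueField = 0)
    (hhi : ∀ n, hi ≤ n → LinearMap.ker (L.δ n) = ⊥) :
    ∃ (Y : Cx A) (ι : CxHom Y L), (∀ n, Module.Finite A (Y.X n) ∧ Module.Projective A (Y.X n)) ∧
      (∀ n, (n < lo ∨ hi ≤ n) → Subsingleton (Y.X n)) ∧
        ∀ (M : Type u) [AddCommGroup M] [Module A M], ι.Bij M := by
  classical
  haveI := hfin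
  haveI := hflat
  haveI : ∀ n, Module.FinitePresentation A (L.X n) := fun n => Module.finitePresentation_of_finite A _
  haveI : ∀ n, Module.Projective A (L.X n) := fun n => Module.Flat.projective_of_finitePresentation
  have hq : ∀ n, (n < lo ∨ hi ≤ n) → Module.Flat A (L.X (n + 1) ⧸ L.bd (n + 1)) := by
    rintro n (hn | hn)
    · haveI : Module.Finite A (L.X n ⧸ L.bd n) := inferInstance
      haveI : Module.Flat A (L.X (n + 1) ⧸ LinearMap.range (L.δ n)) :=
        flat_coker_of_kdim_eq_zero (L.δ n) (hlo n hn)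
      exact Module.Flat.of_linearEquiv (Submodule.quotEquivOfEq _ _ (L.range_δ n).symm)
    · refine L.flat_quot_of_flat_kerδ hflat hN (N + 1) (n + 1) (by omega) fun m hm => ?_
      rw [hhi m (by omega)]
      infer_instance
  have hk : ∀ n, (n < lo ∨ hi ≤ n) → LinearMap.ker (L.δ n) = ⊥ := by
    rintro n (hn | hn)
    · haveI : Module.Finite A (L.X n ⧸ L.bd n) := inferInstance
      haveI : Subsingleton (LinearMap.ker (L.δ n)) := Module.support_eq_empty_iff.1
        (Set.eq_empty_iff_forall_notMem.2 fun x => notMem_support_ker_of_kdim_eq_zero (L.δ n) x (hlo n hn x))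
      exact Submodule.eq_bot_of_subsingleton
    · exact hhi n hn
  have ht : ∀ n, ∃ t : L.X (n + 1) →ₗ[A] L.X n, ((n + 1 = lo ∨ n + 1 = hi) → L.d n ∘ₗ t ∘ₗ L.d n = L.d n) ∧
      (¬(n + 1 = lo ∨ n + 1 = hi) → t = 0) := by
    intro n
    by_cases hn : n + 1 = lo ∨ n + 1 = hi
    · have hflatQ : Module.Flat A (L.X (n + 1) ⧸ L.bd (n + 1)) := by
        rcases hn with hn | hn
        · exact hq n (Or.inl (by omega))
        · exact L.flat_quot_of_flat_kerδ hflat hN (N + 1) (n + 1) (by omega) fun m hm => by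
            rw [hhi m (by omega)]; infer_instance
      obtain ⟨t, ht⟩ := L.exists_regular hfin hflat n hflatQ
      exact ⟨t, fun _ => ht, fun h => absurd hn h⟩
    · exact ⟨0, fun h => absurd h hn, fun _ => rfl⟩
  choose t ht ht0 using ht
  let P : ∀ n, L.X n →ₗ[A] L.X n := fun n => if n = lo then LinearMap.id - L.back t n else LinearMap.id
  let Q : ∀ n, L.X n →ₗ[A] L.X n := fun n => if n + 1 = hi then LinearMap.id - t n ∘ₗ L.d n else LinearMap.id
  let e : ∀ n, L.X n →ₗ[A] L.X n := fun n => if n < lo ∨ hi ≤ n then 0 else P n ∘ₗ Q n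
  have hdP : ∀ n x, L.d n (P n x) = L.d n x := by
    intro n x
    by_cases hn : n = lo
    · simp only [P, if_pos hn, LinearMap.sub_apply, LinearMap.id_apply, map_sub]
      cases n with
      | zero => simp [back]
      | succ m => simp [back, L.d_d_apply]
    · simp [P, if_neg hn]
  have hdQ : ∀ n x, L.d n (Q n x) = if n + 1 = hi then 0 else L.d n x := by
    intro n x
    by_cases hn : n + 1 = hi
    · simp only [Q, if_pos hn, LinearMap.sub_apply, LinearMap.id_apply, map_sub]
      exact sub_eq_zero.2 (LinearMap.congr_fun (ht n (Or.inr hn)) x).symm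
    · simp [Q, if_neg hn]
  have hQd : ∀ n x, Q (n + 1) (L.d n x) = L.d n x := by
    intro n x
    by_cases hn : n + 1 + 1 = hi
    · simp [Q, if_pos hn, L.d_d_apply]
    · simp [Q, if_neg hn]
  have hPd : ∀ n x, P (n + 1) (L.d n x) = if n + 1 = lo then 0 else L.d n x := by
    intro n x
    by_cases hn : n + 1 = lo
    · simp only [P, if_pos hn, LinearMap.sub_apply, LinearMap.id_apply]
      exact sub_eq_zero.2 (LinearMap.congr_fun (ht n (Or.inl hn)) x).symm
    · simp [P, if_neg hn]
  have hde : ∀ n, L.d n ∘ₗ e n = if n < lo ∨ hi ≤ n + 1 then 0 else L.d n := by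
    intro n
    refine LinearMap.ext fun x => ?_
    by_cases h1 : n < lo ∨ hi ≤ n
    · simp only [e, if_pos h1, if_pos (show n < lo ∨ hi ≤ n + 1 by omega)]
      simp
    · simp only [e, if_neg h1, LinearMap.comp_apply, hdP, hdQ]
      by_cases h2 : n + 1 = hi
      · rw [if_pos h2, if_pos (show n < lo ∨ hi ≤ n + 1 by omega)]; rfl
      · rw [if_neg h2, if_neg (show ¬(n < lo ∨ hi ≤ n + 1) by omega)]
  have hed : ∀ n, e (n + 1) ∘ₗ L.d n = if n + 1 ≤ lo ∨ hi ≤ n + 1 then 0 else L.d n := by
    intro n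
    refine LinearMap.ext fun x => ?_
    by_cases h1 : n + 1 < lo ∨ hi ≤ n + 1
    · simp only [e, if_pos h1, if_pos (show n + 1 ≤ lo ∨ hi ≤ n + 1 by omega)]
      simp
    · simp only [e, if_neg h1, LinearMap.comp_apply, hQd, hPd]
      by_cases h2 : n + 1 = lo
      · rw [if_pos h2, if_pos (show n + 1 ≤ lo ∨ hi ≤ n + 1 by omega)]; rfl
      · rw [if_neg h2, if_neg (show ¬(n + 1 ≤ lo ∨ hi ≤ n + 1) by omega)]
  have hee : ∀ n x, e n (e n x) = e n x := by
    intro n x
    by_cases h1 : n < lo ∨ hi ≤ n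
    · simp [e, if_pos h1]
    · simp only [e, if_neg h1, LinearMap.comp_apply]
      have hQ2 : Q n (P n (Q n x)) = P n (Q n x) := by
        by_cases h2 : n + 1 = hi
        · have : L.d n (P n (Q n x)) = 0 := by rw [hdP, hdQ, if_pos h2]
          generalize P n (Q n x) = y at this ⊢
          simp [Q, if_pos h2, this]
        · simp [Q, if_neg h2]
      rw [hQ2]
      by_cases h3 : n = lo
      · cases n with
        | zero => simp [P, if_pos h3, back]
        | succ m =>
          have : P (m + 1) (L.d m (t m (Q (m + 1) x))) = 0 := by rw [hPd, if_pos h3]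
          simp only [P, if_pos h3, back, LinearMap.sub_apply, LinearMap.id_apply, LinearMap.comp_apply] at this ⊢
          rw [map_sub, map_sub, this, sub_zero]
      · simp [P, if_neg h3]
  have hYd : ∀ n (y : LinearMap.range (e n)), L.d n y.1 ∈ LinearMap.range (e (n + 1)) := by
    rintro n ⟨_, x, rfl⟩
    show L.d n (e n x) ∈ _
    rw [← LinearMap.comp_apply, hde]
    by_cases h : n < lo ∨ hi ≤ n + 1
    · rw [if_pos h]; exact zero_mem _
    · rw [if_neg h]
      refine ⟨L.d n x, ?_⟩
      rw [← LinearMap.comp_apply, hed, if_neg (show ¬(n + 1 ≤ lo ∨ hi ≤ n + 1) by omega)]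
  let Y : Cx A :=
    { X := fun n => LinearMap.range (e n)
      d := fun n => LinearMap.codRestrict _ (L.d n ∘ₗ (LinearMap.range (e n)).subtype) (hYd n)
      d_d := fun n => LinearMap.ext fun x => Subtype.ext (L.d_d_apply n x.1) }
  let ι : CxHom Y L := { f := fun n => (LinearMap.range (e n)).subtype, comm := fun n => rfl }
  have hri : ∀ n, (e n).rangeRestrict ∘ₗ ι.f n = LinearMap.id := fun n => LinearMap.ext fun y => Subtype.ext (by
    obtain ⟨_, x, rfl⟩ := y
    exact hee n x)
  have hsub : ∀ n, (n < lo ∨ hi ≤ n) → Subsingleton (LinearMap.range (e n)) := fun n hn => by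
    have : LinearMap.range (e n) = ⊥ := by simp [e, if_pos hn]
    rw [this]
    infer_instance
  refine ⟨Y, ι, fun n => ⟨Module.Finite.of_surjective (e n).rangeRestrict (e n).surjective_rangeRestrict,
    Module.Projective.of_split (ι.f n) (e n).rangeRestrict (hri n)⟩, hsub, fun M _ _ n => ?_⟩
  have hinj : ∀ m, Function.Injective ((ι.f m).rTensor M) := fun m =>
    Function.LeftInverse.injective (g := (e m).rangeRestrict.rTensor M) fun y => by
      rw [← LinearMap.rTensor_comp_apply, hri, LinearMap.rTensor_id, LinearMap.id_apply]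
  have hre : ∀ m z, (ι.f m).rTensor M ((e m).rangeRestrict.rTensor M z) = (e m).rTensor M z := fun m z => by
    rw [← LinearMap.rTensor_comp_apply]
    rfl
  refine ⟨fun z hz => ?_, fun l hl hfl => ?_⟩
  · by_cases hn : n < lo ∨ hi ≤ n
    · exact ⟨0, zero_mem _, by rw [map_zero, sub_zero]; exact L.mem_B_of_ker_eq_bot n (hk n hn) (hq n hn) M hz⟩
    refine ⟨(e n).rangeRestrict.rTensor M z, LinearMap.mem_ker.2 (hinj (n + 1) ?_), ?_⟩
    · rw [map_zero, ← ι.comm_rTensor, hre, Cx.dT, ← LinearMap.rTensor_comp_apply, hde]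
      by_cases h : n < lo ∨ hi ≤ n + 1
      · rw [if_pos h, LinearMap.rTensor_zero, LinearMap.zero_apply]
      · rw [if_neg h]; exact hz
    · have hz0 : (L.d n).rTensor M z = 0 := hz
      have hQz : (Q n).rTensor M z = z := by
        by_cases h : n + 1 = hi
        · simp only [Q, if_pos h, LinearMap.rTensor_sub, LinearMap.sub_apply, LinearMap.rTensor_id,
            LinearMap.id_apply, LinearMap.rTensor_comp_apply, hz0, map_zero, sub_zero]
        · simp only [Q, if_neg h, LinearMap.rTensor_id, LinearMap.id_apply]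
      rw [hre, show e n = P n ∘ₗ Q n from if_neg hn, LinearMap.rTensor_comp_apply, hQz]
      by_cases h : n = lo
      · rw [show P n = LinearMap.id - L.back t n from if_pos h, LinearMap.rTensor_sub, LinearMap.sub_apply,
          LinearMap.rTensor_id, LinearMap.id_apply, sub_sub_cancel]
        cases n with
        | zero =>
          rw [show L.back t 0 = 0 from rfl, LinearMap.rTensor_zero, LinearMap.zero_apply]
          exact zero_mem _
        | succ m => exact ⟨(t m).rTensor M z, (LinearMap.rTensor_comp_apply M _ _ z).symm⟩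
      · rw [show P n = LinearMap.id from if_neg h, LinearMap.rTensor_id, LinearMap.id_apply, sub_self]
        exact zero_mem _
  · have hid : (e n).rangeRestrict.rTensor M ((ι.f n).rTensor M l) = l := by
      rw [← LinearMap.rTensor_comp_apply, hri, LinearMap.rTensor_id, LinearMap.id_apply]
    cases n with
    | zero =>
      rw [← hid, (Submodule.mem_bot A).1 hfl, map_zero]
      exact zero_mem _
    | succ m =>
      obtain ⟨w, hw⟩ := hfl
      refine ⟨(e m).rangeRestrict.rTensor M w, hinj (m + 1) ?_⟩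
      have hel : (e (m + 1)).rTensor M ((ι.f (m + 1)).rTensor M l) = (ι.f (m + 1)).rTensor M l := by
        rw [← hre, hid]
      rw [← ι.comm_rTensor, hre, ← hel, ← hw, Cx.dT, ← LinearMap.rTensor_comp_apply,
        ← LinearMap.rTensor_comp_apply, hde, hed]
      by_cases h : m < lo ∨ hi ≤ m + 1
      · rw [if_pos h, if_pos (show m + 1 ≤ lo ∨ hi ≤ m + 1 by omega)]
      · rw [if_neg h, if_neg (show ¬(m + 1 ≤ lo ∨ hi ≤ m + 1) by omega)]

/-- Comparison of the cohomology of a base change with the cohomology of the extended complex. -/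
theorem nonempty_equiv_T (B : Type u) [CommRing B] [Algebra A B] (n : ℕ) {H : Type u} [AddCommGroup H]
    [Module B H] (ev : L.zBC B n →ₗ[B] H) (hs : Function.Surjective ev)
    (hk : ∀ z, ev z = 0 ↔ z.1 ∈ L.bBC B n) :
    Nonempty (H ≃+ CohIII.T (L.toCochain PUnit.{u + 1} 0 (fun _ => 0) (LinearMap.comp_zero _)
      (LinearMap.comp_zero _) (fun _ => LinearMap.comp_zero _)) (n : ℤ) (ModuleCat.of A B)) := by
  letI : Module A H := Module.compHom H (algebraMap A B)
  haveI : IsScalarTower A B H := .of_algebraMap_smul fun _ _ => rfl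
  obtain ⟨π, hπ, hπ0⟩ := L.exists_surjective_T PUnit.{u + 1} 0 (fun _ => 0) (LinearMap.comp_zero _)
    (LinearMap.comp_zero _) (fun _ => LinearMap.comp_zero _) (ModuleCat.of A B) n
  let c : L.Z B n →ₗ[A] (L.zBC B n).restrictScalars A :=
    (TensorProduct.comm A (L.X n) B).toLinearMap.restrict fun z hz => (L.mem_zBC_iff B n z).2 hz
  have hc : Function.Surjective c := by
    rintro ⟨w, hw⟩
    obtain ⟨z, rfl⟩ := (TensorProduct.comm A (L.X n) B).surjective w
    exact ⟨⟨z, (L.mem_zBC_iff B n z).1 hw⟩, rfl⟩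
  let π' : L.Z B n →ₗ[A] H := (ev.restrictScalars A) ∘ₗ c
  have hB : L.zB PUnit.{u + 1} (0 : PUnit.{u + 1} →ₗ[A] L.X 0) (ModuleCat.of A B) n = L.B B n := by
    cases n with
    | zero =>
      show LinearMap.range ((0 : PUnit.{u + 1} →ₗ[A] L.X 0).rTensor B) = ⊥
      rw [LinearMap.rTensor_zero, LinearMap.range_zero]
    | succ m => rfl
  have hπ' : Function.Surjective π' := fun x => by
    obtain ⟨w, rfl⟩ := hs x
    obtain ⟨z, hz⟩ := hc w
    exact ⟨z, congrArg ev hz⟩
  exact ⟨(surjEquiv (R := A) π' π hπ' hπ fun z => (hk _).trans ((L.mem_bBC_iff B n z.1).trans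
      ((Iff.of_eq (congrArg (z.1 ∈ ·) hB.symm)).trans (hπ0 z).symm))).toAddEquiv⟩

end Cx

/-- A finite projective complex of prescribed amplitude computing all base changes. -/
theorem exists_amplitude [IsNoetherianRing A] {X : Scheme.{u}} [X.Over (Spec (CommRingCat.of A))]
    [IsProper (X ↘ Spec (CommRingCat.of A))] (F : X.Modules) (hF : Coh.IsCoh F)
    (hfl : FlatMod.IsFlatOver (X ↘ Spec (CommRingCat.of A)) F) (lo hi : ℕ)
    (hhi : ∀ p : ℕ, hi ≤ p → Subsingleton (Coh.HH X F p))
    (hlo : ∀ (y : ↑(Spec (CommRingCat.of A))) (p : ℕ), p < lo →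
      Subsingleton (CohIII.fiberH (X ↘ Spec (CommRingCat.of A)) F y p)) :
    ∃ C : CochainComplex (ModuleCat.{u} A) ℤ, (∀ i, Module.Finite A (C.X i) ∧ Module.Projective A (C.X i)) ∧
      (∀ i : ℤ, i < (lo : ℤ) ∨ (hi : ℤ) ≤ i → IsZero (C.X i)) ∧
      ∀ (B : Type u) [CommRing B] [Algebra A B] (p : ℕ),
        Nonempty (Coh.HH (pullback (X ↘ Spec (CommRingCat.of A)) (Spec.map (CommRingCat.ofHom (algebraMap A B))))
            ((Scheme.Modules.pullback (pullback.fst (X ↘ Spec (CommRingCat.of A))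
              (Spec.map (CommRingCat.ofHom (algebraMap A B))))).obj F) p ≃+
          CohIII.T C (p : ℤ) (ModuleCat.of A B)) := by
  haveI hq : Coh.IsQCoh F := hF.1
  obtain ⟨ι, hι, V, hcov, haff, L, φ, hfin, hflat, hbd, -, hbij⟩ := exists_cover_bij hF hfl
  have h0 : IsPullback (𝟙 X) (str (CommRingCat.of A) X) (str (CommRingCat.of A) X)
      (Spec.map (𝟙 (CommRingCat.of A))) := by
    erw [Spec.map_id]
    exact IsPullback.id_horiz _
  have hker : ∀ n, Nonempty (Coh.HH X F n ≃ₗ[A] LinearMap.ker (L.δ n)) := fun n => by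
    obtain ⟨ev, hs, hk⟩ := exists_evBC (R := CommRingCat.of A) (R' := CommRingCat.of A) h0 V F hcov haff φ hbij n
    obtain ⟨e⟩ := L.exists_equiv_ker_baseChange A n ev hs hk
    obtain ⟨e'⟩ := L.nonempty_ker_baseChange_self n
    exact ⟨(hhEquivL ((Scheme.Modules.pullbackId X).app F) n).symm ≪≫ₗ e ≪≫ₗ e'⟩
  have hkdim : ∀ n, n < lo → ∀ x : PrimeSpectrum A, FlatCx.kdim (L.δ n) x.asIdeal.ResidueField = 0 := by
    intro n hn x
    haveI := hlo x n hn
    exact (fiberRank_eq_kdim_aux (R := CommRingCat.of A) V F hcov haff φ hbij hfin n x).1.symm.trans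
      Module.finrank_zero_of_subsingleton
  have hkbot : ∀ n, hi ≤ n → LinearMap.ker (L.δ n) = ⊥ := fun n hn => by
    obtain ⟨e⟩ := hker n
    haveI := hhi n hn
    haveI : Subsingleton (LinearMap.ker (L.δ n)) := e.symm.toEquiv.subsingleton
    exact Submodule.eq_bot_of_subsingleton
  obtain ⟨Y, j, hY, hY0, hjbij⟩ := L.exists_amplitude_aux hfin hflat hbd lo hi hkdim hkbot
  refine ⟨Y.toCochain PUnit.{u + 1} 0 (fun _ => 0) (LinearMap.comp_zero _) (LinearMap.comp_zero _)
    (fun _ => LinearMap.comp_zero _), fun i => ?_, fun i hi' => ?_, fun B _ _ p => ?_⟩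
  · match i with
    | Int.ofNat n => exact hY n
    | Int.negSucc k => exact ⟨inferInstanceAs (Module.Finite A PUnit.{u + 1}),
        inferInstanceAs (Module.Projective A PUnit.{u + 1})⟩
  · match i with
    | Int.ofNat n =>
      haveI := hY0 n (by simp only [Int.ofNat_eq_natCast] at hi'; omega)
      exact ModuleCat.isZero_of_iff_subsingleton.2 ‹_›
    | Int.negSucc k => exact ModuleCat.isZero_of_iff_subsingleton.2 (inferInstanceAs (Subsingleton PUnit.{u + 1}))
  · let φB : CommRingCat.of A ⟶ CommRingCat.of B := CommRingCat.ofHom (algebraMap A B)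
    letI : (pullback (X ↘ Spec (CommRingCat.of A)) (Spec.map φB)).Over (Spec (CommRingCat.of B)) :=
      ⟨pullback.snd _ _⟩
    have hc : IsPullback (pullback.fst (X ↘ Spec (CommRingCat.of A)) (Spec.map φB))
        (str (CommRingCat.of B) (pullback (X ↘ Spec (CommRingCat.of A)) (Spec.map φB)))
        (str (CommRingCat.of A) X) (Spec.map φB) := IsPullback.of_hasPullback _ _
    obtain ⟨ev, hs, hk⟩ := exists_evBC hc V F hcov haff (φ.comp j)
      (fun M _ _ => φ.bij_comp j M (hbij M) (hjbij M)) p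
    have halg : φB.hom.toAlgebra = ‹Algebra A B› := Algebra.algebra_ext _ _ fun _ => rfl
    revert ev
    rw [halg]
    exact fun ev hs hk => Y.nonempty_equiv_T B p ev hs hk

end Groth.Agent.BCLib
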