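import Groth.Agent.BCLib.SecBC

/-!
# The finite complex commutes with arbitrary base change
-/

set_option autoImplicit false
set_option backward.isDefEq.respectTransparency false
set_option backward.defeqAttrib.useBackward true
set_option linter.style.haveILetI false

universe u

open CategoryTheory CategoryTheory.Limits AlgebraicGeometry TopologicalSpace Opposite TensorProduct
open Groth.Agent.CohBase Groth.Agent.ProjCoh Groth.Agent.FormalLib Groth.Agent.PullbackMod

noncomputable section

namespace Groth.Agent.BCLib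

namespace Cx

variable {A : Type u} [CommRing A] (L : Cx A) (B : Type u) [CommRing B] [Algebra A B]

/-- Cocycles of the base change. -/
abbrev zBC (n : ℕ) : Submodule B (B ⊗[A] L.X n) := LinearMap.ker ((L.d n).baseChange B)

/-- Coboundaries of the base change. -/
def bBC : ∀ n, Submodule B (B ⊗[A] L.X n)
  | 0 => ⊥
  | n + 1 => LinearMap.range ((L.d n).baseChange B)

theorem comm_dT (n : ℕ) (z : L.X n ⊗[A] B) :
    TensorProduct.comm A (L.X (n + 1)) B (L.dT B n z) =
      (L.d n).baseChange B (TensorProduct.comm A (L.X n) B z) := by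
  induction z using TensorProduct.induction_on with
  | zero => simp
  | tmul x b => simp [Cx.dT]
  | add u v hu hv => simp only [map_add, hu, hv]

theorem mem_zBC_iff (n : ℕ) (z : L.X n ⊗[A] B) :
    TensorProduct.comm A _ B z ∈ L.zBC B n ↔ z ∈ L.Z B n := by
  rw [LinearMap.mem_ker, LinearMap.mem_ker, ← comm_dT, map_eq_zero_iff _ (LinearEquiv.injective _)]

theorem mem_bBC_iff (n : ℕ) (z : L.X n ⊗[A] B) :
    TensorProduct.comm A _ B z ∈ L.bBC B n ↔ z ∈ L.B B n := by
  cases n with
  | zero =>
    show _ ∈ (⊥ : Submodule B _) ↔ z ∈ (⊥ : Submodule A _)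
    rw [Submodule.mem_bot, Submodule.mem_bot, map_eq_zero_iff _ (LinearEquiv.injective _)]
  | succ n =>
    constructor
    · rintro ⟨w, hw⟩
      obtain ⟨w, rfl⟩ := (TensorProduct.comm A (L.X n) B).surjective w
      rw [← comm_dT] at hw
      exact ⟨w, (TensorProduct.comm A _ B).injective hw⟩
    · rintro ⟨w, rfl⟩
      exact ⟨TensorProduct.comm A _ B w, (L.comm_dT B n w).symm⟩

end Cx

namespace CxHom

variable {A : Type u} [CommRing A] {L K : Cx A} (φ : CxHom L K) (B : Type u) [CommRing B] [Algebra A B]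

theorem comm_f (n : ℕ) (z : L.X n ⊗[A] B) :
    TensorProduct.comm A (K.X n) B ((φ.f n).rTensor B z) =
      (φ.f n).baseChange B (TensorProduct.comm A (L.X n) B z) := by
  induction z using TensorProduct.induction_on with
  | zero => simp
  | tmul x b => simp
  | add u v hu hv => simp only [map_add, hu, hv]

theorem mapsTo_zBC (n : ℕ) {z : B ⊗[A] L.X n} (hz : z ∈ L.zBC B n) : (φ.f n).baseChange B z ∈ K.zBC B n := by
  obtain ⟨z, rfl⟩ := (TensorProduct.comm A (L.X n) B).surjective z
  rw [← comm_f, Cx.mem_zBC_iff]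
  exact φ.mapsTo_Z n ((L.mem_zBC_iff B n z).1 hz)

theorem bijBC (h : φ.Bij B) (n : ℕ) :
    (∀ z ∈ K.zBC B n, ∃ l ∈ L.zBC B n, z - (φ.f n).baseChange B l ∈ K.bBC B n) ∧
      ∀ l ∈ L.zBC B n, ((φ.f n).baseChange B l ∈ K.bBC B n ↔ l ∈ L.bBC B n) := by
  refine ⟨fun z hz => ?_, fun l hl => ?_⟩
  · obtain ⟨z, rfl⟩ := (TensorProduct.comm A (K.X n) B).surjective z
    obtain ⟨l, hl, hzl⟩ := (h n).1 z ((K.mem_zBC_iff B n z).1 hz)
    refine ⟨TensorProduct.comm A _ B l, (L.mem_zBC_iff B n l).2 hl, ?_⟩
    rw [← comm_f, ← map_sub, Cx.mem_bBC_iff]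
    exact hzl
  · obtain ⟨l, rfl⟩ := (TensorProduct.comm A (L.X n) B).surjective l
    rw [← comm_f, Cx.mem_bBC_iff, Cx.mem_bBC_iff]
    exact ⟨(h n).2 l ((L.mem_zBC_iff B n l).1 hl), φ.mapsTo_B n⟩

end CxHom

variable {R R' : CommRingCat.{u}} {X X' : Scheme.{u}} [X.Over (Spec (CommRingCat.of R))]
  [X'.Over (Spec (CommRingCat.of R'))] (g' : X' ⟶ X) (φ : R ⟶ R')
  (hc : IsPullback g' (str R' X') (str R X) (Spec.map φ))
  {ι : Type u} (V : ι → X.Opens) (G : X.Modules)

/-- Inverse image of cochains. -/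
def pullCoch (q : ℕ) :
    letI := Module.compHom (Coch (str R' X') ((Scheme.Modules.pullback g').obj G) (ProperFin.preCov g' V) q) φ.hom
    Coch (str R X) G V q →ₗ[R] Coch (str R' X') ((Scheme.Modules.pullback g').obj G) (ProperFin.preCov g' V) q :=
  letI := Module.compHom (Coch (str R' X') ((Scheme.Modules.pullback g').obj G) (ProperFin.preCov g' V) q) φ.hom
  { toFun := fun c i => secPull (str R X) (str R' X') g' φ _ G hc.w (ProperFin.inter_preCov g' V i).ge (c i)
    map_add' := fun c c' => funext fun i => map_add (pullMap g' G (ProperFin.inter_preCov g' V i).ge) _ _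
    map_smul' := fun r c => funext fun i => by
      letI (W' : X'.Opens) : Module R (Sec (cst R' X') ((Scheme.Modules.pullback g').obj G) W') :=
        Module.compHom _ φ.hom
      exact (secPull (str R X) (str R' X') g' φ (inter V i) G hc.w (ProperFin.inter_preCov g' V i).ge).map_smul' r (c i) }

theorem dL_pullCoch (q : ℕ) (c : Coch (str R X) G V q) :
    dL (str R' X') _ (ProperFin.preCov g' V) q (pullCoch g' φ hc V G q c) =
      pullCoch g' φ hc V G (q + 1) (dL (str R X) G V q c) := by
  funext i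
  show _ = pullMap g' G _ (dL (str R X) G V q c i)
  rw [dL_eq, dL_eq, cdiff_apply, cdiff_apply, map_sum]
  refine Finset.sum_congr rfl fun j _ => ?_
  rw [map_zsmul]
  refine congrArg (fun w => (-1 : ℤ) ^ (j : ℕ) • w) ?_
  exact pullMap_res g' G _ (inter_comp_le V i j.succAbove) _ _ _

variable [Finite ι] [Coh.IsQCoh G] (haff : ∀ (m : ℕ) (i : Fin (m + 1) → ι), IsAffineOpen (inter V i))

include hc haff in
theorem isBaseChange_pullCoch (q : ℕ) :
    letI := φ.hom.toAlgebra
    letI := Module.compHom (Coch (str R' X') ((Scheme.Modules.pullback g').obj G) (ProperFin.preCov g' V) q) φ.hom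
    haveI : IsScalarTower R R' (Coch (str R' X') ((Scheme.Modules.pullback g').obj G) (ProperFin.preCov g' V) q) :=
      .of_algebraMap_smul fun _ _ => rfl
    IsBaseChange R' (pullCoch g' φ hc V G q) := by
  classical
  haveI : Fintype (Fin (q + 1) → ι) := Fintype.ofFinite _
  letI := φ.hom.toAlgebra
  letI := Module.compHom (Coch (str R' X') ((Scheme.Modules.pullback g').obj G) (ProperFin.preCov g' V) q) φ.hom
  haveI : IsScalarTower R R' (Coch (str R' X') ((Scheme.Modules.pullback g').obj G) (ProperFin.preCov g' V) q) :=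
    .of_algebraMap_smul fun _ _ => rfl
  letI (W' : X'.Opens) : Module R (Sec (cst R' X') ((Scheme.Modules.pullback g').obj G) W') :=
    Module.compHom _ φ.hom
  haveI (W' : X'.Opens) : IsScalarTower R R' (Sec (cst R' X') ((Scheme.Modules.pullback g').obj G) W') :=
    .of_algebraMap_smul fun _ _ => rfl
  let t : ∀ i : Fin (q + 1) → ι, R' ⊗[R] Sec (cst R X) G (inter V i) ≃ₗ[R']
      Sec (cst R' X') ((Scheme.Modules.pullback g').obj G) (inter (ProperFin.preCov g' V) i) := fun i =>
    (isBaseChange_secPull (f := str R X) (f' := str R' X') hc G (haff q i)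
      (ProperFin.inter_preCov g' V i).symm).equiv
  refine IsBaseChange.of_equiv
    (TensorProduct.piRight R R' R' (fun i : Fin (q + 1) → ι => Sec (cst R X) G (inter V i)) ≪≫ₗ
      LinearEquiv.piCongrRight t) fun c => ?_
  funext i
  show t i ((1 : R') ⊗ₜ[R] c i) = _
  rw [IsBaseChange.equiv_tmul, one_smul]
  rfl

include hc haff in
/-- The base change of the Čech complex computes the cohomology upstairs. -/
theorem exists_clBC [IsSeparated (str R X)] (hcov : (⊤ : X.Opens) ≤ iSup V) (q : ℕ) (K : Cx R)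
    (e : ∀ n, K.X n ≃ₗ[R] Coch (str R X) G V n)
    (he : ∀ n x, dL (str R X) G V n (e n x) = e (n + 1) (K.d n x)) :
    letI := φ.hom.toAlgebra
    ∃ ev : K.zBC R' q →ₗ[R'] Coh.HH X' ((Scheme.Modules.pullback g').obj G) q,
      Function.Surjective ev ∧ ∀ z, ev z = 0 ↔ z.1 ∈ K.bBC R' q := by
  letI := φ.hom.toAlgebra
  let G' := (Scheme.Modules.pullback g').obj G
  let V' := ProperFin.preCov g' V
  haveI : Coh.IsQCoh G' := isQCoh_pullback g' G
  have hcov' : (⊤ : X'.Opens) ≤ iSup V' := fun x _ => by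
    obtain ⟨b, hb⟩ := Opens.mem_iSup.1 (hcov (show g' x ∈ (⊤ : X.Opens) from trivial))
    exact Opens.mem_iSup.2 ⟨b, hb⟩
  have haff' : ∀ (m : ℕ) (i : Fin (m + 1) → ι), IsAffineOpen (inter V' i) := fun m i => by
    rw [← ProperFin.inter_preCov]
    exact (isPushout_secHom (f := str R X) (f' := str R' X') hc (haff m i)).1
  let Θ : ∀ n, R' ⊗[R] K.X n ≃ₗ[R'] Coch (str R' X') G' V' n := fun n =>
    letI := Module.compHom (Coch (str R' X') G' V' n) φ.hom
    haveI : IsScalarTower R R' (Coch (str R' X') G' V' n) := .of_algebraMap_smul fun _ _ => rfl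
    (e n).baseChange R R' ≪≫ₗ (isBaseChange_pullCoch g' φ hc V G haff n).equiv
  have hΘ : ∀ n z, dL (str R' X') G' V' n (Θ n z) = Θ (n + 1) ((K.d n).baseChange R' z) := fun n z => by
    letI := Module.compHom (Coch (str R' X') G' V' n) φ.hom
    haveI : IsScalarTower R R' (Coch (str R' X') G' V' n) := .of_algebraMap_smul fun _ _ => rfl
    letI := Module.compHom (Coch (str R' X') G' V' (n + 1)) φ.hom
    haveI : IsScalarTower R R' (Coch (str R' X') G' V' (n + 1)) := .of_algebraMap_smul fun _ _ => rfl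
    induction z using TensorProduct.induction_on with
    | zero => simp only [map_zero]
    | tmul b x =>
      simp only [Θ, LinearEquiv.trans_apply, LinearMap.baseChange_tmul, LinearEquiv.baseChange_tmul]
      refine (congrArg _ (IsBaseChange.equiv_tmul (isBaseChange_pullCoch g' φ hc V G haff n) b (e n x))).trans ?_
      refine Eq.trans ?_ (IsBaseChange.equiv_tmul (isBaseChange_pullCoch g' φ hc V G haff (n + 1)) b _).symm
      refine (map_smul (dL (str R' X') G' V' n) b _).trans (congrArg (b • ·) ?_)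
      exact (dL_pullCoch g' φ hc V G n _).trans (congrArg _ (he n x))
    | add u v hu hv => simp only [map_add, hu, hv]
  refine ⟨cls V' hcov' haff' G' q ∘ₗ (Θ q).toLinearMap.restrict
    (p := K.zBC R' q) (q := LinearMap.ker (dL (str R' X') G' V' q))
    fun z hz => LinearMap.mem_ker.2 ((hΘ q z).trans ((congrArg _ (LinearMap.mem_ker.1 hz)).trans (map_zero _))),
    fun x => ?_, fun z => ?_⟩
  · obtain ⟨⟨c, hc'⟩, rfl⟩ := cls_surjective (A := R') V' hcov' haff' G' q x
    obtain ⟨z, rfl⟩ := (Θ q).surjective c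
    exact ⟨⟨z, LinearMap.mem_ker.2 ((Θ (q + 1)).injective
      ((hΘ q z).symm.trans ((LinearMap.mem_ker.1 hc').trans (map_zero _).symm)))⟩, rfl⟩
  · refine (cls_eq_zero_iff (A := R') V' hcov' haff' G' q _).trans ?_
    cases q with
    | zero =>
      show Θ 0 z.1 ∈ (⊥ : Submodule R' _) ↔ z.1 ∈ (⊥ : Submodule R' _)
      rw [Submodule.mem_bot, Submodule.mem_bot, map_eq_zero_iff _ (Θ 0).injective]
    | succ q =>
      show Θ (q + 1) z.1 ∈ Submodule.map (dL (str R' X') G' V' q) _ ↔
        z.1 ∈ LinearMap.range ((K.d q).baseChange R')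
      rw [pow_zero, Ideal.one_eq_top, Submodule.top_smul, Submodule.map_top]
      constructor
      · rintro ⟨b, hb⟩
        obtain ⟨w, rfl⟩ := (Θ q).surjective b
        exact ⟨w, (Θ (q + 1)).injective ((hΘ q w).symm.trans hb)⟩
      · rintro ⟨w, hw⟩
        exact ⟨Θ q w, (hΘ q w).trans (congrArg _ hw)⟩

end Groth.Agent.BCLib
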