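import Groth.Agent.CohBase.Cech
import Groth.Agent.CechSys.RSys

/-!
# Čech cohomology of a presheaf vanishes above the number of opens
-/

set_option autoImplicit false
set_option backward.isDefEq.respectTransparency false

universe u

open CategoryTheory Opposite TopologicalSpace

noncomputable section

namespace Groth.Agent.BCLib

open Groth.Agent.CohBase Groth.Agent.CechSys

variable {X : Type u} [TopologicalSpace X] {n : ℕ} (W : Fin n → Opens X)
  (P : (Opens X)ᵒᵖ ⥤ AddCommGrpCat.{u})

/-- The system of sections on intersections. -/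
def presheafSys : RSys.{0, u} (Fin n) ℤ where
  M S := P.obj (op (S.inf W))
  res h := (res P (Finset.inf_mono h)).toIntLinearMap
  res_self h m := CohBase.res_self P _ m
  res_res h h' m := CohBase.res_res P _ _ m

variable {ι : Type u} (U : ι → Opens X)

theorem inter_eq_inf (e : Fin n ≃ ι) {m : ℕ} (t : Fin (m + 1) → ι) :
    inter U t = (img (e.symm ∘ t)).inf (U ∘ e) := by
  refine le_antisymm (Finset.le_inf fun a ha => ?_) (le_iInf fun k => ?_)
  · obtain ⟨k, rfl⟩ := mem_img.1 ha
    simpa using inter_le U t k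
  · have := Finset.inf_le (f := U ∘ e) (mem_img.2 ⟨k, rfl⟩ : (e.symm ∘ t) k ∈ img (e.symm ∘ t))
    simpa using this

/-- Cochains of the system as cochains of the presheaf. -/
def sysToCC (e : Fin n ≃ ι) (m : ℕ) : (presheafSys (U ∘ e) P).C m →+ CC U P m where
  toFun c t := res P (inter_eq_inf U e t).le (c (e.symm ∘ t))
  map_zero' := funext fun t => map_zero _
  map_add' a b := funext fun t => map_add _ _ _

theorem cdiff_sysToCC (e : Fin n ≃ ι) (m : ℕ) (c : (presheafSys (U ∘ e) P).C m) :
    cdiff U P m (sysToCC P U e m c) = sysToCC P U e (m + 1) ((presheafSys (U ∘ e) P).d m c) := by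
  funext t
  rw [cdiff_apply]
  show _ = res P _ ((presheafSys (U ∘ e) P).d m c (e.symm ∘ t))
  rw [RSys.d_apply, map_sum]
  refine Finset.sum_congr rfl fun j _ => ?_
  rw [map_zsmul]
  congr 1
  show res P _ (res P _ _) = res P _ (res P _ _)
  rw [CohBase.res_res, CohBase.res_res]
  rfl

theorem sysToCC_bijective (e : Fin n ≃ ι) (m : ℕ) : Function.Bijective (sysToCC P U e m) := by
  have key : ∀ (c : (presheafSys (U ∘ e) P).C m) {u u' : Fin (m + 1) → Fin n} (_ : u = u') {V : Opens X}
      (h : V ≤ (img u).inf (U ∘ e)) (h' : V ≤ (img u').inf (U ∘ e)), res P h (c u) = res P h' (c u') := by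
    intro c u u' hu V h h'
    subst hu
    rfl
  refine ⟨fun a b hab => funext fun t => ?_, fun z => ?_⟩
  · have ht : e.symm ∘ (e ∘ t) = t := funext fun k => e.symm_apply_apply _
    have hle : (img t).inf (U ∘ e) ≤ inter U (e ∘ t) := by rw [inter_eq_inf U e, ht]
    have h : res P hle (sysToCC P U e m a (e ∘ t)) = res P hle (sysToCC P U e m b (e ∘ t)) := by rw [hab]
    change res P hle (res P _ (a _)) = res P hle (res P _ (b _)) at h
    rw [CohBase.res_res, CohBase.res_res, key a ht _ le_rfl, key b ht _ le_rfl,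
      CohBase.res_self, CohBase.res_self] at h
    exact h
  · have keyz : ∀ {u u' : Fin (m + 1) → ι} (_ : u = u') {V : Opens X} (h : V ≤ inter U u)
        (h' : V ≤ inter U u'), res P h (z u) = res P h' (z u') := by
      intro u u' hu V h h'
      subst hu
      rfl
    have ht : ∀ t : Fin (m + 1) → ι, e ∘ (e.symm ∘ t) = t := fun t => funext fun k => e.apply_symm_apply _
    have hle : ∀ t : Fin (m + 1) → Fin n, (img t).inf (U ∘ e) ≤ inter U (e ∘ t) := fun t => by
      rw [inter_eq_inf U e, show e.symm ∘ (e ∘ t) = t from funext fun k => e.symm_apply_apply _]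
    refine ⟨fun t => res P (hle t) (z (e ∘ t)), funext fun t => ?_⟩
    show res P _ (res P _ _) = _
    rw [CohBase.res_res, keyz (ht t) _ le_rfl, CohBase.res_self]

/-- Exactness above the number of opens. -/
theorem cExact_of_card_le [Finite ι] (p : ℕ) (h : Nat.card ι ≤ p + 1) : CExact U P p := by
  intro c hc
  let e : Fin (Nat.card ι) ≃ ι := (Finite.equivFin ι).symm
  obtain ⟨c', rfl⟩ := (sysToCC_bijective P U e (p + 1)).2 c
  rw [cdiff_sysToCC] at hc
  have hc' := (sysToCC_bijective P U e (p + 1 + 1)).1 (hc.trans (map_zero _).symm)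
  obtain ⟨b, hb⟩ := (presheafSys (U ∘ e) P).exists_preimage Finset.univ p (by simpa using h) c'
    fun t _ => congrFun hc' t
  exact ⟨sysToCC P U e p b, (cdiff_sysToCC P U e p b).trans
    (congrArg _ (funext fun t => hb t (Finset.subset_univ _)))⟩

end Groth.Agent.BCLib
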