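import Groth.Agent.FlatCx.Ext
import Groth.Agent.FlatCx.Cochain
import Mathlib.LinearAlgebra.TensorProduct.Prod
import Mathlib.RingTheory.Finiteness.Prod

/-!
# Finite models of complexes of flat modules

A complex of flat modules in non-negative degrees with finite cohomology, exact after every base
change in large degrees, is universally quasi-isomorphic to a finite complex of finite flat modules.
-/

set_option autoImplicit false
set_option backward.isDefEq.respectTransparency false

universe u

open TensorProduct LinearMap Function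

noncomputable section

namespace Groth.Agent.BCLib

variable (A : Type u) [CommRing A]

/-- A complex of modules in non-negative degrees. -/
structure Cx where
  /-- The terms. -/
  X : ℕ → Type u
  [instAdd : ∀ n, AddCommGroup (X n)]
  [instMod : ∀ n, Module A (X n)]
  /-- The differential. -/
  d : ∀ n, X n →ₗ[A] X (n + 1)
  d_d : ∀ n, d (n + 1) ∘ₗ d n = 0

attribute [instance] Cx.instAdd Cx.instMod

variable {A}

namespace Cx

variable (K : Cx A)

theorem d_d_apply (n : ℕ) (x : K.X n) : K.d (n + 1) (K.d n x) = 0 := congr($(K.d_d n) x)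

variable (M : Type u) [AddCommGroup M] [Module A M]

/-- The differential after tensoring with `M`. -/
abbrev dT (n : ℕ) : K.X n ⊗[A] M →ₗ[A] K.X (n + 1) ⊗[A] M := (K.d n).rTensor M

theorem dT_dT (n : ℕ) (x : K.X n ⊗[A] M) : K.dT M (n + 1) (K.dT M n x) = 0 := by
  rw [dT, dT, ← rTensor_comp_apply, K.d_d, rTensor_zero, LinearMap.zero_apply]

/-- Cocycles. -/
abbrev Z (n : ℕ) : Submodule A (K.X n ⊗[A] M) := ker (K.dT M n)

/-- Coboundaries. -/
def B : ∀ n, Submodule A (K.X n ⊗[A] M)
  | 0 => ⊥
  | n + 1 => range (K.dT M n)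

/-- Exactness in degree `n + 1` after tensoring with `M`. -/
def Exact' (n : ℕ) : Prop := ker (K.dT M (n + 1)) ≤ range (K.dT M n)

theorem B_le_Z : ∀ n, K.B M n ≤ K.Z M n
  | 0 => bot_le
  | n + 1 => by
    rintro _ ⟨x, rfl⟩
    exact K.dT_dT M n x

variable {M}

/-- If all terms in positive degrees are flat and the complex is universally exact in large degrees and
exact in all positive degrees, then it is universally exact, with pure images. -/
theorem exact'_of_flat [∀ n, Module.Flat A (K.X (n + 1))] (N : ℕ) (hex : ∀ n, ker (K.d (n + 1)) ≤ range (K.d n))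
    (hN : ∀ (n : ℕ), N ≤ n → ∀ (M : Type u) [AddCommGroup M] [Module A M], K.Exact' M n) :
    (∀ n, Module.Flat A (K.X (n + 1) ⧸ range (K.d n))) ∧
      ∀ n (M : Type u) [AddCommGroup M] [Module A M], K.Exact' M n := by
  have hd : ∀ n, range (K.d n) = ker (K.d (n + 1)) := fun n =>
    le_antisymm (by rintro _ ⟨x, rfl⟩; exact K.d_d_apply n x) (hex n)
  have key : ∀ k n, N + 1 ≤ n + k → Module.Flat A (K.X (n + 1) ⧸ range (K.d n)) := by
    intro k
    induction k with
    | zero =>
      intro n hn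
      refine FlatCx.flat_quotient_of_injective_finite _ fun M _ _ _ => ?_
      rw [injective_iff_map_eq_zero]
      intro y hy
      obtain ⟨w, rfl⟩ := rTensor_surjective M (K.d n).surjective_rangeRestrict y
      cases n with
      | zero => omega
      | succ n =>
        have hw : K.dT M (n + 1) w = 0 := by
          rw [← rTensor_comp_apply] at hy
          exact hy
        obtain ⟨v, rfl⟩ := hN n (by omega) M hw
        rw [dT, ← rTensor_comp_apply, show (K.d (n + 1)).rangeRestrict ∘ₗ K.d n = 0 from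
          LinearMap.ext fun x => Subtype.ext (K.d_d_apply n x), rTensor_zero, LinearMap.zero_apply]
    | succ k ih =>
      intro n hn
      haveI := ih (n + 1) (by omega)
      haveI : Module.Flat A (range (K.d (n + 1))) := FlatCx.flat_of_flat_quotient _
      rw [hd n]
      exact Module.Flat.of_linearEquiv (K.d (n + 1)).quotKerEquivRange
  have hflat : ∀ n, Module.Flat A (K.X (n + 1) ⧸ range (K.d n)) := fun n => key (N + 1) n (by omega)
  refine ⟨hflat, fun n M _ _ z hz => ?_⟩
  haveI := hflat (n + 1)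
  have h0 : (K.d (n + 1)).rangeRestrict.rTensor M z = 0 := by
    apply FlatCx.rTensor_injective_of_flat_quotient (range (K.d (n + 1))) M
    rw [map_zero, ← rTensor_comp_apply]
    exact hz
  have hx : Function.Exact (K.d n) (K.d (n + 1)).rangeRestrict := by
    rw [LinearMap.exact_iff, LinearMap.ker_rangeRestrict, hd]
  exact (rTensor_exact M hx (K.d (n + 1)).surjective_rangeRestrict z).1 h0

end Cx

/-- A map of complexes. -/
structure CxHom (L K : Cx A) where
  /-- The components. -/
  f : ∀ n, L.X n →ₗ[A] K.X n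
  comm : ∀ n, K.d n ∘ₗ f n = f (n + 1) ∘ₗ L.d n

namespace CxHom

variable {L K : Cx A} (φ : CxHom L K)

theorem comm_apply (n : ℕ) (x : L.X n) : K.d n (φ.f n x) = φ.f (n + 1) (L.d n x) := congr($(φ.comm n) x)

theorem comm_rTensor (M : Type u) [AddCommGroup M] [Module A M] (n : ℕ) (x : L.X n ⊗[A] M) :
    K.dT M n ((φ.f n).rTensor M x) = (φ.f (n + 1)).rTensor M (L.dT M n x) := by
  rw [Cx.dT, Cx.dT, ← rTensor_comp_apply, ← rTensor_comp_apply, φ.comm]

/-- The map induces bijections on all cohomology groups with values in `M`. -/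
def Bij (M : Type u) [AddCommGroup M] [Module A M] : Prop :=
  ∀ n, (∀ z ∈ K.Z M n, ∃ l ∈ L.Z M n, z - (φ.f n).rTensor M l ∈ K.B M n) ∧
    ∀ l ∈ L.Z M n, (φ.f n).rTensor M l ∈ K.B M n → l ∈ L.B M n

/-- The cone. -/
def cone : Cx A where
  X
    | 0 => L.X 0
    | n + 1 => K.X n × L.X (n + 1)
  instAdd
    | 0 => inferInstanceAs (AddCommGroup (L.X 0))
    | n + 1 => inferInstanceAs (AddCommGroup (K.X n × L.X (n + 1)))
  instMod
    | 0 => inferInstanceAs (Module A (L.X 0))
    | n + 1 => inferInstanceAs (Module A (K.X n × L.X (n + 1)))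
  d
    | 0 => (φ.f 0).prod (-(L.d 0))
    | n + 1 => LinearMap.prod ((K.d n).coprod (φ.f (n + 1))) (-(L.d (n + 1) ∘ₗ LinearMap.snd A _ _))
  d_d
    | 0 => LinearMap.ext fun x => by
      refine Prod.ext ?_ ?_
      · show K.d 0 (φ.f 0 x) + φ.f 1 (-(L.d 0 x)) = 0
        rw [φ.comm_apply, map_neg, add_neg_cancel]
      · show -(L.d 1 (-(L.d 0 x))) = 0
        rw [map_neg, neg_neg, L.d_d_apply]
    | n + 1 => LinearMap.ext fun x => by
      refine Prod.ext ?_ ?_
      · show K.d (n + 1) (K.d n x.1 + φ.f (n + 1) x.2) + φ.f (n + 1 + 1) (-(L.d (n + 1) x.2)) = 0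
        rw [map_add, K.d_d_apply, zero_add, φ.comm_apply, map_neg, add_neg_cancel]
      · show -(L.d (n + 1 + 1) (-(L.d (n + 1) x.2))) = 0
        rw [map_neg, neg_neg, L.d_d_apply]

variable (M : Type u) [AddCommGroup M] [Module A M]

variable {P Q : Type u} [AddCommGroup P] [AddCommGroup Q] [Module A P] [Module A Q]

theorem prod_rTensor_decomp (w : (P × Q) ⊗[A] M) :
    (inl A P Q).rTensor M ((fst A P Q).rTensor M w) + (inr A P Q).rTensor M ((snd A P Q).rTensor M w) = w := by
  rw [← rTensor_comp_apply, ← rTensor_comp_apply, ← LinearMap.add_apply, ← rTensor_add,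
    show inl A P Q ∘ₗ fst A P Q + inr A P Q ∘ₗ snd A P Q = LinearMap.id from
      LinearMap.ext fun x => by simp, rTensor_id, LinearMap.id_apply]

/-- The first differential of the cone. -/
abbrev cd0 : L.X 0 →ₗ[A] K.X 0 × L.X 1 := (φ.f 0).prod (-(L.d 0))

/-- The higher differentials of the cone. -/
abbrev cdS (n : ℕ) : K.X n × L.X (n + 1) →ₗ[A] K.X (n + 1) × L.X (n + 1 + 1) :=
  LinearMap.prod ((K.d n).coprod (φ.f (n + 1))) (-(L.d (n + 1) ∘ₗ LinearMap.snd A _ _))

theorem cd0_rTensor (w : L.X 0 ⊗[A] M) :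
    φ.cd0.rTensor M w = (inl A _ _).rTensor M ((φ.f 0).rTensor M w) -
      (inr A _ _).rTensor M (L.dT M 0 w) := by
  rw [← rTensor_comp_apply, Cx.dT, ← rTensor_comp_apply, ← LinearMap.sub_apply, ← rTensor_sub]
  congr 2
  exact LinearMap.ext fun x => by simp

theorem cdS_rTensor (n : ℕ) (k : K.X n ⊗[A] M) (l : L.X (n + 1) ⊗[A] M) :
    (φ.cdS n).rTensor M ((inl A _ _).rTensor M k + (inr A _ _).rTensor M l) =
      (inl A _ _).rTensor M (K.dT M n k + (φ.f (n + 1)).rTensor M l) -
        (inr A _ _).rTensor M (L.dT M (n + 1) l) := by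
  simp only [map_add, Cx.dT, ← rTensor_comp_apply]
  rw [add_sub_assoc, ← LinearMap.sub_apply, ← rTensor_sub]
  congr 3
  · exact LinearMap.ext fun x => by simp
  · exact LinearMap.ext fun x => by simp

theorem inl_inr_ext {k k' : P ⊗[A] M} {l l' : Q ⊗[A] M}
    (h : (inl A P Q).rTensor M k + (inr A P Q).rTensor M l =
      (inl A P Q).rTensor M k' + (inr A P Q).rTensor M l') : k = k' ∧ l = l' := by
  refine ⟨?_, ?_⟩
  · have := congrArg ((fst A P Q).rTensor M) h
    simpa only [map_add, ← rTensor_comp_apply, fst_comp_inl, fst_comp_inr, rTensor_id, rTensor_zero,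
      LinearMap.id_apply, LinearMap.zero_apply, add_zero] using this
  · have := congrArg ((snd A P Q).rTensor M) h
    simpa only [map_add, ← rTensor_comp_apply, snd_comp_inl, snd_comp_inr, rTensor_id, rTensor_zero,
      LinearMap.id_apply, LinearMap.zero_apply, zero_add] using this

theorem exists_inl_inr (w : (P × Q) ⊗[A] M) :
    ∃ k l, (inl A P Q).rTensor M k + (inr A P Q).rTensor M l = w :=
  ⟨_, _, prod_rTensor_decomp M w⟩

/-- An exact cone gives bijectivity. -/
theorem bij_aux (h0 : Injective (φ.cd0.rTensor M))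
    (e0 : ∀ c, (φ.cdS 0).rTensor M c = 0 → ∃ w, φ.cd0.rTensor M w = c)
    (eS : ∀ m c, (φ.cdS (m + 1)).rTensor M c = 0 → ∃ w, (φ.cdS m).rTensor M w = c) : φ.Bij M := by
  intro n
  refine ⟨fun z hz => ?_, fun l hl hfl => ?_⟩
  · have hcoc : (φ.cdS n).rTensor M ((inl A _ _).rTensor M z + (inr A _ _).rTensor M 0) = 0 := by
      rw [φ.cdS_rTensor, show K.dT M n z = 0 from hz, map_zero, map_zero, add_zero, map_zero, map_zero, sub_zero]
    cases n with
    | zero =>
      obtain ⟨w, hw⟩ := e0 _ hcoc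
      rw [φ.cd0_rTensor, sub_eq_add_neg, ← map_neg] at hw
      obtain ⟨h1, h2⟩ := inl_inr_ext M hw
      exact ⟨w, neg_eq_zero.1 h2, by rw [h1, sub_self]; exact zero_mem _⟩
    | succ n =>
      obtain ⟨w, hw⟩ := eS n _ hcoc
      obtain ⟨k, b, rfl⟩ := exists_inl_inr M w
      rw [φ.cdS_rTensor, sub_eq_add_neg, ← map_neg] at hw
      obtain ⟨h1, h2⟩ := inl_inr_ext M hw
      exact ⟨b, neg_eq_zero.1 h2, k, eq_sub_of_add_eq h1⟩
  · cases n with
    | zero =>
      have hf : (φ.f 0).rTensor M l = 0 := hfl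
      have : φ.cd0.rTensor M l = 0 := by
        rw [φ.cd0_rTensor, hf, show L.dT M 0 l = 0 from hl, map_zero, map_zero, sub_zero]
      rw [show l = 0 from h0 (this.trans (map_zero _).symm)]
      exact zero_mem _
    | succ m =>
      obtain ⟨k, hk⟩ := hfl
      have hcoc : (φ.cdS m).rTensor M ((inl A _ _).rTensor M (-k) + (inr A _ _).rTensor M l) = 0 := by
        rw [φ.cdS_rTensor, map_neg, hk, neg_add_cancel, show L.dT M (m + 1) l = 0 from hl, map_zero, map_zero,
          sub_zero]
      cases m with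
      | zero =>
        obtain ⟨w, hw⟩ := e0 _ hcoc
        rw [φ.cd0_rTensor, sub_eq_add_neg, ← map_neg] at hw
        exact ⟨-w, (map_neg _ _).trans (inl_inr_ext M hw).2⟩
      | succ m =>
        obtain ⟨w, hw⟩ := eS m _ hcoc
        obtain ⟨k', b, rfl⟩ := exists_inl_inr M w
        rw [φ.cdS_rTensor, sub_eq_add_neg, ← map_neg] at hw
        exact ⟨-b, (map_neg _ _).trans (inl_inr_ext M hw).2⟩

/-- An exact cone gives bijectivity. -/
theorem bij_of_exact (h0 : Injective (φ.cone.dT M 0)) (h : ∀ n, φ.cone.Exact' M n) : φ.Bij M :=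
  φ.bij_aux M h0 (fun _ hc => h 0 hc) fun m _ hc => h (m + 1) hc

end CxHom

namespace Cx

/-- Adding a term in front of a complex. -/
def cons (T : Type u) [AddCommGroup T] [Module A T] (L : Cx A) (δ : T →ₗ[A] L.X 0) (hδ : L.d 0 ∘ₗ δ = 0) :
    Cx A where
  X
    | 0 => T
    | n + 1 => L.X n
  instAdd
    | 0 => inferInstanceAs (AddCommGroup T)
    | n + 1 => inferInstanceAs (AddCommGroup (L.X n))
  instMod
    | 0 => inferInstanceAs (Module A T)
    | n + 1 => inferInstanceAs (Module A (L.X n))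
  d
    | 0 => δ
    | n + 1 => L.d n
  d_d
    | 0 => hδ
    | n + 1 => L.d_d n

/-- Dropping the first term. -/
def tail (K : Cx A) : Cx A where
  X n := K.X (n + 1)
  d n := K.d (n + 1)
  d_d n := K.d_d (n + 1)

/-- A complex concentrated in degree zero. -/
def single (T : Type u) [AddCommGroup T] [Module A T] : Cx A where
  X
    | 0 => T
    | _ + 1 => PUnit
  instAdd
    | 0 => inferInstanceAs (AddCommGroup T)
    | _ + 1 => inferInstanceAs (AddCommGroup PUnit)
  instMod
    | 0 => inferInstanceAs (Module A T)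
    | _ + 1 => inferInstanceAs (Module A PUnit)
  d
    | 0 => (0 : T →ₗ[A] PUnit)
    | _ + 1 => (0 : PUnit →ₗ[A] PUnit)
  d_d
    | 0 => LinearMap.ext fun _ => Subsingleton.elim (α := PUnit) _ _
    | _ + 1 => LinearMap.ext fun _ => Subsingleton.elim (α := PUnit) _ _

end Cx

variable [IsNoetherianRing A]

/-- The approximation by finite free complexes, by descending induction. -/
theorem exists_level : ∀ (k : ℕ) (K : Cx A) (Bs : Submodule A (K.X 0)),
    (∃ (a : ℕ) (s : Fin a → K.X 0), (∀ i, K.d 0 (s i) = 0) ∧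
      ker (K.d 0) ≤ Submodule.span A (Set.range s) ⊔ Bs) →
    (∀ n, ∃ (a : ℕ) (s : Fin a → K.X (n + 1)), (∀ i, K.d (n + 1) (s i) = 0) ∧
      ker (K.d (n + 1)) ≤ Submodule.span A (Set.range s) ⊔ range (K.d n)) →
    (∀ n, k ≤ n → ker (K.d (n + 1)) ≤ range (K.d n)) →
    ∃ (L : Cx A) (φ : CxHom L K), (∀ n, Module.Finite A (L.X n) ∧ Module.Free A (L.X n)) ∧
      (∀ n, k < n → Subsingleton (L.X n)) ∧
      ker (K.d 0) ≤ (ker (L.d 0)).map (φ.f 0) ⊔ Bs ∧
      (∀ n, ker (K.d (n + 1)) ≤ (ker (L.d (n + 1))).map (φ.f (n + 1)) ⊔ range (K.d n)) ∧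
      ∀ n l, L.d (n + 1) l = 0 → φ.f (n + 1) l ∈ range (K.d n) → l ∈ range (L.d n)
  | 0, K, Bs, ⟨a, s, hs, hs'⟩, _, hvan => by
    let L := Cx.single (A := A) (Fin a → A)
    let φ : CxHom L K :=
      { f := fun
          | 0 => Fintype.linearCombination A s
          | _ + 1 => 0
        comm := fun
          | 0 => by
            refine LinearMap.ext fun x => ?_
            show K.d 0 (Fintype.linearCombination A s x) = 0
            simp [Fintype.linearCombination_apply, hs]
          | n + 1 => LinearMap.ext fun x => map_zero (K.d (n + 1)) }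
    refine ⟨L, φ, fun n => ?_, fun n hn => ?_, hs'.trans (sup_le_sup_right ?_ _), fun n => ?_,
      fun n l _ _ => ?_⟩
    · cases n with
      | zero => exact ⟨inferInstanceAs (Module.Finite A (Fin a → A)), inferInstanceAs (Module.Free A (Fin a → A))⟩
      | succ n => exact ⟨inferInstanceAs (Module.Finite A PUnit), Module.Free.of_subsingleton A PUnit⟩
    · cases n with
      | zero => omega
      | succ n => exact inferInstanceAs (Subsingleton PUnit)
    · rw [show L.d 0 = 0 from rfl, LinearMap.ker_zero, Submodule.map_top]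
      show _ ≤ range (Fintype.linearCombination A s)
      rw [Fintype.range_linearCombination]
    · exact (hvan n (Nat.zero_le n)).trans le_sup_right
    · exact ⟨0, Subsingleton.elim (α := PUnit) _ _⟩
  | k + 1, K, Bs, ⟨a, s, hs, hs'⟩, hfin, hvan => by
    obtain ⟨L, φ, hfree, hzero, h0, hsurj, hinj⟩ := exists_level k K.tail (range (K.d 0)) (hfin 0)
      (fun n => hfin (n + 1)) (fun n hn => hvan (n + 1) (by omega))
    haveI := (hfree 0).1
    haveI : IsNoetherian A (L.X 0) := isNoetherian_of_isNoetherianRing_of_finite A _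
    let S : Submodule A (L.X 0) := ker (L.d 0) ⊓ Submodule.comap (φ.f 0) (range (K.d 0))
    obtain ⟨b, g, hg⟩ := Submodule.fg_iff_exists_fin_generating_family.1 (IsNoetherian.noetherian S)
    have hgS : ∀ i, g i ∈ S := fun i => hg ▸ Submodule.subset_span ⟨i, rfl⟩
    choose c hc using fun i => (hgS i).2
    let δ : ((Fin b → A) × (Fin a → A)) →ₗ[A] L.X 0 := Fintype.linearCombination A g ∘ₗ LinearMap.fst A _ _
    have hgd : ∀ x, L.d 0 (Fintype.linearCombination A g x) = 0 := fun x => by
      simp [Fintype.linearCombination_apply, (show ∀ i, L.d 0 (g i) = 0 from fun i => (hgS i).1)]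
    let L' := Cx.cons _ L δ (LinearMap.ext fun x => hgd x.1)
    let f0 : ((Fin b → A) × (Fin a → A)) →ₗ[A] K.X 0 :=
      (Fintype.linearCombination A c).coprod (Fintype.linearCombination A s)
    let φ' : CxHom L' K :=
      { f := fun
          | 0 => f0
          | n + 1 => φ.f n
        comm := fun
          | 0 => by
            refine LinearMap.ext fun x => ?_
            show K.d 0 (Fintype.linearCombination A c x.1 + Fintype.linearCombination A s x.2) =
              φ.f 0 (Fintype.linearCombination A g x.1)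
            simp [Fintype.linearCombination_apply, hs]
            exact Finset.sum_congr rfl fun i _ => congrArg (x.1 i • ·) (hc i)
          | n + 1 => φ.comm n }
    refine ⟨L', φ', fun n => ?_, fun n hn => ?_, hs'.trans (sup_le_sup_right ?_ _), fun n => ?_, fun n => ?_⟩
    · cases n with
      | zero => exact ⟨inferInstanceAs (Module.Finite A ((Fin b → A) × (Fin a → A))),
          inferInstanceAs (Module.Free A ((Fin b → A) × (Fin a → A)))⟩
      | succ n => exact hfree n
    · cases n with
      | zero => omega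
      | succ n => exact hzero n (by omega)
    · rw [Submodule.span_le]
      rintro _ ⟨i, rfl⟩
      refine ⟨((0 : Fin b → A), Pi.single i 1), ?_, ?_⟩
      · show Fintype.linearCombination A g (0 : Fin b → A) = 0
        rw [map_zero]
      · show Fintype.linearCombination A c (0 : Fin b → A) + Fintype.linearCombination A s (Pi.single i 1) = s i
        rw [map_zero, zero_add, Fintype.linearCombination_apply_single, one_smul]
    · cases n with
      | zero => exact h0
      | succ n => exact hsurj n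
    · cases n with
      | zero =>
        intro l hl hfl
        have hlS : l ∈ S := ⟨hl, hfl⟩
        rw [← hg, Submodule.mem_span_range_iff_exists_fun] at hlS
        obtain ⟨x, rfl⟩ := hlS
        exact ⟨((x : Fin b → A), (0 : Fin a → A)), Fintype.linearCombination_apply A g x⟩
      | succ n => exact hinj n

theorem exists_model (K : Cx A) [∀ n, Module.Flat A (K.X n)]
    (h0 : ∃ (a : ℕ) (s : Fin a → K.X 0), (∀ i, K.d 0 (s i) = 0) ∧
      ker (K.d 0) ≤ Submodule.span A (Set.range s))
    (hfin : ∀ n, ∃ (a : ℕ) (s : Fin a → K.X (n + 1)), (∀ i, K.d (n + 1) (s i) = 0) ∧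
      ker (K.d (n + 1)) ≤ Submodule.span A (Set.range s) ⊔ range (K.d n))
    (N : ℕ) (hN : ∀ n, N ≤ n → ∀ (M : Type u) [AddCommGroup M] [Module A M], K.Exact' M n) :
    ∃ (L : Cx A) (φ : CxHom L K), (∀ n, Module.Finite A (L.X n)) ∧ (∀ n, Module.Flat A (L.X n)) ∧
      (∀ n, N < n → Subsingleton (L.X n)) ∧ (∀ n, Module.Free A (L.X (n + 1))) ∧
        ∀ (M : Type u) [AddCommGroup M] [Module A M], φ.Bij M := by
  obtain ⟨a, s, hs, hs'⟩ := h0
  have hvan : ∀ n, N ≤ n → ker (K.d (n + 1)) ≤ range (K.d n) := fun n hn z hz => by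
    obtain ⟨w, hw⟩ := hN n hn A (show z ⊗ₜ[A] (1 : A) ∈ ker (K.dT A (n + 1)) by
      rw [mem_ker, Cx.dT, rTensor_tmul, show K.d (n + 1) z = 0 from hz, zero_tmul])
    refine ⟨TensorProduct.rid A _ w, ?_⟩
    have hrid : ∀ w, K.d n (TensorProduct.rid A _ w) = TensorProduct.rid A _ (K.dT A n w) := fun w => by
      induction w using TensorProduct.induction_on with
      | zero => simp
      | tmul x r => simp [Cx.dT]
      | add x y hx hy => simp only [map_add, hx, hy]
    rw [hrid, hw, TensorProduct.rid_tmul, one_smul]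
  obtain ⟨L₁, φ₁, hfree, hzero, hs0, hsurj, hinj⟩ :=
    exists_level N K ⊥ ⟨a, s, hs, hs'.trans le_sup_left⟩ hfin hvan
  let N₀ : Submodule A (L₁.X 0) := ker (L₁.d 0) ⊓ ker (φ₁.f 0)
  let δ : (L₁.X 0 ⧸ N₀) →ₗ[A] L₁.X 1 := N₀.liftQ (L₁.d 0) inf_le_left
  let L := Cx.cons _ L₁.tail δ (Submodule.linearMap_qext _ (L₁.d_d 0))
  let φ : CxHom L K :=
    { f := fun
        | 0 => N₀.liftQ (φ₁.f 0) inf_le_right
        | n + 1 => φ₁.f (n + 1)
      comm := fun
        | 0 => Submodule.linearMap_qext _ (φ₁.comm 0)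
        | n + 1 => φ₁.comm (n + 1) }
  haveI hflatC : ∀ n, Module.Flat A (φ.cone.X (n + 1)) := fun n => by
    haveI := (hfree (n + 1)).2
    exact FlatCx.flat_prod (K.X n) (L₁.X (n + 1))
  have hex : ∀ n, ker (φ.cone.d (n + 1)) ≤ range (φ.cone.d n) := by
    rintro n ⟨k, l⟩ hkl
    have h1 : K.d n k + φ₁.f (n + 1) l = 0 := congrArg Prod.fst hkl
    have h2 : L₁.d (n + 1) l = 0 := neg_eq_zero.1 (congrArg Prod.snd hkl)
    obtain ⟨l', hl'⟩ := hinj n l h2 ⟨-k, by rw [map_neg, neg_eq_iff_eq_neg, ← add_eq_zero_iff_eq_neg, h1]⟩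
    have hk : k + φ₁.f n l' ∈ ker (K.d n) := by
      rw [mem_ker, map_add, φ₁.comm_apply, hl', h1]
    cases n with
    | zero =>
      obtain ⟨y, hy, z, hz, hyz⟩ := Submodule.mem_sup.1 (hs0 hk)
      obtain ⟨l'', hl'', rfl⟩ := hy
      rw [Submodule.mem_bot] at hz
      subst hz
      rw [add_zero] at hyz
      refine ⟨Submodule.Quotient.mk (l'' - l'), Prod.ext ?_ ?_⟩
      · show φ₁.f 0 (l'' - l') = k
        rw [map_sub, hyz, add_sub_cancel_right]
      · show -(L₁.d 0 (l'' - l')) = l
        rw [map_sub, show L₁.d 0 l'' = 0 from hl'', zero_sub, neg_neg, hl']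
    | succ m =>
      obtain ⟨y, ⟨l'', hl'', hy⟩, z, ⟨k', hk'⟩, hyz⟩ := Submodule.mem_sup.1 (hsurj m hk)
      refine ⟨(k', l'' - l'), Prod.ext ?_ ?_⟩
      · show K.d m k' + φ₁.f (m + 1) (l'' - l') = k
        rw [map_sub, hy, hk', ← add_sub_assoc, add_comm z y, hyz, add_sub_cancel_right]
      · show -(L₁.d (m + 1) (l'' - l')) = l
        rw [map_sub, show L₁.d (m + 1) l'' = 0 from hl'', zero_sub, neg_neg, hl']
  have hconeN : ∀ n, N + 1 ≤ n → ∀ (M : Type u) [AddCommGroup M] [Module A M], φ.cone.Exact' M n := by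
    intro n hn M _ _ w hw
    cases n with
    | zero => omega
    | succ n =>
      haveI : Subsingleton (L₁.X (n + 1 + 1)) := hzero _ (by omega)
      have hsub : Subsingleton (L.X (n + 1 + 1)) := ‹Subsingleton (L₁.X (n + 1 + 1))›
      haveI : Subsingleton (L.X (n + 1 + 1) ⊗[A] M) := (TensorProduct.comm A _ _).subsingleton
      let w' : (K.X (n + 1) × L.X (n + 1 + 1)) ⊗[A] M := w
      obtain ⟨k, l, hkl⟩ := CxHom.exists_inl_inr M w'
      obtain rfl : l = 0 := Subsingleton.elim _ _
      have hw' : (φ.cdS (n + 1)).rTensor M w' = 0 := hw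
      rw [← hkl, φ.cdS_rTensor, sub_eq_add_neg, ← map_neg] at hw'
      have h1 := (CxHom.inl_inr_ext M (k' := 0) (l' := 0) (hw'.trans (by rw [map_zero, map_zero, add_zero]))).1
      rw [map_zero, add_zero] at h1
      obtain ⟨v, hv⟩ := hN n (by omega) M h1
      refine ⟨(inl A (K.X n) (L.X (n + 1))).rTensor M v + (inr A (K.X n) (L.X (n + 1))).rTensor M 0, ?_⟩
      refine (φ.cdS_rTensor M n v 0).trans (Eq.trans ?_ hkl)
      rw [hv, map_zero, map_zero, add_zero, map_zero, sub_zero, add_zero]
  obtain ⟨hflat, hexact⟩ := φ.cone.exact'_of_flat (N + 1) hex hconeN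
  have hd0 : Injective (φ.cone.d 0) := by
    rw [injective_iff_map_eq_zero]
    intro x hx
    obtain ⟨x, rfl⟩ := Submodule.Quotient.mk_surjective _ x
    exact (Submodule.Quotient.mk_eq_zero _).2
      ⟨neg_eq_zero.1 (congrArg Prod.snd hx), congrArg Prod.fst hx⟩
  haveI := hflat 0
  haveI : Module.Flat A (range (φ.cone.d 0)) := FlatCx.flat_of_flat_quotient _
  refine ⟨L, φ, fun n => ?_, fun n => ?_, fun n hn => ?_, fun n => (hfree (n + 1)).2, fun M _ _ => ?_⟩
  · cases n with
    | zero =>
      haveI := (hfree 0).1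
      exact inferInstanceAs (Module.Finite A (L₁.X 0 ⧸ N₀))
    | succ n => exact (hfree (n + 1)).1
  · cases n with
    | zero => exact Module.Flat.of_linearEquiv (LinearEquiv.ofInjective (φ.cone.d 0) hd0)
    | succ n =>
      haveI := (hfree (n + 1)).2
      exact inferInstanceAs (Module.Flat A (L₁.X (n + 1)))
  · cases n with
    | zero => omega
    | succ n => exact hzero (n + 1) hn
  · refine φ.bij_of_exact M ?_ fun n => hexact n M
    intro x y hxy
    apply (LinearEquiv.rTensor M (LinearEquiv.ofInjective (φ.cone.d 0) hd0)).injective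
    apply FlatCx.rTensor_injective_of_flat_quotient (range (φ.cone.d 0)) M
    show (range (φ.cone.d 0)).subtype.rTensor M ((LinearEquiv.ofInjective _ hd0).toLinearMap.rTensor M x) =
      (range (φ.cone.d 0)).subtype.rTensor M ((LinearEquiv.ofInjective _ hd0).toLinearMap.rTensor M y)
    rw [← rTensor_comp_apply, ← rTensor_comp_apply]
    exact hxy

end Groth.Agent.BCLib
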