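import Groth.Agent.BCLib.SecTensor
import Groth.Agent.BCLib.Model
import Groth.Agent.BCLib.CardVanish
import Groth.Agent.ProperFin.Main
import Groth.Agent.ModTensor.Basic

/-!
# The flat Čech complex computing `M ↦ H^p(X, F ⊗ f^* M~)`
-/

set_option autoImplicit false
set_option backward.isDefEq.respectTransparency false
set_option backward.defeqAttrib.useBackward true
set_option linter.style.haveILetI false

universe u

open CategoryTheory CategoryTheory.Limits AlgebraicGeometry TopologicalSpace Opposite TensorProduct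
open Groth.Agent.CohBase Groth.Agent.ProjCoh Groth.Agent.FormalLib

noncomputable section

namespace Groth.Agent.BCLib

section Unit

/-- `F ⊗ f^* R~ = F`. -/
def tensorGenSelfIso {R : CommRingCat.{u}} {X : Scheme.{u}} (f : X ⟶ Spec R) (F : X.Modules) :
    (DCoh.tensorRightMod F).obj ((Scheme.Modules.pullback f).obj (tilde (ModuleCat.of R R))) ≅ F :=
  (DCoh.tensorRightMod F).mapIso ((Scheme.Modules.pullback f).mapIso tildeSelf ≪≫ pullUnit f) ≪≫
    ModTensor.tensComm X.sheaf _ _ ≪≫ (ModTensor.tensorUnitRight X.sheaf).app F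

end Unit

variable {A : Type u} [CommRing A] {X : Scheme.{u}} [X.Over (Spec (CommRingCat.of A))] {ι : Type u}
  (V : ι → X.Opens) (F : X.Modules)

variable (A)

/-- `F ⊗ f^* A~ = F`. -/
def tensorASelfIso : (CohIII.tensorAFunctor A F).obj (ModuleCat.of A A) ≅ F :=
  tensorGenSelfIso (R := CommRingCat.of A) (X ↘ Spec (CommRingCat.of A)) F

/-- The sheaf `F ⊗ f^* M~`. -/
abbrev tA (M : ModuleCat.{u} A) : X.Modules := (CohIII.tensorAFunctor A F).obj M

theorem dL_dL (N : X.Modules) (q : ℕ) (c : Coch (str A X) N V q) :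
    dL (str A X) N V (q + 1) (dL (str A X) N V q c) = 0 := by
  rw [dL_eq, dL_eq]
  exact cdiff_cdiff _ _ _

/-- The Čech complex of `F ⊗ f^* A~`. -/
def cechCx : Cx A where
  X q := Coch (str A X) (tA A F (ModuleCat.of A A)) V q
  d q := dL (str A X) _ V q
  d_d q := LinearMap.ext (dL_dL A V _ q)

variable {A}

/-- `m : A → M`. -/
abbrev ofElt (M : ModuleCat.{u} A) (m : M) : ModuleCat.of A A ⟶ M :=
  ModuleCat.ofHom ((LinearMap.ringLmapEquivSelf A A M).symm m)

theorem cochMap_add' {N N' : X.Modules} (f g : N ⟶ N') (q : ℕ) :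
    cochMap (A := A) V (f + g) q = cochMap V f q + cochMap V g q :=
  LinearMap.ext fun _ => funext fun _ => rfl

theorem cochMap_smulMod {N : X.Modules} (a : A) (q : ℕ) (c : Coch (str A X) N V q) :
    cochMap (A := A) V (Formal.smulMod A N a) q c = a • c :=
  funext fun i => smulMod_app N a (c i)

theorem cochMap_comp {N N' N'' : X.Modules} (f : N ⟶ N') (g : N' ⟶ N'') (q : ℕ) :
    cochMap (A := A) V (f ≫ g) q = cochMap V g q ∘ₗ cochMap V f q :=
  LinearMap.ext fun _ => funext fun _ => rfl

/-- `c ⊗ m ↦ m_*(c)`. -/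
def θ (M : ModuleCat.{u} A) (q : ℕ) : (cechCx A V F).X q ⊗[A] M →ₗ[A] Coch (str A X) (tA A F M) V q :=
  TensorProduct.lift (LinearMap.flip
    { toFun := fun m => cochMap (A := A) V ((CohIII.tensorAFunctor A F).map (ofElt M m)) q
      map_add' := fun m m' => by
        rw [show ofElt M (m + m') = ofElt M m + ofElt M m' by ext; simp [ofElt], Functor.map_add]
        exact cochMap_add' V _ _ q
      map_smul' := fun a m => by
        rw [show ofElt M (a • m) = a • ofElt M m by ext; simp [ofElt, smul_comm], tensorAFunctor_map_smul,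
          cochMap_comp]
        exact LinearMap.ext fun c => cochMap_smulMod V a q _ })

theorem θ_tmul (M : ModuleCat.{u} A) (q : ℕ) (c : (cechCx A V F).X q) (m : M) :
    θ V F M q (c ⊗ₜ[A] m) = cochMap (A := A) V ((CohIII.tensorAFunctor A F).map (ofElt M m)) q c :=
  rfl

theorem dL_θ (M : ModuleCat.{u} A) (q : ℕ) (z : (cechCx A V F).X q ⊗[A] M) :
    dL (str A X) (tA A F M) V q (θ V F M q z) = θ V F M (q + 1) ((cechCx A V F).dT M q z) := by
  induction z using TensorProduct.induction_on with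
  | zero => simp only [map_zero]
  | tmul c m =>
    rw [θ_tmul]
    exact dL_cochMap V _ q c
  | add a b ha hb => simp only [map_add, ha, hb]

theorem θ_natural {M N : ModuleCat.{u} A} (g : M ⟶ N) (q : ℕ) (z : (cechCx A V F).X q ⊗[A] M) :
    cochMap (A := A) V ((CohIII.tensorAFunctor A F).map g) q (θ V F M q z) =
      θ V F N q (g.hom.lTensor _ z) := by
  induction z using TensorProduct.induction_on with
  | zero => simp only [map_zero]
  | tmul c m =>
    rw [LinearMap.lTensor_tmul, θ_tmul, θ_tmul, ← LinearMap.comp_apply, ← cochMap_comp, ← Functor.map_comp]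
    refine congrArg (fun h => cochMap (A := A) V ((CohIII.tensorAFunctor A F).map h) q c) ?_
    ext
    simp [ofElt]
  | add a b ha hb => simp only [map_add, ha, hb]

variable [Finite ι] [hq : Coh.IsQCoh F]
  (haff : ∀ (m : ℕ) (i : Fin (m + 1) → ι), IsAffineOpen (inter V i))

include haff in
theorem θ_bijective (M : ModuleCat.{u} A) (q : ℕ) : Function.Bijective (θ V F M q) := by
  classical
  haveI : Fintype (Fin (q + 1) → ι) := Fintype.ofFinite _
  let e := TensorProduct.piLeft A M (fun i : Fin (q + 1) → ι => Sec (cst A X) (tA A F (ModuleCat.of A A)) (inter V i))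
  let t : ∀ i : Fin (q + 1) → ι, Sec (cst A X) (tA A F (ModuleCat.of A A)) (inter V i) ⊗[A] M ≃ₗ[A]
      Sec (cst A X) (tA A F M) (inter V i) := fun i =>
    LinearEquiv.ofBijective (FlatCx.tMap (secFun A F (inter V i)) M)
      (tMap_secFun_bijective (A := A) hq (haff q i) M)
  have h : (θ V F M q : _ → _) = (e ≪≫ₗ LinearEquiv.piCongrRight t) := funext fun z => by
    induction z using TensorProduct.induction_on with
    | zero => rw [map_zero, map_zero]
    | tmul c m =>
      funext i
      rfl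
    | add a b ha hb => rw [map_add, map_add, ha, hb]
  rw [h]
  exact LinearEquiv.bijective _

include haff in
theorem flat_cechCx_X (hfl : FlatMod.IsFlatOver (X ↘ Spec (CommRingCat.of A)) F) (q : ℕ) :
    Module.Flat A ((cechCx A V F).X q) := by
  classical
  haveI : Fintype (Fin (q + 1) → ι) := Fintype.ofFinite _
  haveI : ∀ i : Fin (q + 1) → ι, Module.Flat A (Sec (cst A X) (tA A F (ModuleCat.of A A)) (inter V i)) :=
    fun i => flat_secFun (A := A) hq (haff q i) hfl
  exact Module.Flat.of_linearEquiv (DFinsupp.linearEquivFunOnFintype (R := A)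
    (M := fun i : Fin (q + 1) → ι => Sec (cst A X) (tA A F (ModuleCat.of A A)) (inter V i))).symm

include haff in
theorem exact'_cechCx (n : ℕ) (hn : Nat.card ι ≤ n + 1) (M : Type u) [AddCommGroup M] [Module A M] :
    (cechCx A V F).Exact' M n := by
  intro z hz
  let N := tA A F (ModuleCat.of A M)
  have h0 : cdiff V (Coh.toAb N).obj (n + 1) (θ V F (ModuleCat.of A M) (n + 1) z) = 0 :=
    (dL_eq (str A X) N V (n + 1) _).symm.trans ((dL_θ V F (ModuleCat.of A M) (n + 1) z).trans
      ((congrArg _ hz).trans (map_zero _)))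
  obtain ⟨b, hb⟩ := cExact_of_card_le (Coh.toAb N).obj V n hn _ h0
  obtain ⟨w, rfl⟩ := (θ_bijective V F haff (ModuleCat.of A M) n).2 b
  exact ⟨w, (θ_bijective V F haff (ModuleCat.of A M) (n + 1)).1
    ((dL_θ V F (ModuleCat.of A M) n w).symm.trans ((dL_eq (str A X) N V n _).trans hb))⟩

variable (hcov : (⊤ : X.Opens) ≤ iSup V)

/-- The cohomology class of a cocycle. -/
def cl (M : ModuleCat.{u} A) (q : ℕ) : (cechCx A V F).Z M q →ₗ[A] Coh.HH X (tA A F M) q :=
  haveI := isQCoh_tensorAFunctor_obj F M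
  cls V hcov haff (tA A F M) q ∘ₗ
    (θ V F M q).restrict (p := (cechCx A V F).Z M q) (q := LinearMap.ker (dL (str A X) (tA A F M) V q))
      fun z hz => by rw [LinearMap.mem_ker, dL_θ, show (cechCx A V F).dT M q z = 0 from hz, map_zero]

theorem cl_apply (M : ModuleCat.{u} A) [Coh.IsQCoh (tA A F M)] (q : ℕ) (z : (cechCx A V F).Z M q)
    (h : θ V F M q z.1 ∈ LinearMap.ker (dL (str A X) (tA A F M) V q)) :
    cl V F haff hcov M q z = cls V hcov haff (tA A F M) q ⟨θ V F M q z.1, h⟩ := rfl

include haff in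
theorem exists_preimage_Z (M : ModuleCat.{u} A) (q : ℕ) (c : Coch (str A X) (tA A F M) V q)
    (hc : dL (str A X) (tA A F M) V q c = 0) : ∃ z ∈ (cechCx A V F).Z M q, θ V F M q z = c := by
  obtain ⟨z, hz⟩ := (θ_bijective V F haff M q).2 c
  refine ⟨z, LinearMap.mem_ker.2 ((θ_bijective V F haff M (q + 1)).1 ?_), hz⟩
  rw [← dL_θ, hz, hc, map_zero]

theorem cl_surjective (M : ModuleCat.{u} A) (q : ℕ) : Function.Surjective (cl V F haff hcov M q) := by
  haveI := isQCoh_tensorAFunctor_obj F M
  intro x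
  obtain ⟨⟨c, hc⟩, rfl⟩ := cls_surjective (A := A) V hcov haff (tA A F M) q x
  obtain ⟨z, hzZ, hz⟩ := exists_preimage_Z V F haff M q c (LinearMap.mem_ker.1 hc)
  subst hz
  exact ⟨⟨z, hzZ⟩, cl_apply V F haff hcov M q ⟨z, hzZ⟩ hc⟩

theorem cl_eq_zero_iff (M : ModuleCat.{u} A) (q : ℕ) (z : (cechCx A V F).Z M q) :
    cl V F haff hcov M q z = 0 ↔ z.1 ∈ (cechCx A V F).B M q := by
  haveI := isQCoh_tensorAFunctor_obj F M
  refine (cls_eq_zero_iff (A := A) V hcov haff (tA A F M) q _).trans ?_
  cases q with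
  | zero =>
    show θ V F M 0 z.1 ∈ (⊥ : Submodule A _) ↔ z.1 ∈ (⊥ : Submodule A _)
    rw [Submodule.mem_bot, Submodule.mem_bot, map_eq_zero_iff _ (θ_bijective V F haff M 0).1]
  | succ q =>
    show θ V F M (q + 1) z.1 ∈ Submodule.map (dL (str A X) (tA A F M) V q) _ ↔
      z.1 ∈ LinearMap.range ((cechCx A V F).dT M q)
    rw [pow_zero, Ideal.one_eq_top, Submodule.top_smul, Submodule.map_top]
    constructor
    · rintro ⟨b, hb⟩
      obtain ⟨w, rfl⟩ := (θ_bijective V F haff M q).2 b
      exact ⟨w, (θ_bijective V F haff M (q + 1)).1 ((dL_θ V F M q w).symm.trans hb)⟩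
    · rintro ⟨w, hw⟩
      exact ⟨θ V F M q w, (dL_θ V F M q w).trans (congrArg _ hw)⟩

theorem cl_natural {M N : ModuleCat.{u} A} (g : M ⟶ N) (q : ℕ) (z : (cechCx A V F).Z M q)
    (z' : (cechCx A V F).Z N q) (h : z'.1 = g.hom.lTensor _ z.1) :
    Sheaf.H.map ((SheafOfModules.toSheaf X.ringCatSheaf).map ((CohIII.tensorAFunctor A F).map g)) q
        (cl V F haff hcov M q z) = cl V F haff hcov N q z' := by
  haveI := isQCoh_tensorAFunctor_obj F M
  haveI := isQCoh_tensorAFunctor_obj F N
  refine (cls_natural V hcov haff ((CohIII.tensorAFunctor A F).map g) q _).trans ?_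
  refine congrArg _ (Subtype.ext ?_)
  show cochMap (A := A) V _ q (θ V F M q z.1) = θ V F N q z'.1
  rw [θ_natural, h]

include haff hcov in
/-- The cohomology of the Čech complex is finite. -/
theorem exists_gens_cechCx [IsNoetherianRing A] [IsProper (X ↘ Spec (CommRingCat.of A))]
    (hF : Coh.IsCoh F) (q : ℕ) :
    ∃ (a : ℕ) (s : Fin a → (cechCx A V F).X q), (∀ i, (cechCx A V F).d q (s i) = 0) ∧
      ∀ z, (cechCx A V F).d q z = 0 → ∃ c : Fin a → A,
        (z - Fintype.linearCombination A s c) ⊗ₜ[A] (1 : A) ∈ (cechCx A V F).B A q := by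
  haveI : IsLocallyNoetherian X := LocallyOfFiniteType.isLocallyNoetherian (X ↘ Spec (CommRingCat.of A))
  haveI : CompactSpace X := QuasiCompact.compactSpace_of_compactSpace (X ↘ Spec (CommRingCat.of A))
  haveI : IsNoetherian X := ⟨⟩
  have hfin : Module.Finite A (Coh.HH X (tA A F (ModuleCat.of A A)) q) :=
    ProperFin.allFin_of_isCoh (X ↘ Spec (CommRingCat.of A)) _
      (isCoh_of_iso (tensorASelfIso A F).symm hF) q
  obtain ⟨a, x, hx⟩ := Module.Finite.exists_fin (R := A) (M := Coh.HH X (tA A F (ModuleCat.of A A)) q)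
  choose z hz using fun i => cl_surjective V F haff hcov (ModuleCat.of A A) q (x i)
  let r := (TensorProduct.rid A ((cechCx A V F).X q))
  have hd : ∀ w, (cechCx A V F).d q (r w) =
      TensorProduct.rid A _ ((cechCx A V F).dT A q w) := fun w => by
    induction w using TensorProduct.induction_on with
    | zero => simp
    | tmul y c => simp [r, Cx.dT]
    | add u v hu hv => simp only [map_add, hu, hv]
  refine ⟨a, fun i => r (z i).1, fun i => ?_, fun y hy => ?_⟩
  · rw [hd, show (cechCx A V F).dT A q (z i).1 = 0 from (z i).2, map_zero]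
  · have hyZ : y ⊗ₜ[A] (1 : A) ∈ (cechCx A V F).Z A q := by
      rw [LinearMap.mem_ker, Cx.dT, LinearMap.rTensor_tmul, hy, zero_tmul]
    have hmem : cl V F haff hcov (ModuleCat.of A A) q ⟨_, hyZ⟩ ∈ Submodule.span A (Set.range x) :=
      hx ▸ trivial
    obtain ⟨c, hc⟩ := (Submodule.mem_span_range_iff_exists_fun A).1 hmem
    refine ⟨c, ?_⟩
    have h := (cl_eq_zero_iff V F haff hcov (ModuleCat.of A A) q (⟨_, hyZ⟩ - ∑ i, c i • z i)).1
      (by rw [map_sub, map_sum, sub_eq_zero, ← hc]; simp only [map_smul, hz])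
    have he : (y - Fintype.linearCombination A (fun i => r (z i).1) c) ⊗ₜ[A] (1 : A) =
        ((⟨_, hyZ⟩ : (cechCx A V F).Z A q) - ∑ i, c i • z i).1 := by
      apply r.injective
      rw [TensorProduct.rid_tmul, one_smul, AddSubgroupClass.coe_sub, map_sub, Submodule.coe_sum, map_sum]
      simp [r, Fintype.linearCombination_apply]
    rw [he]
    exact h

end Groth.Agent.BCLib
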