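import Groth.Agent.BCLib.Ker
import Mathlib.RingTheory.Filtration
import Mathlib.LinearAlgebra.TensorProduct.Quotient

/-!
# The exchange criterion through the truncations `A/m^(n+1)`
-/

set_option autoImplicit false
set_option backward.isDefEq.respectTransparency false
set_option backward.defeqAttrib.useBackward true

universe u

open CategoryTheory AlgebraicGeometry TensorProduct IsLocalRing

noncomputable section

namespace Groth.Agent.BCLib

theorem exists_tmul_one {A Q : Type u} [CommRing A] [AddCommGroup Q] [Module A Q] (I : Ideal A)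
    (v : Q ⊗[A] (A ⧸ I)) : ∃ q : Q, q ⊗ₜ[A] (1 : A ⧸ I) = v := by
  induction v using TensorProduct.induction_on with
  | zero => exact ⟨0, zero_tmul _ _⟩
  | tmul q a =>
    obtain ⟨a, rfl⟩ := Ideal.Quotient.mk_surjective a
    exact ⟨a • q, by rw [TensorProduct.smul_tmul, ← map_one (Ideal.Quotient.mk I), ← Ideal.Quotient.mk_eq_mk,
      ← Submodule.Quotient.mk_smul, smul_eq_mul, mul_one]; rfl⟩
  | add x y hx hy =>
    obtain ⟨a, ha⟩ := hx
    obtain ⟨b, hb⟩ := hy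
    exact ⟨a + b, by rw [add_tmul, ha, hb]⟩

theorem tmul_one_eq_zero_iff {A Q : Type u} [CommRing A] [AddCommGroup Q] [Module A Q] (I : Ideal A) (q : Q) :
    q ⊗ₜ[A] (1 : A ⧸ I) = 0 ↔ q ∈ I • (⊤ : Submodule A Q) := by
  rw [← (TensorProduct.tensorQuotEquivQuotSMul Q I).map_eq_zero_iff]
  show TensorProduct.quotTensorEquivQuotSMul Q I (TensorProduct.comm A _ _ (q ⊗ₜ[A] (1 : A ⧸ I))) = 0 ↔ _
  rw [TensorProduct.comm_tmul, TensorProduct.quotTensorEquivQuotSMul_mk_one_tmul, Submodule.Quotient.mk_eq_zero]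

variable {A : Type u} [CommRing A] [IsNoetherianRing A] [IsLocalRing A]

/-- If the kernel over the residue field lifts to every truncation then it lifts to `A`. -/
theorem kerTensorSurj_of_trunc {Q P : Type u} [AddCommGroup Q] [Module A Q] [AddCommGroup P] [Module A P]
    [Module.Finite A P] (δ : Q →ₗ[A] P)
    (h : ∀ n : ℕ, ∀ w : Q ⊗[A] (A ⧸ maximalIdeal A), δ.rTensor _ w = 0 →
      ∃ v : Q ⊗[A] (A ⧸ maximalIdeal A ^ (n + 1)), δ.rTensor _ v = 0 ∧
        (Ideal.Quotient.factorₐ A (Ideal.pow_le_self (I := maximalIdeal A)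
          (Nat.succ_ne_zero n))).toLinearMap.lTensor Q v = w)
    (w : Q ⊗[A] (A ⧸ maximalIdeal A)) (hw : δ.rTensor _ w = 0) :
    ∃ x : Q, δ x = 0 ∧ x ⊗ₜ[A] (1 : A ⧸ maximalIdeal A) = w := by
  let I := maximalIdeal A
  obtain ⟨k, hk⟩ := Ideal.exists_pow_inf_eq_pow_smul I (LinearMap.range δ)
  obtain ⟨v, hv, hvw⟩ := h k w hw
  obtain ⟨q, rfl⟩ := exists_tmul_one _ v
  rw [LinearMap.rTensor_tmul, tmul_one_eq_zero_iff] at hv
  have hq : δ q ∈ I ^ (k + 1) • (⊤ : Submodule A P) ⊓ LinearMap.range δ := ⟨hv, q, rfl⟩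
  rw [hk (k + 1) (by omega), Nat.add_sub_cancel_left, pow_one] at hq
  have hq' : δ q ∈ I • LinearMap.range δ := Submodule.smul_mono le_rfl inf_le_right hq
  rw [LinearMap.range_eq_map, ← Submodule.map_smul''] at hq'
  obtain ⟨y, hy, hyq⟩ := hq'
  refine ⟨q - y, by rw [map_sub, hyq, sub_self], ?_⟩
  rw [← hvw, sub_tmul, (tmul_one_eq_zero_iff _ y).2 hy, sub_zero, LinearMap.lTensor_tmul]
  exact congrArg (q ⊗ₜ[A] ·) (map_one (Ideal.Quotient.factorₐ A (Ideal.pow_le_self (I := maximalIdeal A) (Nat.succ_ne_zero k)))).symm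

variable {X : Scheme.{u}} [X.Over (Spec (CommRingCat.of A))] {F : X.Modules} (Φ : Model A X F) (p : ℕ)

include Φ in
theorem surjective_tH_of_trunc
    (h : ∀ n : ℕ, Function.Surjective (tH (F := F) p (ModuleCat.ofHom (Ideal.Quotient.factorₐ A
      (Ideal.pow_le_self (I := maximalIdeal A) (Nat.succ_ne_zero n))).toLinearMap :
        ModuleCat.of A (A ⧸ maximalIdeal A ^ (n + 1)) ⟶ ModuleCat.of A (A ⧸ maximalIdeal A)))) :
    Function.Surjective (tH (F := F) p (ModuleCat.ofHom (Algebra.linearMap A (A ⧸ maximalIdeal A)))) := by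
  intro y
  haveI := Φ.finite (p + 1)
  let w := (hhKer Φ p (ModuleCat.of A (A ⧸ maximalIdeal A)) y).1
  have hw : (Φ.L.δ p).rTensor _ w = 0 := (hhKer Φ p (ModuleCat.of A (A ⧸ maximalIdeal A)) y).2
  obtain ⟨x, hx, hxw⟩ := kerTensorSurj_of_trunc (Φ.L.δ p) (fun n w' hw' => by
    obtain ⟨v, hv⟩ := h n ((hhKer Φ p (ModuleCat.of A (A ⧸ maximalIdeal A))).symm ⟨w', hw'⟩)
    refine ⟨(hhKer Φ p (ModuleCat.of A (A ⧸ maximalIdeal A ^ (n + 1))) v).1,
      (hhKer Φ p (ModuleCat.of A (A ⧸ maximalIdeal A ^ (n + 1))) v).2, ?_⟩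
    refine (hhKer_natural Φ p (ModuleCat.ofHom (Ideal.Quotient.factorₐ A
      (Ideal.pow_le_self (I := maximalIdeal A) (Nat.succ_ne_zero n))).toLinearMap :
        ModuleCat.of A (A ⧸ maximalIdeal A ^ (n + 1)) ⟶ ModuleCat.of A (A ⧸ maximalIdeal A)) v).symm.trans ?_
    rw [hv, LinearEquiv.apply_symm_apply]) w hw
  refine ⟨(hhKer Φ p (ModuleCat.of A A)).symm ⟨x ⊗ₜ[A] (1 : A), LinearMap.mem_ker.2 (by
    rw [LinearMap.rTensor_tmul, hx, zero_tmul])⟩, (hhKer Φ p _).injective (Subtype.ext ?_)⟩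
  refine (hhKer_natural Φ p (ModuleCat.ofHom (Algebra.linearMap A (A ⧸ maximalIdeal A))) _).trans ?_
  rw [LinearEquiv.apply_symm_apply]
  refine Eq.trans ?_ hxw
  exact congrArg (x ⊗ₜ[A] ·) (map_one (algebraMap A (A ⧸ maximalIdeal A)))

include Φ in
theorem preservesEpi_iff_trunc :
    (CohIII.tensorAFunctor A F ⋙ CohIII.HAb X p).PreservesEpimorphisms ↔
      ∀ n : ℕ, Function.Surjective (tH (F := F) p (ModuleCat.ofHom (Ideal.Quotient.factorₐ A
        (Ideal.pow_le_self (I := maximalIdeal A) (Nat.succ_ne_zero n))).toLinearMap :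
          ModuleCat.of A (A ⧸ maximalIdeal A ^ (n + 1)) ⟶ ModuleCat.of A (A ⧸ maximalIdeal A))) := by
  refine ⟨fun h n => ?_, fun h => (preservesEpi_iff Φ p).2 (surjective_tH_of_trunc Φ p h)⟩
  haveI : Epi (ModuleCat.ofHom (Ideal.Quotient.factorₐ A (Ideal.pow_le_self (I := maximalIdeal A)
      (Nat.succ_ne_zero n))).toLinearMap : ModuleCat.of A (A ⧸ maximalIdeal A ^ (n + 1)) ⟶
        ModuleCat.of A (A ⧸ maximalIdeal A)) :=
    (ModuleCat.epi_iff_surjective _).2 (Ideal.Quotient.factor_surjective (Ideal.pow_le_self (Nat.succ_ne_zero n)))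
  exact (AddCommGrpCat.epi_iff_surjective _).1 (inferInstanceAs (Epi
    ((CohIII.tensorAFunctor A F ⋙ CohIII.HAb X p).map (ModuleCat.ofHom (Ideal.Quotient.factorₐ A
      (Ideal.pow_le_self (I := maximalIdeal A) (Nat.succ_ne_zero n))).toLinearMap :
        ModuleCat.of A (A ⧸ maximalIdeal A ^ (n + 1)) ⟶ ModuleCat.of A (A ⧸ maximalIdeal A)))))

end Groth.Agent.BCLib
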