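import Groth.Agent.BCLib.Fibre

/-!
# The exchange properties and base change
-/

set_option autoImplicit false
set_option backward.isDefEq.respectTransparency false
set_option backward.defeqAttrib.useBackward true
set_option linter.style.haveILetI false

universe u

open CategoryTheory CategoryTheory.Limits AlgebraicGeometry TopologicalSpace Opposite TensorProduct
open Groth.Agent.CohBase Groth.Agent.ProjCoh Groth.Agent.FormalLib

noncomputable section

namespace Groth.Agent.BCLib

namespace Cx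

variable {A : Type u} [CommRing A] (K : Cx A) (p : ℕ)

/-- `H^p(K ⊗ -)` preserves surjections. -/
def EpiAt : Prop :=
  ∀ (M N : Type u) [AddCommGroup M] [Module A M] [AddCommGroup N] [Module A N] (g : M →ₗ[A] N),
    Function.Surjective g → ∀ z ∈ K.Z N p, ∃ w ∈ K.Z M p, z - g.lTensor (K.X p) w ∈ K.B N p

/-- `H^p(K ⊗ -)` preserves injections. -/
def MonoAt : Prop :=
  ∀ (M N : Type u) [AddCommGroup M] [Module A M] [AddCommGroup N] [Module A N] (g : M →ₗ[A] N),
    Function.Injective g → ∀ z ∈ K.Z M p, g.lTensor (K.X p) z ∈ K.B N p → z ∈ K.B M p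

variable {A' : Type u} [CommRing A'] [Algebra A A'] {K' : Cx A'}
  (e : ∀ n, A' ⊗[A] K.X n ≃ₗ[A'] K'.X n)
  (he : ∀ n z, K'.d n (e n z) = e (n + 1) ((K.d n).baseChange A' z))
  (M N : Type u) [AddCommGroup M] [Module A' M] [Module A M] [IsScalarTower A A' M]
  [AddCommGroup N] [Module A' N] [Module A N] [IsScalarTower A A' N]

/-- `K ⊗_A M = K' ⊗_{A'} M`. -/
def bcTEquiv (n : ℕ) : K.X n ⊗[A] M ≃+ K'.X n ⊗[A'] M :=
  (TensorProduct.comm A (K.X n) M).toAddEquiv.trans
    (((AlgebraTensorModule.cancelBaseChange A A' A' M (K.X n)).symm ≪≫ₗ (e n).lTensor M ≪≫ₗ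
      TensorProduct.comm A' M (K'.X n)).toAddEquiv)

theorem bcTEquiv_tmul (n : ℕ) (x : K.X n) (m : M) :
    K.bcTEquiv e M n (x ⊗ₜ[A] m) = e n (1 ⊗ₜ[A] x) ⊗ₜ[A'] m := by
  simp [bcTEquiv]

include he in
theorem bcTEquiv_dT (n : ℕ) (z : K.X n ⊗[A] M) :
    K'.dT M n (K.bcTEquiv e M n z) = K.bcTEquiv e M (n + 1) (K.dT M n z) := by
  induction z using TensorProduct.induction_on with
  | zero => simp only [map_zero]
  | tmul x m =>
    rw [Cx.dT, Cx.dT, bcTEquiv_tmul, LinearMap.rTensor_tmul, LinearMap.rTensor_tmul, bcTEquiv_tmul, he,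
      LinearMap.baseChange_tmul]
  | add a b ha hb => simp only [map_add, ha, hb]

theorem bcTEquiv_lTensor (g : M →ₗ[A'] N) (n : ℕ) (z : K.X n ⊗[A] M) :
    K.bcTEquiv e N n ((g.restrictScalars A).lTensor (K.X n) z) = g.lTensor (K'.X n) (K.bcTEquiv e M n z) := by
  induction z using TensorProduct.induction_on with
  | zero => simp only [map_zero]
  | tmul x m => simp [bcTEquiv_tmul]
  | add a b ha hb => simp only [map_add, ha, hb]

include he in
theorem bcTEquiv_mem_Z (n : ℕ) (z : K.X n ⊗[A] M) : K.bcTEquiv e M n z ∈ K'.Z M n ↔ z ∈ K.Z M n := by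
  rw [LinearMap.mem_ker, LinearMap.mem_ker, K.bcTEquiv_dT e he, map_eq_zero_iff _ (AddEquiv.injective _)]

include he in
theorem bcTEquiv_mem_B (n : ℕ) (z : K.X n ⊗[A] M) : K.bcTEquiv e M n z ∈ K'.B M n ↔ z ∈ K.B M n := by
  cases n with
  | zero =>
    show K.bcTEquiv e M 0 z ∈ (⊥ : Submodule A' _) ↔ z ∈ (⊥ : Submodule A _)
    rw [Submodule.mem_bot, Submodule.mem_bot, map_eq_zero_iff _ (AddEquiv.injective _)]
  | succ n =>
    show _ ∈ LinearMap.range (K'.dT M n) ↔ z ∈ LinearMap.range (K.dT M n)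
    constructor
    · rintro ⟨w, hw⟩
      obtain ⟨w, rfl⟩ := (K.bcTEquiv e M n).surjective w
      rw [K.bcTEquiv_dT e he] at hw
      exact ⟨w, (K.bcTEquiv e M (n + 1)).injective hw⟩
    · rintro ⟨w, rfl⟩
      exact ⟨K.bcTEquiv e M n w, K.bcTEquiv_dT e he M n w⟩

include he in
theorem EpiAt.baseChange (h : K.EpiAt p) : K'.EpiAt p := by
  intro M N _ _ _ _ g hg z hz
  letI : Module A M := Module.compHom M (algebraMap A A')
  letI : Module A N := Module.compHom N (algebraMap A A')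
  haveI : IsScalarTower A A' M := .of_algebraMap_smul fun _ _ => rfl
  haveI : IsScalarTower A A' N := .of_algebraMap_smul fun _ _ => rfl
  obtain ⟨z, rfl⟩ := (K.bcTEquiv e N p).surjective z
  obtain ⟨w, hw, hzw⟩ := h M N (g.restrictScalars A) hg z ((K.bcTEquiv_mem_Z e he N p z).1 hz)
  refine ⟨K.bcTEquiv e M p w, (K.bcTEquiv_mem_Z e he M p w).2 hw, ?_⟩
  rw [← bcTEquiv_lTensor, ← map_sub]
  exact (K.bcTEquiv_mem_B e he N p _).2 hzw

include he in
theorem MonoAt.baseChange (h : K.MonoAt p) : K'.MonoAt p := by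
  intro M N _ _ _ _ g hg z hz hgz
  letI : Module A M := Module.compHom M (algebraMap A A')
  letI : Module A N := Module.compHom N (algebraMap A A')
  haveI : IsScalarTower A A' M := .of_algebraMap_smul fun _ _ => rfl
  haveI : IsScalarTower A A' N := .of_algebraMap_smul fun _ _ => rfl
  obtain ⟨z, rfl⟩ := (K.bcTEquiv e M p).surjective z
  rw [← bcTEquiv_lTensor] at hgz
  exact (K.bcTEquiv_mem_B e he M p z).2
    (h M N (g.restrictScalars A) hg z ((K.bcTEquiv_mem_Z e he M p z).1 hz) ((K.bcTEquiv_mem_B e he N p _).1 hgz))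

end Cx

section Cech

variable {A : Type u} [CommRing A] {X : Scheme.{u}} [X.Over (Spec (CommRingCat.of A))] {ι : Type u} [Finite ι]
  (V : ι → X.Opens) (F : X.Modules) [Coh.IsQCoh F] [IsSeparated (X ↘ Spec (CommRingCat.of A))]
  (haff : ∀ (m : ℕ) (i : Fin (m + 1) → ι), IsAffineOpen (inter V i)) (hcov : (⊤ : X.Opens) ≤ iSup V) (p : ℕ)

theorem tH_cl {M N : ModuleCat.{u} A} (g : M ⟶ N) (z : (cechCx A V F).Z M p) (z' : (cechCx A V F).Z N p)
    (h : z'.1 = g.hom.lTensor _ z.1) :
    tH p g (cl V F haff hcov M p z) = cl V F haff hcov N p z' :=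
  cl_natural V F haff hcov g p z z' h

include haff hcov in
theorem preservesEpi_iff_epiAt :
    (CohIII.tensorAFunctor A F ⋙ CohIII.HAb X p).PreservesEpimorphisms ↔ (cechCx A V F).EpiAt p := by
  constructor
  · intro h M N _ _ _ _ g hg z hz
    haveI : Epi (ModuleCat.ofHom g) := (ModuleCat.epi_iff_surjective _).2 hg
    haveI hT : Epi ((CohIII.tensorAFunctor A F ⋙ CohIII.HAb X p).map (ModuleCat.ofHom g)) := inferInstance
    obtain ⟨y, hy⟩ := (AddCommGrpCat.epi_iff_surjective _).1 hT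
      (cl V F haff hcov (ModuleCat.of A N) p ⟨z, hz⟩)
    obtain ⟨w, rfl⟩ := cl_surjective V F haff hcov (ModuleCat.of A M) p y
    let w' : (cechCx A V F).Z (ModuleCat.of A N) p := ⟨g.lTensor _ w.1, lTensor_mem_Z _ p g w.2⟩
    refine ⟨w.1, w.2, (cl_eq_zero_iff V F haff hcov (ModuleCat.of A N) p (⟨z, hz⟩ - w')).1 ?_⟩
    rw [map_sub, sub_eq_zero]
    exact ((tH_cl V F haff hcov p (ModuleCat.ofHom g) w w' rfl).symm.trans hy).symm
  · intro h
    refine ⟨fun {M N} g _ => (AddCommGrpCat.epi_iff_surjective _).2 fun x => ?_⟩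
    obtain ⟨⟨z, hz⟩, rfl⟩ := cl_surjective V F haff hcov N p x
    obtain ⟨w, hw, hzw⟩ := h M N g.hom ((ModuleCat.epi_iff_surjective g).1 inferInstance) z hz
    refine ⟨cl V F haff hcov M p ⟨w, hw⟩,
      (tH_cl V F haff hcov p g ⟨w, hw⟩ ⟨_, lTensor_mem_Z _ p g.hom hw⟩ rfl).trans (Eq.symm (sub_eq_zero.1 ?_))⟩
    rw [← map_sub]
    exact (cl_eq_zero_iff V F haff hcov N p _).2 hzw

include haff hcov in
theorem preservesMono_iff_monoAt :
    (CohIII.tensorAFunctor A F ⋙ CohIII.HAb X p).PreservesMonomorphisms ↔ (cechCx A V F).MonoAt p := by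
  constructor
  · intro h M N _ _ _ _ g hg z hz hgz
    haveI : Mono (ModuleCat.ofHom g) := (ModuleCat.mono_iff_injective _).2 hg
    haveI hT : Mono ((CohIII.tensorAFunctor A F ⋙ CohIII.HAb X p).map (ModuleCat.ofHom g)) := inferInstance
    have hinj := (AddCommGrpCat.mono_iff_injective _).1 hT
    let z' : (cechCx A V F).Z (ModuleCat.of A N) p := ⟨g.lTensor _ z, lTensor_mem_Z _ p g hz⟩
    refine (cl_eq_zero_iff V F haff hcov (ModuleCat.of A M) p ⟨z, hz⟩).1 (hinj ?_)
    rw [map_zero]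
    exact (tH_cl V F haff hcov p (ModuleCat.ofHom g) ⟨z, hz⟩ z' rfl).trans
      ((cl_eq_zero_iff V F haff hcov (ModuleCat.of A N) p z').2 hgz)
  · intro h
    refine ⟨fun {M N} g _ => (AddCommGrpCat.mono_iff_injective _).2
      ((injective_iff_map_eq_zero _).2 fun x hx => ?_)⟩
    obtain ⟨⟨z, hz⟩, rfl⟩ := cl_surjective V F haff hcov M p x
    rw [cl_eq_zero_iff]
    exact h M N g.hom ((ModuleCat.mono_iff_injective g).1 inferInstance) z hz
      ((cl_eq_zero_iff V F haff hcov N p ⟨_, lTensor_mem_Z _ p g.hom hz⟩).1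
        ((tH_cl V F haff hcov p g ⟨z, hz⟩ ⟨_, lTensor_mem_Z _ p g.hom hz⟩ rfl).symm.trans hx))

end Cech

/-- The base change of the Čech complex is the Čech complex upstairs. -/
theorem exists_cechCx_baseChange {R R' : CommRingCat.{u}} {X X' : Scheme.{u}}
    [X.Over (Spec (CommRingCat.of R))] [X'.Over (Spec (CommRingCat.of R'))] {g' : X' ⟶ X} {φ : R ⟶ R'}
    (hc : IsPullback g' (str R' X') (str R X) (Spec.map φ)) {ι : Type u} [Finite ι] (V : ι → X.Opens)
    (G : X.Modules) [Coh.IsQCoh G] (haff : ∀ (m : ℕ) (i : Fin (m + 1) → ι), IsAffineOpen (inter V i)) :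
    letI := φ.hom.toAlgebra
    ∃ e : ∀ n, R' ⊗[R] (cechCx R V G).X n ≃ₗ[R']
        (cechCx R' (ProperFin.preCov g' V) ((Scheme.Modules.pullback g').obj G)).X n,
      ∀ n z, (cechCx R' (ProperFin.preCov g' V) ((Scheme.Modules.pullback g').obj G)).d n (e n z) =
        e (n + 1) (((cechCx R V G).d n).baseChange R' z) := by
  letI := φ.hom.toAlgebra
  let G' := (Scheme.Modules.pullback g').obj G
  let V' := ProperFin.preCov g' V
  let Θ : ∀ n, R' ⊗[R] (cechCx R V G).X n ≃ₗ[R'] Coch (str R' X') G' V' n := fun n =>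
    letI := Module.compHom (Coch (str R' X') G' V' n) φ.hom
    haveI : IsScalarTower R R' (Coch (str R' X') G' V' n) := .of_algebraMap_smul fun _ _ => rfl
    (cochEquiv V (tensorASelfIso R G) n).baseChange R R' _ _ ≪≫ₗ (isBaseChange_pullCoch g' φ hc V G haff n).equiv
  have hΘ : ∀ n z, dL (str R' X') G' V' n (Θ n z) = Θ (n + 1) (((cechCx R V G).d n).baseChange R' z) := fun n z => by
    letI := Module.compHom (Coch (str R' X') G' V' n) φ.hom
    haveI : IsScalarTower R R' (Coch (str R' X') G' V' n) := .of_algebraMap_smul fun _ _ => rfl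
    letI := Module.compHom (Coch (str R' X') G' V' (n + 1)) φ.hom
    haveI : IsScalarTower R R' (Coch (str R' X') G' V' (n + 1)) := .of_algebraMap_smul fun _ _ => rfl
    induction z using TensorProduct.induction_on with
    | zero => simp only [map_zero]
    | tmul b x =>
      simp only [Θ, LinearEquiv.trans_apply, LinearMap.baseChange_tmul, LinearEquiv.baseChange_tmul]
      refine (congrArg _ (IsBaseChange.equiv_tmul (isBaseChange_pullCoch g' φ hc V G haff n) b _)).trans ?_
      refine Eq.trans ?_ (IsBaseChange.equiv_tmul (isBaseChange_pullCoch g' φ hc V G haff (n + 1)) b _).symm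
      refine (map_smul (dL (str R' X') G' V' n) b _).trans (congrArg (b • ·) ?_)
      exact (dL_pullCoch g' φ hc V G n _).trans (congrArg _ (dL_cochMap V _ n x))
    | add u v hu hv => simp only [map_add, hu, hv]
  refine ⟨fun n => Θ n ≪≫ₗ (cochEquiv V' (tensorASelfIso R' G') n).symm, fun n z => ?_⟩
  exact (dL_cochMap V' (tensorASelfIso R' G').inv n (Θ n z)).trans (congrArg _ (hΘ n z))

/-- Exchange properties are stable under base change. -/
theorem preservesEpi_mono_baseChange {R R' : CommRingCat.{u}} {X X' : Scheme.{u}}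
    [X.Over (Spec (CommRingCat.of R))] [X'.Over (Spec (CommRingCat.of R'))] {g' : X' ⟶ X} {φ : R ⟶ R'}
    (hc : IsPullback g' (str R' X') (str R X) (Spec.map φ)) [IsProper (str R X)]
    (G : X.Modules) [Coh.IsQCoh G] (p : ℕ) :
    ((CohIII.tensorAFunctor R G ⋙ CohIII.HAb X p).PreservesEpimorphisms →
        (CohIII.tensorAFunctor R' ((Scheme.Modules.pullback g').obj G) ⋙ CohIII.HAb X' p).PreservesEpimorphisms) ∧
      ((CohIII.tensorAFunctor R G ⋙ CohIII.HAb X p).PreservesMonomorphisms →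
        (CohIII.tensorAFunctor R' ((Scheme.Modules.pullback g').obj G) ⋙ CohIII.HAb X' p).PreservesMonomorphisms) := by
  obtain ⟨ι, hι, V, hcov, haff⟩ := exists_affine_cover (str R X)
  haveI : IsProper (str R' X') := MorphismProperty.of_isPullback hc inferInstance
  haveI : Coh.IsQCoh ((Scheme.Modules.pullback g').obj G) := PullbackMod.isQCoh_pullback g' G
  have hcov' : (⊤ : X'.Opens) ≤ iSup (ProperFin.preCov g' V) := fun x _ => by
    obtain ⟨b, hb⟩ := Opens.mem_iSup.1 (hcov (show g' x ∈ (⊤ : X.Opens) from trivial))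
    exact Opens.mem_iSup.2 ⟨b, hb⟩
  have haff' : ∀ (m : ℕ) (i : Fin (m + 1) → ι), IsAffineOpen (inter (ProperFin.preCov g' V) i) := fun m i => by
    rw [← ProperFin.inter_preCov]
    exact (isPushout_secHom (f := str R X) (f' := str R' X') hc (haff m i)).1
  obtain ⟨e, he⟩ := exists_cechCx_baseChange hc V G haff
  letI := φ.hom.toAlgebra
  exact ⟨fun h => (preservesEpi_iff_epiAt (A := R') _ _ haff' hcov' p).2
      (Cx.EpiAt.baseChange _ p e he ((preservesEpi_iff_epiAt (A := R) V G haff hcov p).1 h)),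
    fun h => (preservesMono_iff_monoAt (A := R') _ _ haff' hcov' p).2
      (Cx.MonoAt.baseChange _ p e he ((preservesMono_iff_monoAt (A := R) V G haff hcov p).1 h))⟩

end Groth.Agent.BCLib
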