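import Groth.Agent.BCLib.Fibre

/-!
# Cohomology as a linear functor of the sheaf
-/

set_option autoImplicit false
set_option backward.isDefEq.respectTransparency false
set_option backward.defeqAttrib.useBackward true

universe u

open CategoryTheory CategoryTheory.Limits AlgebraicGeometry TopologicalSpace Opposite

noncomputable section

namespace Groth.Agent.BCLib

/-- The map on cohomology induced by a morphism of sheaves, as a linear map. -/
def hhMapL {A : Type u} [CommRing A] {X : Scheme.{u}} [X.Over (Spec (CommRingCat.of A))]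
    {M N : X.Modules} (f : M ⟶ N) (q : ℕ) : Coh.HH X M q →ₗ[A] Coh.HH X N q where
  toFun := Sheaf.H.map ((SheafOfModules.toSheaf X.ringCatSheaf).map f) q
  map_add' := map_add _
  map_smul' a x := by
    have h : Coh.smulAb M (Coh.toGlobal (X ↘ Spec (CommRingCat.of A)) a) ≫
          (SheafOfModules.toSheaf X.ringCatSheaf).map f =
        (SheafOfModules.toSheaf X.ringCatSheaf).map f ≫
          Coh.smulAb N (Coh.toGlobal (X ↘ Spec (CommRingCat.of A)) a) := by
      ext U m
      exact (f.val.app U).hom.map_smul' (Coh.resTop X U (Coh.toGlobal (X ↘ Spec (CommRingCat.of A)) a)) m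
    show Sheaf.H.map _ q (Sheaf.H.map _ q x) = Sheaf.H.map _ q (Sheaf.H.map _ q x)
    exact ((Sheaf.H.map_comp_apply _ _ x).symm.trans (congrArg (fun t => Sheaf.H.map t q x) h)).trans
      (Sheaf.H.map_comp_apply _ _ x)

/-- Isomorphic sheaves have linearly isomorphic cohomology. -/
def hhEquivL {A : Type u} [CommRing A] {X : Scheme.{u}} [X.Over (Spec (CommRingCat.of A))]
    {M N : X.Modules} (e : M ≅ N) (q : ℕ) : Coh.HH X M q ≃ₗ[A] Coh.HH X N q :=
  LinearEquiv.ofLinearMap (hhMapL e.hom q) (hhMapL e.inv q)
    (LinearMap.ext fun x => (Formal.HHmap_comp e.inv e.hom q x).trans (by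
      rw [e.inv_hom_id, CategoryTheory.Functor.map_id, Sheaf.H.map_id_apply]; rfl))
    (LinearMap.ext fun x => (Formal.HHmap_comp e.hom e.inv q x).trans (by
      rw [e.hom_inv_id, CategoryTheory.Functor.map_id, Sheaf.H.map_id_apply]; rfl))

end Groth.Agent.BCLib
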