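import Groth.Agent.BCLib.Semi
import Groth.Agent.FlatCx.Corep

/-!
# `M ↦ H^p(X, F ⊗ f^* M~)` as the kernel of `δ_p ⊗ M`
-/

set_option autoImplicit false
set_option backward.isDefEq.respectTransparency false
set_option backward.defeqAttrib.useBackward true

universe u

open CategoryTheory CategoryTheory.Limits AlgebraicGeometry TensorProduct Opposite

noncomputable section

namespace Groth.Agent.BCLib

section SurjEquiv

variable {R Z H K : Type u} [CommRing R] [AddCommGroup Z] [Module R Z] [AddCommGroup H] [Module R H]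
  [AddCommGroup K] [Module R K] (f : Z →ₗ[R] H) (g : Z →ₗ[R] K)
  (hf : Function.Surjective f) (hg : Function.Surjective g) (h : ∀ z, f z = 0 ↔ g z = 0)

include h in
theorem surjEquiv_wd {z z' : Z} (he : f z = f z') : g z = g z' := by
  rw [← sub_eq_zero, ← map_sub, ← h, map_sub, sub_eq_zero]
  exact he

/-- Two surjections with the same kernel have isomorphic targets. -/
def surjEquiv : H ≃ₗ[R] K :=
  LinearEquiv.ofBijective
    { toFun := fun x => g (Function.surjInv hf x)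
      map_add' := fun x y => by
        rw [← map_add g]
        exact surjEquiv_wd f g h (by rw [map_add, Function.surjInv_eq hf, Function.surjInv_eq hf, Function.surjInv_eq hf])
      map_smul' := fun a x => by
        rw [RingHom.id_apply, ← map_smul g]
        exact surjEquiv_wd f g h (by rw [map_smul, Function.surjInv_eq hf, Function.surjInv_eq hf]) }
    ⟨(injective_iff_map_eq_zero _).2 fun x hx => by
      rw [← Function.surjInv_eq hf x]
      exact (h _).2 hx,
    fun y => by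
      obtain ⟨z, rfl⟩ := hg y
      exact ⟨f z, surjEquiv_wd f g h (Function.surjInv_eq hf _)⟩⟩

theorem surjEquiv_apply (z : Z) : surjEquiv f g hf hg h (f z) = g z :=
  surjEquiv_wd f g h (Function.surjInv_eq hf _)

end SurjEquiv

variable {A : Type u} [CommRing A] {X : Scheme.{u}} [X.Over (Spec (CommRingCat.of A))] {F : X.Modules}
  (Φ : Model A X F) (p : ℕ)

/-- Cocycles to `ker (δ_p ⊗ M)`. -/
def zToKer (M : ModuleCat.{u} A) : Φ.L.Z M p →ₗ[A] LinearMap.ker ((Φ.L.δ p).rTensor M) :=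
  ((Φ.L.bd p).mkQ.rTensor M).restrict fun z hz =>
    LinearMap.mem_ker.2 ((Φ.L.δ_rTensor_mkQ M p z).trans (LinearMap.mem_ker.1 hz))

theorem zToKer_surjective (M : ModuleCat.{u} A) : Function.Surjective (zToKer Φ p M) := by
  rintro ⟨w, hw⟩
  obtain ⟨z, rfl⟩ := LinearMap.rTensor_surjective (M : Type u) (Submodule.mkQ_surjective (Φ.L.bd p)) w
  exact ⟨⟨z, LinearMap.mem_ker.2 ((Φ.L.δ_rTensor_mkQ M p z).symm.trans (LinearMap.mem_ker.1 hw))⟩, rfl⟩

theorem zToKer_eq_zero_iff (M : ModuleCat.{u} A) (z : Φ.L.Z M p) : Φ.ev M p z = 0 ↔ zToKer Φ p M z = 0 := by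
  refine (Φ.ev_eq_zero_iff M p z).trans ?_
  rw [← Cx.ker_rTensor_mkQ_bd, LinearMap.mem_ker]
  exact ⟨fun h => Subtype.ext h, fun h => congrArg Subtype.val h⟩

/-- `H^p(X, F ⊗ f^* M~) = ker (δ_p ⊗ M)`. -/
def hhKer (M : ModuleCat.{u} A) : Coh.HH X (tA A F M) p ≃ₗ[A] LinearMap.ker ((Φ.L.δ p).rTensor M) :=
  surjEquiv (K := ↥(LinearMap.ker ((Φ.L.δ p).rTensor M))) (Φ.ev M p) (zToKer Φ p M) (Φ.ev_surjective M p) (zToKer_surjective Φ p M) (zToKer_eq_zero_iff Φ p M)

theorem hhKer_ev (M : ModuleCat.{u} A) (z : Φ.L.Z M p) : hhKer Φ p M (Φ.ev M p z) = zToKer Φ p M z := by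
  unfold hhKer
  apply surjEquiv_apply

attribute [irreducible] hhKer

theorem hhKer_natural {M N : ModuleCat.{u} A} (g : M ⟶ N) (x : Coh.HH X (tA A F M) p) :
    (hhKer Φ p N (tH p g x) : _) = g.hom.lTensor (Φ.L.X p ⧸ Φ.L.bd p) (hhKer Φ p M x).1 := by
  obtain ⟨z, rfl⟩ := Φ.ev_surjective M p x
  let z' : Φ.L.Z N p := ⟨g.hom.lTensor _ z.1, lTensor_mem_Z Φ.L p g.hom z.2⟩
  rw [tH_ev Φ p g z z' rfl, hhKer_ev, hhKer_ev]
  show (Φ.L.bd p).mkQ.rTensor N (g.hom.lTensor _ z.1) = g.hom.lTensor _ ((Φ.L.bd p).mkQ.rTensor M z.1)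
  rw [← LinearMap.comp_apply, LinearMap.rTensor_comp_lTensor, ← LinearMap.lTensor_comp_rTensor]
  rfl

theorem preservesEpi_iff_kerSurj :
    (CohIII.tensorAFunctor A F ⋙ CohIII.HAb X p).PreservesEpimorphisms ↔ FlatCx.KerSurj (Φ.L.δ p) := by
  constructor
  · intro h M N _ _ _ _ g hg y hy
    haveI : Epi (ModuleCat.ofHom g) := (ModuleCat.epi_iff_surjective _).2 hg
    haveI hT : Epi ((CohIII.tensorAFunctor A F ⋙ CohIII.HAb X p).map (ModuleCat.ofHom g)) := inferInstance
    obtain ⟨x, hx⟩ := (AddCommGrpCat.epi_iff_surjective _).1 hT ((hhKer Φ p (ModuleCat.of A N)).symm ⟨y, hy⟩)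
    refine ⟨(hhKer Φ p (ModuleCat.of A M) x).1, (hhKer Φ p (ModuleCat.of A M) x).2, ?_⟩
    refine (hhKer_natural Φ p (ModuleCat.ofHom g) x).symm.trans ?_
    rw [show tH p (ModuleCat.ofHom g) x = (hhKer Φ p (ModuleCat.of A N)).symm ⟨y, hy⟩ from hx,
      LinearEquiv.apply_symm_apply]
  · intro h
    refine ⟨fun {M N} g _ => (AddCommGrpCat.epi_iff_surjective _).2 fun y => ?_⟩
    obtain ⟨x, hx, hxy⟩ := h g.hom ((ModuleCat.epi_iff_surjective g).1 inferInstance)
      (hhKer Φ p N y).1 (hhKer Φ p N y).2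
    refine ⟨(hhKer Φ p M).symm ⟨x, hx⟩, (hhKer Φ p N).injective (Subtype.ext ?_)⟩
    refine (hhKer_natural Φ p g _).trans ?_
    rw [LinearEquiv.apply_symm_apply]
    exact hxy

theorem preservesMono_iff_kerInj :
    (CohIII.tensorAFunctor A F ⋙ CohIII.HAb X p).PreservesMonomorphisms ↔ FlatCx.KerInj (Φ.L.δ p) := by
  constructor
  · intro h M N _ _ _ _ g hg x hx hgx
    haveI : Mono (ModuleCat.ofHom g) := (ModuleCat.mono_iff_injective _).2 hg
    haveI hT : Mono ((CohIII.tensorAFunctor A F ⋙ CohIII.HAb X p).map (ModuleCat.ofHom g)) := inferInstance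
    have h0 : (hhKer Φ p (ModuleCat.of A M)).symm ⟨x, hx⟩ = 0 := by
      refine (AddCommGrpCat.mono_iff_injective _).1 hT ?_
      rw [map_zero]
      refine (hhKer Φ p (ModuleCat.of A N)).injective (Subtype.ext ?_)
      refine (hhKer_natural Φ p (ModuleCat.ofHom g) _).trans ?_
      rw [LinearEquiv.apply_symm_apply, map_zero]
      exact hgx
    exact congrArg Subtype.val ((hhKer Φ p (ModuleCat.of A M)).symm.map_eq_zero_iff.1 h0)
  · intro h
    refine ⟨fun {M N} g _ => (AddCommGrpCat.mono_iff_injective _).2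
      ((injective_iff_map_eq_zero _).2 fun y hy => ?_)⟩
    apply (hhKer Φ p M).injective
    rw [map_zero]
    refine Subtype.ext (h g.hom ((ModuleCat.mono_iff_injective g).1 inferInstance) _ (hhKer Φ p M y).2 ?_)
    refine (hhKer_natural Φ p g y).symm.trans ?_
    rw [show tH p g y = 0 from hy, map_zero]
    rfl

theorem preservesEpi_iff_flat :
    (CohIII.tensorAFunctor A F ⋙ CohIII.HAb X p).PreservesEpimorphisms ↔
      Module.Flat A (Φ.L.X (p + 1) ⧸ Φ.L.bd (p + 1)) := by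
  haveI := Φ.flat (p + 1)
  rw [preservesEpi_iff_kerSurj Φ p, FlatCx.kerSurj_iff]
  exact Module.Flat.equiv_iff (Submodule.quotEquivOfEq _ _ (Φ.L.range_δ p))

theorem preservesMono_iff_flat :
    (CohIII.tensorAFunctor A F ⋙ CohIII.HAb X p).PreservesMonomorphisms ↔
      Module.Flat A (Φ.L.X p ⧸ Φ.L.bd p) := by
  haveI := Φ.flat (p + 1)
  rw [preservesMono_iff_kerInj Φ p, FlatCx.kerInj_iff]

theorem preservesMono_of_iso (Q : ModuleCat.{u} A)
    (e : CohIII.tensorAFunctor A F ⋙ CohIII.HAb X p ≅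
      (linearCoyoneda A (ModuleCat.{u} A)).obj (op Q) ⋙ forget₂ (ModuleCat.{u} A) AddCommGrpCat.{u}) :
    (CohIII.tensorAFunctor A F ⋙ CohIII.HAb X p).PreservesMonomorphisms := by
  haveI : ((linearCoyoneda A (ModuleCat.{u} A)).obj (op Q) ⋙
      forget₂ (ModuleCat.{u} A) AddCommGrpCat.{u}).PreservesMonomorphisms := by
    refine ⟨fun {M N} g hg => (AddCommGrpCat.mono_iff_injective _).2 fun a b h => ?_⟩
    exact (cancel_mono g).1 h
  exact Functor.preservesMonomorphisms.of_iso e.symm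

/-- `T^p` is corepresentable when `C_p` is finite projective. -/
def corepIsoAb [Module.Finite A (Φ.L.X p ⧸ Φ.L.bd p)] [Module.Projective A (Φ.L.X p ⧸ Φ.L.bd p)]
    [Module.Finite A (Φ.L.X (p + 1))] [Module.Projective A (Φ.L.X (p + 1))] :
    CohIII.tensorAFunctor A F ⋙ CohIII.HAb X p ≅
      (linearCoyoneda A (ModuleCat.{u} A)).obj (op (ModuleCat.of A (FlatCx.Qm (Φ.L.δ p)))) ⋙
        forget₂ (ModuleCat.{u} A) AddCommGrpCat.{u} :=
  NatIso.ofComponents
    (fun M => AddEquiv.toAddCommGrpIso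
      (X := (CohIII.tensorAFunctor A F ⋙ CohIII.HAb X p).obj M)
      (Y := ((linearCoyoneda A (ModuleCat.{u} A)).obj (op (ModuleCat.of A (FlatCx.Qm (Φ.L.δ p)))) ⋙
        forget₂ (ModuleCat.{u} A) AddCommGrpCat.{u}).obj M)
      (hhKer Φ p M ≪≫ₗ FlatCx.kerEquivHom (Φ.L.δ p) M ≪≫ₗ
        (ModuleCat.homLinearEquiv (S := A) (M := ModuleCat.of A (FlatCx.Qm (Φ.L.δ p))) (N := M)).symm).toAddEquiv)
    (fun {M N} g => by
      ext x
      apply ModuleCat.hom_ext
      refine Submodule.linearMap_qext _ (LinearMap.ext fun φ => ?_)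
      show FlatCx.toHomDual _ N (hhKer Φ p N (tH p g x)).1 φ =
        g.hom (FlatCx.toHomDual _ M (hhKer Φ p M x).1 φ)
      rw [hhKer_natural, FlatCx.toHomDual_lTensor]
      rfl)

end Groth.Agent.BCLib
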