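import Groth.Agent.BCLib.Ker
import Groth.Agent.FlatCx.Len
import Groth.Agent.FlatCx.ArtinRees
import Mathlib.RingTheory.HopkinsLevitzki
import Mathlib.RingTheory.Filtration

/-!
# Cohomological flatness through the lengths at the truncations
-/

set_option autoImplicit false
set_option backward.isDefEq.respectTransparency false
set_option backward.defeqAttrib.useBackward true

universe u

open TensorProduct LinearMap Function IsLocalRing Groth.Agent.FlatCx

noncomputable section

namespace Groth.Agent.BCLib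

variable {A : Type u} [CommRing A] [IsNoetherianRing A] [IsLocalRing A]

theorem isFiniteLength_quot_pow (n : ℕ) : IsFiniteLength A (A ⧸ maximalIdeal A ^ n) := by
  have : Ring.KrullDimLE 0 (A ⧸ maximalIdeal A ^ n) := Ring.KrullDimLE.mk₀ fun P hP => by
    have hle : maximalIdeal A ≤ P.comap (Ideal.Quotient.mk (maximalIdeal A ^ n)) := by
      intro x hx
      refine (hP.comap _).mem_of_pow_mem n ?_
      rw [Ideal.mem_comap, Ideal.Quotient.eq_zero_iff_mem.2 (Ideal.pow_mem_pow hx n)]
      exact zero_mem _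
    have hm : (P.comap (Ideal.Quotient.mk (maximalIdeal A ^ n))).IsMaximal := by
      rw [← (maximalIdeal.isMaximal A).eq_of_le (hP.comap _).ne_top hle]; infer_instance
    rw [← Ideal.map_comap_of_surjective _ Ideal.Quotient.mk_surjective P]
    exact (Ideal.map_eq_top_or_isMaximal_of_surjective _ Ideal.Quotient.mk_surjective hm).resolve_left
      (by rw [Ideal.map_comap_of_surjective _ Ideal.Quotient.mk_surjective P]; exact hP.ne_top)
  have : IsArtinianRing (A ⧸ maximalIdeal A ^ n) :=
    isArtinianRing_iff_isNoetherianRing_krullDimLE_zero.2 ⟨inferInstance, this⟩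
  have : IsArtinian A (A ⧸ maximalIdeal A ^ n) :=
    isArtinian_of_surjective_algebraMap (R := A ⧸ maximalIdeal A ^ n) (M := A ⧸ maximalIdeal A ^ n)
      Ideal.Quotient.mk_surjective
  exact isFiniteLength_iff_isNoetherian_isArtinian.2 ⟨inferInstance, this⟩

/-- The projection `A/m^(n+1) → A/m`. -/
def truncMap (n : ℕ) : (A ⧸ maximalIdeal A ^ (n + 1)) →ₗ[A] (A ⧸ maximalIdeal A) :=
  (Ideal.Quotient.factorₐ A (Ideal.pow_le_self (I := maximalIdeal A) (Nat.succ_ne_zero n))).toLinearMap

theorem truncMap_surjective (n : ℕ) : Surjective (truncMap (A := A) n) :=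
  Ideal.Quotient.factor_surjective (Ideal.pow_le_self (Nat.succ_ne_zero n))

theorem truncMap_mk (n : ℕ) (a : A) :
    truncMap n (Ideal.Quotient.mk (maximalIdeal A ^ (n + 1)) a) = Ideal.Quotient.mk (maximalIdeal A) a :=
  rfl

variable {C F : Type u} [AddCommGroup C] [Module A C] [AddCommGroup F] [Module A F] (δ : C →ₗ[A] F)

theorem kerLen_residue_ne_top [Module.Finite A C] : kerLen δ (A ⧸ maximalIdeal A) ≠ ⊤ := by
  haveI : IsArtinian A (A ⧸ maximalIdeal A) :=
    isArtinian_of_surjective_algebraMap (R := ResidueField A) (M := ResidueField A) Ideal.Quotient.mk_surjective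
  haveI : Module.Finite A (C ⊗[A] (A ⧸ maximalIdeal A)) := inferInstance
  haveI : IsNoetherian A (C ⊗[A] (A ⧸ maximalIdeal A)) := inferInstance
  have hlen : IsFiniteLength A (C ⊗[A] (A ⧸ maximalIdeal A)) := by
    obtain ⟨r, g, hg⟩ := Module.Finite.exists_fin' A C
    have : IsArtinian A ((Fin r → A) ⊗[A] (A ⧸ maximalIdeal A)) :=
      LinearEquiv.isArtinian_iff ((TensorProduct.comm A (Fin r → A) (A ⧸ maximalIdeal A)).trans
        (TensorProduct.piScalarRight A A (A ⧸ maximalIdeal A) (Fin r))).symm |>.1 inferInstance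
    haveI := isArtinian_of_surjective _ (g.rTensor (A ⧸ maximalIdeal A)) (LinearMap.rTensor_surjective _ hg)
    exact isFiniteLength_iff_isNoetherian_isArtinian.2 ⟨inferInstance, inferInstance⟩
  exact ne_top_of_le_ne_top (Module.length_ne_top_iff.2 hlen)
    (Module.length_le_of_injective _ (Submodule.subtype_injective _))

section Levels

variable [Module.Flat A F] [Module.Finite A C] [Module.Finite A F]
  (n₀ : ℕ) (hlen : ∀ n, n₀ ≤ n → kerLen δ (A ⧸ maximalIdeal A ^ (n + 1)) =
    kerLen δ (A ⧸ maximalIdeal A) * Module.length A (A ⧸ maximalIdeal A ^ (n + 1)))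

include hlen in
theorem trunc_range_eq (n : ℕ) (hn : n₀ ≤ n) :
    range (kerMap δ (truncMap n)) = ⊤ := by
  let k := A ⧸ maximalIdeal A
  let g := truncMap (A := A) n
  have hfg : Exact (ker g).subtype g := g.exact_subtype_ker_map
  haveI : IsSimpleModule A k :=
    isSimpleModule_iff_quot_maximal.mpr ⟨_, maximalIdeal.isMaximal A, ⟨LinearEquiv.refl A _⟩⟩
  have hA := Module.length_eq_add_of_exact (ker g).subtype g Subtype.val_injective (truncMap_surjective n) hfg
  rw [Module.length_eq_one A k] at hA
  have hflM := isFiniteLength_quot_pow (A := A) (n + 1)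
  have hfl : IsFiniteLength A (ker g) := hflM.of_injective (f := (ker g).subtype) Subtype.val_injective
  have h := kerLen_le_add δ (ker g).subtype g Subtype.val_injective (truncMap_surjective n) hfg
  have hle := h.trans (add_le_add (kerLen_le_mul δ hfl) le_rfl)
  rw [hlen n hn, hA, mul_add, mul_one] at hle
  have hd : kerLen δ k ≠ ⊤ := kerLen_residue_ne_top δ
  have hne : kerLen δ k * Module.length A (ker g) ≠ ⊤ :=
    WithTop.mul_ne_top hd (Module.length_ne_top_iff.mpr hfl)
  have hdle : kerLen δ k ≤ Module.length A (range (kerMap δ g)) := (ENat.add_le_add_iff_left hne).mp hle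
  haveI : IsNoetherian A (ker (δ.rTensor k)) :=
    (isFiniteLength_iff_isNoetherian_isArtinian.mp (Module.length_ne_top_iff.mp hd)).1
  haveI : IsArtinian A (ker (δ.rTensor k)) :=
    (isFiniteLength_iff_isNoetherian_isArtinian.mp (Module.length_ne_top_iff.mp hd)).2
  by_contra hne'
  exact absurd hdle (not_le.mpr (Submodule.length_lt hne'))

include hlen in
theorem flat_coker_of_kerLen : Module.Flat A (F ⧸ range δ) := by
  refine flat_coker_of_kerTensorSurj δ (kerTensorSurj_residueField_of_levels δ fun n₁ =>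
    ⟨max n₀ n₁, le_max_right _ _, fun z hz => ?_⟩)
  obtain ⟨w, hw⟩ := (trunc_range_eq δ n₀ hlen _ (le_max_left n₀ n₁)).ge
    (Submodule.mem_top : (⟨z, hz⟩ : ker (δ.rTensor (A ⧸ maximalIdeal A))) ∈ ⊤)
  obtain ⟨c, hc⟩ := FlatCx.exists_tmul_one _ w.1
  refine ⟨c, (FlatCx.tmul_one_eq_zero_iff _ _).1 ?_, ?_⟩
  · show δ.rTensor (A ⧸ maximalIdeal A ^ (max n₀ n₁ + 1)) (c ⊗ₜ[A] 1) = 0
    rw [hc]
    exact w.2
  · have h2 : (truncMap (max n₀ n₁)).lTensor C w.1 = z := congrArg Subtype.val hw
    rw [← hc, LinearMap.lTensor_tmul] at h2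
    exact h2

theorem ker_subtype_rTensor_le (x : maximalIdeal A ⊗[A] C) (n : ℕ) (ψ : maximalIdeal A →ₗ[A] ker (truncMap (A := A) n))
    (hψ : ∀ a, (ψ a).1 = Ideal.Quotient.mk _ a.1) (hx : ψ.rTensor C x = 0) :
    x ∈ maximalIdeal A ^ n • (⊤ : Submodule A (maximalIdeal A ⊗[A] C)) := by
  have hψs : Surjective ψ := by
    rintro ⟨b, hb⟩
    obtain ⟨b, rfl⟩ := Ideal.Quotient.mk_surjective b
    exact ⟨⟨b, Ideal.Quotient.eq_zero_iff_mem.1 ((truncMap_mk n b).symm.trans hb)⟩, Subtype.ext (hψ _)⟩
  obtain ⟨y, rfl⟩ := (rTensor_exact C (LinearMap.exact_subtype_ker_map ψ) hψs x).1 hx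
  have hmem : ∀ a : ker ψ, a.1 ∈ maximalIdeal A ^ n • (⊤ : Submodule A (maximalIdeal A)) := by
    rintro ⟨a, ha⟩
    have h : a.1 ∈ maximalIdeal A ^ (n + 1) :=
      Ideal.Quotient.eq_zero_iff_mem.1 ((hψ a).symm.trans (congrArg Subtype.val ha))
    have e : (maximalIdeal A ^ n • (⊤ : Submodule A (maximalIdeal A))).map (maximalIdeal A).subtype =
        maximalIdeal A ^ (n + 1) := by
      rw [Submodule.map_smul'', Submodule.map_subtype_top, smul_eq_mul, pow_succ]
    rw [← e] at h
    obtain ⟨b, hb, hba⟩ := h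
    exact (Subtype.ext hba : b = a) ▸ hb
  induction y using TensorProduct.induction_on with
  | zero => simp
  | tmul a c =>
    rw [LinearMap.rTensor_tmul]
    refine Submodule.smul_induction_on (p := fun b => b ⊗ₜ[A] c ∈ maximalIdeal A ^ n • (⊤ : Submodule A (maximalIdeal A ⊗[A] C))) (hmem a) (fun r hr b _ => ?_) (fun u v hu hv => ?_)
    · rw [← smul_tmul']
      exact Submodule.smul_mem_smul hr trivial
    · rw [add_tmul]
      exact add_mem hu hv
  | add u v hu hv =>
    rw [map_add] at hx ⊢
    exact add_mem (hu (by rw [← LinearMap.rTensor_comp_apply, LinearMap.comp_ker_subtype, LinearMap.rTensor_zero, LinearMap.zero_apply]))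
      (hv (by rw [← LinearMap.rTensor_comp_apply, LinearMap.comp_ker_subtype, LinearMap.rTensor_zero, LinearMap.zero_apply]))

include hlen in
theorem flat_ker_of_kerLen : Module.Flat A (ker δ) := by
  haveI := flat_coker_of_kerLen δ n₀ hlen
  let H := ker δ
  have hK : ∀ (M : Type u) [AddCommGroup M] [Module A M], Module.length A (H ⊗[A] M) = kerLen δ M :=
    fun M _ _ => (LinearEquiv.ofInjective _ (kerTensor_injective_range δ M).1 ≪≫ₗ
      LinearEquiv.ofEq _ _ (kerTensor_injective_range δ M).2).length_eq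
  haveI : IsSimpleModule A (A ⧸ maximalIdeal A) :=
    isSimpleModule_iff_quot_maximal.mpr ⟨_, maximalIdeal.isMaximal A, ⟨LinearEquiv.refl A _⟩⟩
  have hd := kerLen_residue_ne_top δ
  have hinj : ∀ n, n₀ ≤ n → Injective ((ker (truncMap (A := A) n)).subtype.lTensor H) := by
    intro n hn
    let g := truncMap (A := A) n
    have hfg : Exact (ker g).subtype g := g.exact_subtype_ker_map
    have hA := Module.length_eq_add_of_exact (ker g).subtype g Subtype.val_injective (truncMap_surjective n) hfg
    rw [Module.length_eq_one A (A ⧸ maximalIdeal A)] at hA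
    have hfl : IsFiniteLength A (ker g) :=
      (isFiniteLength_quot_pow (A := A) (n + 1)).of_injective (f := (ker g).subtype) Subtype.val_injective
    let f := (ker g).subtype.lTensor H
    have hexH : Exact f (g.lTensor H) := lTensor_exact _ hfg (truncMap_surjective n)
    have h1 : Module.length A (H ⊗[A] (A ⧸ maximalIdeal A ^ (n + 1))) =
        Module.length A (range f) + Module.length A (H ⊗[A] (A ⧸ maximalIdeal A)) := by
      rw [length_eq_ker_add_range (g.lTensor H), hexH.linearMap_ker_eq,
        LinearMap.range_eq_top.mpr (lTensor_surjective _ (truncMap_surjective n)), Module.length_top]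
    rw [hK, hK, hlen n hn, hA, mul_add, mul_one] at h1
    have h2 := length_eq_ker_add_range f
    rw [hK] at h2
    have h3 := kerLen_le_mul δ hfl
    have hdJ : kerLen δ (A ⧸ maximalIdeal A) * Module.length A (ker g) ≠ ⊤ :=
      WithTop.mul_ne_top hd (Module.length_ne_top_iff.mpr hfl)
    have h5 : Module.length A (range f) = kerLen δ (A ⧸ maximalIdeal A) * Module.length A (ker g) :=
      ((ENat.add_le_add_iff_right hd).mp h1.le).antisymm' ((ENat.add_le_add_iff_right hd).mp h1.ge)
    have h7 : Module.length A (ker f) + Module.length A (range f) ≤ 0 + Module.length A (range f) := by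
      rw [zero_add, ← h2, h5]
      exact h3
    have hne : Module.length A (range f) ≠ ⊤ := by rw [h5]; exact hdJ
    have h6 : Module.length A (ker f) = 0 := nonpos_iff_eq_zero.mp ((ENat.add_le_add_iff_right hne).mp h7)
    haveI := Module.length_eq_zero_iff.mp h6
    exact LinearMap.ker_eq_bot.mp Submodule.eq_bot_of_subsingleton
  haveI : Module.FinitePresentation A H := Module.finitePresentation_of_finite A _
  haveI : Module.Free A H := by
    refine Module.free_of_maximalIdeal_rTensor_injective ?_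
    rw [injective_iff_map_eq_zero]
    intro x hx
    have hbot : x ∈ (⨅ i, maximalIdeal A ^ i • (⊤ : Submodule A (maximalIdeal A ⊗[A] H))) := by
      rw [Submodule.mem_iInf]
      intro i
      refine Submodule.smul_mono (Ideal.pow_le_pow_right (le_max_right n₀ i)) le_rfl ?_
      let n := max n₀ i
      let ψ : maximalIdeal A →ₗ[A] ker (truncMap (A := A) n) :=
        LinearMap.codRestrict _ ((Ideal.Quotient.mkₐ A (maximalIdeal A ^ (n + 1))).toLinearMap ∘ₗ (maximalIdeal A).subtype)
          fun a => LinearMap.mem_ker.2 ((truncMap_mk n a.1).trans (Ideal.Quotient.eq_zero_iff_mem.2 a.2))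
      refine ker_subtype_rTensor_le (C := H) x n ψ (fun a => rfl) ?_
      have hinj' : Injective ((ker (truncMap (A := A) n)).subtype.rTensor H) :=
        (LinearMap.lTensor_inj_iff_rTensor_inj H _).1 (hinj n (le_max_left n₀ i))
      apply hinj'
      rw [map_zero, ← LinearMap.rTensor_comp_apply,
        show (ker (truncMap (A := A) n)).subtype ∘ₗ ψ =
          (Ideal.Quotient.mkₐ A (maximalIdeal A ^ (n + 1))).toLinearMap ∘ₗ (maximalIdeal A).subtype from rfl,
        LinearMap.rTensor_comp_apply, hx, map_zero]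
    rwa [Ideal.iInf_pow_smul_eq_bot_of_isLocalRing _ (maximalIdeal.isMaximal A).ne_top, Submodule.mem_bot] at hbot
  infer_instance

include hlen in
theorem flat_of_kerLen : Module.Flat A C := by
  haveI := flat_coker_of_kerLen δ n₀ hlen
  haveI := flat_ker_of_kerLen δ n₀ hlen
  exact FlatCx.flat_of_flat_ker δ

end Levels

section

open CategoryTheory AlgebraicGeometry

variable {X : Scheme.{u}} [X.Over (Spec (CommRingCat.of A))] {F : X.Modules} (Φ : Model A X F) (p : ℕ)

include Φ in
theorem exact_iff_length :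
    ((CohIII.tensorAFunctor A F ⋙ CohIII.HAb X p).PreservesMonomorphisms ∧
        (CohIII.tensorAFunctor A F ⋙ CohIII.HAb X p).PreservesEpimorphisms) ↔
      ∃ n₀ : ℕ, ∀ n : ℕ, n₀ ≤ n →
        Module.length A (Coh.HH X ((CohIII.tensorAFunctor A F).obj
            (ModuleCat.of A (A ⧸ maximalIdeal A ^ (n + 1)))) p) =
          Module.length A (Coh.HH X ((CohIII.tensorAFunctor A F).obj
              (ModuleCat.of A (ResidueField A))) p) *
            Module.length A (A ⧸ maximalIdeal A ^ (n + 1)) := by
  have hl : ∀ M : ModuleCat.{u} A, Module.length A (Coh.HH X ((CohIII.tensorAFunctor A F).obj M) p) =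
      kerLen (Φ.L.δ p) M := fun M => (hhKer Φ p M).length_eq
  rw [preservesMono_iff_flat Φ p, preservesEpi_iff_flat Φ p]
  simp only [hl]
  haveI := Φ.finite p
  haveI := Φ.finite (p + 1)
  haveI := Φ.flat (p + 1)
  constructor
  · rintro ⟨hQ, hP⟩
    haveI := hQ
    haveI : Module.Flat A (Φ.L.X (p + 1) ⧸ LinearMap.range (Φ.L.δ p)) :=
      Module.Flat.of_linearEquiv (Submodule.quotEquivOfEq _ _ (Φ.L.range_δ p))
    exact ⟨0, fun n _ => kerLen_eq_mul _ (isFiniteLength_quot_pow (n + 1))⟩
  · rintro ⟨n₀, h⟩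
    refine ⟨flat_of_kerLen (Φ.L.δ p) n₀ h, ?_⟩
    haveI := flat_coker_of_kerLen (Φ.L.δ p) n₀ h
    exact Module.Flat.of_linearEquiv (Submodule.quotEquivOfEq _ _ (Φ.L.range_δ p).symm)

end

end Groth.Agent.BCLib
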