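import Groth.Agent.BCLib.Const
import Groth.Agent.BCLib.Fibre
import Mathlib.RingTheory.LocalRing.Module

/-!
# Sections of the fibre lift when `H¹` of the fibre vanishes
-/

set_option autoImplicit false
set_option backward.isDefEq.respectTransparency false
set_option backward.defeqAttrib.useBackward true
set_option linter.style.haveILetI false

universe u

open CategoryTheory CategoryTheory.Limits AlgebraicGeometry TopologicalSpace Opposite TensorProduct
open Groth.Agent.CohBase Groth.Agent.ProjCoh Groth.Agent.FormalLib Groth.Agent.PullbackMod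

noncomputable section

namespace Groth.Agent.BCLib

section Algebra

variable {A : Type u} [CommRing A] (x : PrimeSpectrum A)

local notation "Aₓ" => Localization.AtPrime x.asIdeal
local notation "Kₓ" => x.asIdeal.ResidueField

/-- Reduction from the local ring to the residue field. -/
def redK (M : Type u) [AddCommGroup M] [Module A M] : Aₓ ⊗[A] M →ₗ[A] Kₓ ⊗[A] M :=
  ((IsScalarTower.toAlgHom A Aₓ Kₓ).toLinearMap).rTensor M

theorem redK_surjective (M : Type u) [AddCommGroup M] [Module A M] : Function.Surjective (redK x M) :=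
  LinearMap.rTensor_surjective M IsLocalRing.residue_surjective

theorem redK_natural {M N : Type u} [AddCommGroup M] [Module A M] [AddCommGroup N] [Module A N] (f : M →ₗ[A] N)
    (w : Aₓ ⊗[A] M) : redK x N (f.baseChange Aₓ w) = f.baseChange Kₓ (redK x M w) := by
  induction w using TensorProduct.induction_on with
  | zero => simp
  | tmul r m => simp [redK]
  | add a b ha hb => simp only [map_add, ha, hb]

theorem redK_smul {M : Type u} [AddCommGroup M] [Module A M] (r : Aₓ) (w : Aₓ ⊗[A] M) :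
    redK x M (r • w) = algebraMap Aₓ Kₓ r • redK x M w := by
  induction w using TensorProduct.induction_on with
  | zero => simp
  | tmul t m => simp [redK, TensorProduct.smul_tmul', smul_eq_mul]
  | add a b ha hb => simp only [smul_add, map_add, ha, hb]

theorem redK_eq {M : Type u} [AddCommGroup M] [Module A M] (c : Aₓ ⊗[A] M) :
    AlgebraTensorModule.cancelBaseChange A Aₓ Kₓ Kₓ M ((1 : Kₓ) ⊗ₜ[Aₓ] c) = redK x M c := by
  induction c using TensorProduct.induction_on with
  | zero => simp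
  | tmul r m => simp [redK, Algebra.smul_def]
  | add a b ha hb => simp only [tmul_add, map_add, ha, hb]

theorem redK_eq_zero_iff {M : Type u} [AddCommGroup M] [Module A M] (c : Aₓ ⊗[A] M) :
    redK x M c = 0 ↔ c ∈ IsLocalRing.maximalIdeal Aₓ • (⊤ : Submodule Aₓ (Aₓ ⊗[A] M)) := by
  constructor
  · intro h
    have h1 : (1 : Kₓ) ⊗ₜ[Aₓ] c = 0 := by
      apply (AlgebraTensorModule.cancelBaseChange A Aₓ Kₓ Kₓ M).injective
      rw [map_zero, ← h]
      exact redK_eq x c
    have h2 := congrArg (TensorProduct.quotTensorEquivQuotSMul (Aₓ ⊗[A] M) (IsLocalRing.maximalIdeal Aₓ)) h1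
    rw [map_zero] at h2
    refine (Submodule.Quotient.mk_eq_zero _).1 (Eq.trans ?_ h2)
    exact ((TensorProduct.quotTensorEquivQuotSMul_mk_tmul _ _ _).trans
      (by rw [one_smul])).symm
  · intro h
    refine Submodule.smul_induction_on h (fun r hr m _ => ?_) fun a b ha hb => by rw [map_add, ha, hb, add_zero]
    rw [redK_smul, show algebraMap Aₓ Kₓ r = 0 from (IsLocalRing.residue_eq_zero_iff r).2 hr, zero_smul]

theorem exists_cycle_lift (L : Cx A) (hfin : ∀ n, Module.Finite A (L.X n)) (hflat : ∀ n, Module.Flat A (L.X n))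
    [IsNoetherianRing A] (h : FlatCx.kdim (L.δ 1) Kₓ = 0) (z : Kₓ ⊗[A] L.X 0)
    (hz : (L.d 0).baseChange Kₓ z = 0) :
    ∃ (c : Kₓ) (l : L.X 0), c ≠ 0 ∧ L.d 0 l = 0 ∧ c • z = (1 : Kₓ) ⊗ₜ[A] l := by
  haveI := hfin 0
  haveI := hfin 1
  haveI := hfin 2
  haveI := hflat 2
  haveI : Module.FinitePresentation A (L.X 2) := Module.finitePresentation_of_finite A _
  haveI : Module.Free Aₓ (Aₓ ⊗[A] L.X 2) := Module.free_of_flat_of_isLocalRing
  obtain ⟨r₂, hr₂⟩ := (IsLocalRing.split_injective_iff_lTensor_residueField_injective ((L.δ 1).baseChange Aₓ)).2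
    (lTensor_residueField_baseChange_injective (L.δ 1) x h)
  haveI : Module.Projective Aₓ (Aₓ ⊗[A] (L.X 1 ⧸ L.bd 1)) := Module.Projective.of_split _ r₂ hr₂
  let q := (L.bd 1).mkQ.baseChange Aₓ
  let D := (L.d 0).baseChange Aₓ
  have hqs : Function.Surjective q := by
    show Function.Surjective ((L.bd 1).mkQ.baseChange Aₓ)
    rw [LinearMap.baseChange_eq_ltensor]
    exact LinearMap.lTensor_surjective Aₓ (Submodule.mkQ_surjective _)
  have hqD : LinearMap.ker q = LinearMap.range D := by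
    have h1 := lTensor_exact Aₓ (f := L.d 0) (g := (L.bd 1).mkQ)
      (LinearMap.exact_map_mkQ_range _) (Submodule.mkQ_surjective _)
    exact Submodule.ext fun v => h1 v
  obtain ⟨σ, hσ⟩ := Module.projective_lifting_property q LinearMap.id hqs
  let r : Aₓ ⊗[A] L.X 1 →ₗ[Aₓ] LinearMap.range D :=
    LinearMap.codRestrict _ (LinearMap.id - σ ∘ₗ q) fun v => by
      rw [← hqD, LinearMap.mem_ker]
      show q (v - σ (q v)) = 0
      rw [map_sub, show q (σ (q v)) = q v from LinearMap.congr_fun hσ (q v), sub_self]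
  have hr : ∀ v, r (D v) = D.rangeRestrict v := fun v => by
    apply Subtype.ext
    show D v - σ (q (D v)) = D v
    rw [show q (D v) = 0 from LinearMap.mem_ker.1 (hqD.symm ▸ LinearMap.mem_range_self D v), map_zero, sub_zero]
  obtain ⟨w₀, rfl⟩ := redK_surjective x _ z
  have h0 : D w₀ ∈ IsLocalRing.maximalIdeal Aₓ • (⊤ : Submodule Aₓ (Aₓ ⊗[A] L.X 1)) :=
    (redK_eq_zero_iff x _).1 ((redK_natural x _ w₀).trans hz)
  have h1 : D.rangeRestrict w₀ ∈ IsLocalRing.maximalIdeal Aₓ • (⊤ : Submodule Aₓ (LinearMap.range D)) := by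
    rw [← hr]
    have := Submodule.mem_map_of_mem (f := r) h0
    rw [Submodule.map_smul''] at this
    exact Submodule.smul_mono le_rfl le_top this
  have h1' : D.rangeRestrict w₀ ∈ Submodule.map D.rangeRestrict
      (IsLocalRing.maximalIdeal Aₓ • (⊤ : Submodule Aₓ (Aₓ ⊗[A] L.X 0))) := by
    rw [Submodule.map_smul'', Submodule.map_top, LinearMap.range_eq_top.2 D.surjective_rangeRestrict]
    exact h1
  obtain ⟨e, he, hew⟩ := h1'
  have hDw : D (w₀ - e) = 0 := by
    rw [map_sub, show D e = D w₀ from congrArg Subtype.val hew, sub_self]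
  haveI : IsLocalizedModule x.asIdeal.primeCompl (TensorProduct.mk A Aₓ (L.X 0) 1) :=
    (isLocalizedModule_iff_isBaseChange x.asIdeal.primeCompl Aₓ _).2 (TensorProduct.isBaseChange A (L.X 0) Aₓ)
  haveI : IsLocalizedModule x.asIdeal.primeCompl (TensorProduct.mk A Aₓ (L.X 1) 1) :=
    (isLocalizedModule_iff_isBaseChange x.asIdeal.primeCompl Aₓ _).2 (TensorProduct.isBaseChange A (L.X 1) Aₓ)
  obtain ⟨⟨l, ⟨s, hs⟩⟩, hl⟩ := IsLocalizedModule.surj x.asIdeal.primeCompl (TensorProduct.mk A Aₓ (L.X 0) 1) (w₀ - e)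
  replace hl : s • (w₀ - e) = (1 : Aₓ) ⊗ₜ[A] l := hl
  have hdl : (1 : Aₓ) ⊗ₜ[A] L.d 0 l = 0 := by
    have := congrArg D hl
    rw [LinearMap.map_smul_of_tower, hDw, smul_zero] at this
    exact this.symm
  obtain ⟨⟨s', hs'⟩, hs'l⟩ :=
    (IsLocalizedModule.eq_zero_iff x.asIdeal.primeCompl (TensorProduct.mk A Aₓ (L.X 1) 1) (m := L.d 0 l)).1 hdl
  replace hs'l : s' • L.d 0 l = 0 := hs'l
  refine ⟨algebraMap A Kₓ (s' * s), s' • l, ?_, by rw [map_smul, hs'l], ?_⟩
  · rw [Ne, Ideal.algebraMap_residueField_eq_zero]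
    exact fun hh => (x.isPrime.mem_or_mem hh).elim hs' hs
  · rw [algebraMap_smul, mul_smul, tmul_smul]
    refine congrArg (s' • ·) ?_
    have hre : redK x _ e = 0 := (redK_eq_zero_iff x e).2 he
    have h2 := congrArg (redK x _) hl
    rw [map_smul, map_sub, hre, sub_zero] at h2
    refine h2.trans ?_
    simp [redK]

end Algebra

/-- When `H¹` of the fibre vanishes, sections of the fibre lift up to a nonzero scalar of the residue field. -/
theorem exists_lift_fibre' {R : CommRingCat.{u}} [IsNoetherianRing R] {X : Scheme.{u}}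
    [X.Over (Spec (CommRingCat.of R))] [IsProper (str R X)] {F : X.Modules} (hF : Coh.IsCoh F)
    (hfl : FlatMod.IsFlatOver (str R X) F) (x : Spec R) (h1 : CohIII.fiberRank (str R X) F 1 x = 0)
    (σ : Γ((Scheme.Modules.pullback ((str R X).fiberι x)).obj F, ⊤)) :
    letI : ((str R X).fiber x).Over (Spec (CommRingCat.of ((Spec R).residueField x))) :=
      ⟨(str R X).fiberToSpecResidueField x⟩
    ∃ (s : Γ(F, ⊤)) (k : (Spec R).residueField x), k ≠ 0 ∧
      pullMap ((str R X).fiberι x) F (W := ⊤) (W' := ⊤) le_top s =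
        (secHom (str ((Spec R).residueField x) ((str R X).fiber x)) ⊤).hom k • σ := by
  haveI hq : Coh.IsQCoh F := hF.1
  obtain ⟨ι, hι, V, hcov, haff, L, ψ, hfin, hflat, -, -, hψ⟩ := exists_cover_bij (A := R) hF hfl
  let K := (Spec R).residueField x
  let φ : R ⟶ K :=
    CommRingCat.ofHom (algebraMap R x.asIdeal.ResidueField) ≫ (Scheme.Spec.residueFieldIso R x).inv
  letI : ((str R X).fiber x).Over (Spec (CommRingCat.of K)) := ⟨(str R X).fiberToSpecResidueField x⟩
  let g' := (str R X).fiberι x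
  have hc : IsPullback g' (str K ((str R X).fiber x)) (str R X) (Spec.map φ) := by
    rw [fromSpecResidueField_eq]
    exact IsPullback.of_hasPullback _ _
  letI := φ.hom.toAlgebra
  have hkdim : FlatCx.kdim (L.δ 1) x.asIdeal.ResidueField = 0 :=
    (fiberRank_eq_kdim_aux (R := R) V F hcov haff ψ hψ hfin 1 x).1.symm.trans h1
  let e : x.asIdeal.ResidueField ≃ₐ[R] K :=
    AlgEquiv.ofRingEquiv (f := (Scheme.Spec.residueFieldIso R x).symm.commRingCatIsoToRingEquiv) fun _ => rfl
  let G' := (Scheme.Modules.pullback g').obj F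
  let V' := ProperFin.preCov g' V
  have hcov' : (⊤ : ((str R X).fiber x).Opens) ≤ iSup V' := fun y _ => by
    obtain ⟨b, hb⟩ := Opens.mem_iSup.1 (hcov (show g' y ∈ (⊤ : X.Opens) from trivial))
    exact Opens.mem_iSup.2 ⟨b, hb⟩
  letI := Module.compHom (Coch (str K ((str R X).fiber x)) G' V' 0) φ.hom
  haveI : IsScalarTower R K (Coch (str K ((str R X).fiber x)) G' V' 0) := .of_algebraMap_smul fun _ _ => rfl
  letI := Module.compHom (Coch (str K ((str R X).fiber x)) G' V' 1) φ.hom
  haveI : IsScalarTower R K (Coch (str K ((str R X).fiber x)) G' V' 1) := .of_algebraMap_smul fun _ _ => rfl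
  let e₀ : ∀ n, (cechCx R V F).X n ≃ₗ[R] Coch (str R X) F V n :=
    fun n => cochEquiv V (tensorASelfIso R F) n
  have he₀ : ∀ n y, dL (str R X) F V n (e₀ n y) = e₀ (n + 1) ((cechCx R V F).d n y) := fun n y => dL_cochMap V _ n y
  let Θ₀ := (e₀ 0).baseChange R K ≪≫ₗ (isBaseChange_pullCoch g' φ hc V F haff 0).equiv
  let Θ₁ := (e₀ 1).baseChange R K ≪≫ₗ (isBaseChange_pullCoch g' φ hc V F haff 1).equiv
  have hΘ : ∀ z, dL (str K ((str R X).fiber x)) G' V' 0 (Θ₀ z) = Θ₁ (((cechCx R V F).d 0).baseChange K z) := fun z => by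
    induction z using TensorProduct.induction_on with
    | zero => simp only [map_zero]
    | tmul b c =>
      simp only [Θ₀, Θ₁, LinearEquiv.trans_apply, LinearMap.baseChange_tmul, LinearEquiv.baseChange_tmul]
      refine (congrArg _ (IsBaseChange.equiv_tmul (isBaseChange_pullCoch g' φ hc V F haff 0) b (e₀ 0 c))).trans ?_
      refine Eq.trans ?_ (IsBaseChange.equiv_tmul (isBaseChange_pullCoch g' φ hc V F haff 1) b _).symm
      exact (map_smul (dL (str K ((str R X).fiber x)) G' V' 0) b _).trans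
        (congrArg (b • ·) ((dL_pullCoch g' φ hc V F 0 _).trans (congrArg _ (he₀ 0 c))))
    | add a b ha hb => simp only [map_add, ha, hb]
  let c' : Coch (str K ((str R X).fiber x)) G' V' 0 := aug V' (Coh.toAb G').obj (fun _ => le_top) σ
  have hc' : dL (str K ((str R X).fiber x)) G' V' 0 c' = 0 := (dL_eq _ _ _ _ _).trans (cdiff_aug _ _ _)
  have hzK : Θ₀.symm c' ∈ (cechCx R V F).zBC K 0 := LinearMap.mem_ker.2 (Θ₁.injective
    ((hΘ _).symm.trans ((congrArg _ (Θ₀.apply_symm_apply c')).trans (hc'.trans (map_zero _).symm))))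
  obtain ⟨zL, hzL, hzL'⟩ := (ψ.bijBC K (hψ K) 0).1 _ hzK
  have hzL'' : (ψ.f 0).baseChange K zL = Θ₀.symm c' := (sub_eq_zero.1 ((Submodule.mem_bot K).1 hzL')).symm
  let E : ∀ n, K ⊗[R] L.X n ≃ₗ[R] x.asIdeal.ResidueField ⊗[R] L.X n :=
    fun n => TensorProduct.congr e.symm.toLinearEquiv (LinearEquiv.refl R _)
  have hE : ∀ w, (L.d 0).baseChange x.asIdeal.ResidueField (E 0 w) = E 1 ((L.d 0).baseChange K w) := fun w => by
    induction w using TensorProduct.induction_on with
    | zero => simp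
    | tmul b c => rfl
    | add a b ha hb => simp only [map_add, ha, hb]
  obtain ⟨cK, l, hcK, hdl, hcl⟩ := exists_cycle_lift x L hfin hflat hkdim (E 0 zL)
    ((hE zL).trans ((congrArg (E 1) (LinearMap.mem_ker.1 hzL)).trans (map_zero _)))
  have hEs : ∀ (b : x.asIdeal.ResidueField) w, E 0 (e b • w) = b • E 0 w := fun b w => by
    induction w using TensorProduct.induction_on with
    | zero => simp
    | tmul a c =>
      show e.symm (e b * a) ⊗ₜ[R] c = (b * e.symm a) ⊗ₜ[R] c
      rw [map_mul, e.symm_apply_apply]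
    | add a c ha hc => simp only [smul_add, map_add, ha, hc]
  have hcl' : e cK • zL = (1 : K) ⊗ₜ[R] l := (E 0).injective ((hEs cK zL).trans (hcl.trans (by
    show _ = e.symm 1 ⊗ₜ[R] l
    rw [map_one])))
  let k₀ : Coch (str R X) F V 0 := e₀ 0 (ψ.f 0 l)
  have hk₀ : cdiff V (Coh.toAb F).obj 0 k₀ = 0 := by
    rw [← dL_eq (p := str R X) (M := F), he₀ 0, ψ.comm_apply 0 l, hdl, map_zero, map_zero]
  obtain ⟨s, hs⟩ := aug_exact (Coh.toAb F) (V := ⊤) (fun _ => le_top) hcov k₀ hk₀
  refine ⟨s, e cK, (map_ne_zero_iff e e.injective).2 hcK, ?_⟩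
  refine aug_injective (Coh.toAb G') (U := V') (fun _ => le_top) hcov' (funext fun i => ?_)
  have h2 : Θ₀ (e cK • Θ₀.symm c') = pullCoch g' φ hc V F 0 k₀ := by
    rw [← hzL'', ← map_smul, hcl', LinearMap.baseChange_tmul]
    simp only [Θ₀, LinearEquiv.trans_apply, LinearEquiv.baseChange_tmul]
    exact (IsBaseChange.equiv_tmul _ _ _).trans (one_smul _ _)
  rw [map_smul, LinearEquiv.apply_symm_apply] at h2
  refine Eq.trans ?_ ((congrFun h2.symm i).trans ?_)
  · show res _ _ (pullMap g' F _ s) = pullMap g' F _ (k₀ i)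
    rw [← hs]
    exact pullMap_res g' F _ _ _ _ _
  · show (e cK • c' i : Sec _ G' (inter V' i)) = res _ _ ((secHom (str K ((str R X).fiber x)) ⊤).hom (e cK) • σ)
    refine Eq.trans ?_ (G'.map_smul _ _ _).symm
    refine Eq.trans ?_ (congrArg (· • _) (res_φV (Coh.toGlobal (A := K) ((str R X).fiberToSpecResidueField x)) _ (e cK)).symm)
    rfl

/-- When `H¹` of the fibre vanishes, sections of the fibre lift up to a unit. -/
theorem exists_lift_fibre {R : CommRingCat.{u}} [IsNoetherianRing R] {X : Scheme.{u}}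
    [X.Over (Spec (CommRingCat.of R))] [IsProper (str R X)] {F : X.Modules} (hF : Coh.IsCoh F)
    (hfl : FlatMod.IsFlatOver (str R X) F) (x : Spec R) (h1 : CohIII.fiberRank (str R X) F 1 x = 0)
    (σ : Γ((Scheme.Modules.pullback ((str R X).fiberι x)).obj F, ⊤)) :
    ∃ (s : Γ(F, ⊤)) (c : Γ((str R X).fiber x, ⊤)), IsUnit c ∧
      pullMap ((str R X).fiberι x) F (W := ⊤) (W' := ⊤) le_top s = c • σ := by
  obtain ⟨s, k, hk, hs⟩ := exists_lift_fibre' hF hfl x h1 σ
  exact ⟨s, _, hk.isUnit.map _, hs⟩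

end Groth.Agent.BCLib
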