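import Groth.Agent.BCLib.Cech

/-!
# A finite complex computing `M ↦ H^p(X, F ⊗ f^* M~)`
-/

set_option autoImplicit false
set_option backward.isDefEq.respectTransparency false
set_option backward.defeqAttrib.useBackward true

universe u

open CategoryTheory CategoryTheory.Limits AlgebraicGeometry TopologicalSpace Opposite TensorProduct
open Groth.Agent.CohBase Groth.Agent.ProjCoh Groth.Agent.FormalLib

noncomputable section

namespace Groth.Agent.BCLib

namespace CxHom

variable {A : Type u} [CommRing A] {L K : Cx A} (φ : CxHom L K) {M N : Type u} [AddCommGroup M] [Module A M]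
  [AddCommGroup N] [Module A N]

theorem mapsTo_Z (n : ℕ) {z : L.X n ⊗[A] M} (hz : z ∈ L.Z M n) : (φ.f n).rTensor M z ∈ K.Z M n := by
  rw [LinearMap.mem_ker, φ.comm_rTensor, show L.dT M n z = 0 from hz, map_zero]

/-- The map on cocycles. -/
def zMap (M : Type u) [AddCommGroup M] [Module A M] (n : ℕ) : L.Z M n →ₗ[A] K.Z M n :=
  ((φ.f n).rTensor M).restrict fun _ hz => φ.mapsTo_Z n hz

theorem mapsTo_B : ∀ (n : ℕ) {z : L.X n ⊗[A] M}, z ∈ L.B M n → (φ.f n).rTensor M z ∈ K.B M n
  | 0, z, hz => by rw [show z = 0 from hz, map_zero]; exact zero_mem _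
  | n + 1, _, ⟨w, rfl⟩ => ⟨(φ.f n).rTensor M w, φ.comm_rTensor M n w⟩

end CxHom

variable (A : Type u) [CommRing A] (X : Scheme.{u}) [X.Over (Spec (CommRingCat.of A))] (F : X.Modules)

/-- A finite complex of finite flat modules computing `M ↦ H^p(X, F ⊗ f^* M~)` functorially. -/
structure Model where
  /-- The complex. -/
  L : Cx A
  finite : ∀ n, Module.Finite A (L.X n)
  flat : ∀ n, Module.Flat A (L.X n)
  bounded : ∃ N, ∀ n, N < n → Subsingleton (L.X n)
  free : ∀ n, Module.Free A (L.X (n + 1))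
  /-- The class of a cocycle. -/
  ev : ∀ (M : ModuleCat.{u} A) (q : ℕ), L.Z M q →ₗ[A] Coh.HH X (tA A F M) q
  ev_surjective : ∀ (M : ModuleCat.{u} A) (q : ℕ), Function.Surjective (ev M q)
  ev_eq_zero_iff : ∀ (M : ModuleCat.{u} A) (q : ℕ) (z : L.Z M q), ev M q z = 0 ↔ z.1 ∈ L.B M q
  ev_natural : ∀ {M N : ModuleCat.{u} A} (g : M ⟶ N) (q : ℕ) (z : L.Z M q) (z' : L.Z N q),
    z'.1 = g.hom.lTensor _ z.1 →
      Sheaf.H.map ((SheafOfModules.toSheaf X.ringCatSheaf).map ((CohIII.tensorAFunctor A F).map g)) q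
        (ev M q z) = ev N q z'

variable {A X F}

/-- Existence of the finite complex. -/
theorem nonempty_model [IsNoetherianRing A] [IsProper (X ↘ Spec (CommRingCat.of A))]
    (hF : Coh.IsCoh F) (hfl : FlatMod.IsFlatOver (X ↘ Spec (CommRingCat.of A)) F) :
    Nonempty (Model A X F) := by
  haveI hq : Coh.IsQCoh F := hF.1
  obtain ⟨ι, hι, V, hcov, haff⟩ := exists_affine_cover (X ↘ Spec (CommRingCat.of A))
  let K := cechCx A V F
  haveI : ∀ n, Module.Flat A (K.X n) := flat_cechCx_X V F haff hfl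
  let Bd : ∀ n, Submodule A (K.X n) := fun n => match n with | 0 => ⊥ | m + 1 => LinearMap.range (K.d m)
  have hB0 : ∀ (n : ℕ) (y : K.X n), y ⊗ₜ[A] (1 : A) ∈ K.B A n →
      y ∈ Bd n := by
    intro n y hy
    cases n with
    | zero =>
      have h := congrArg (TensorProduct.rid A (K.X 0)) ((Submodule.mem_bot A).1 hy)
      rw [TensorProduct.rid_tmul, one_smul, map_zero] at h
      exact (Submodule.mem_bot A).2 h
    | succ m =>
      obtain ⟨w, hw⟩ := hy
      refine ⟨TensorProduct.rid A _ w, ?_⟩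
      have h : ∀ w, K.d m (TensorProduct.rid A _ w) = TensorProduct.rid A _ (K.dT A m w) := fun w => by
        induction w using TensorProduct.induction_on with
        | zero => simp
        | tmul x c => simp [Cx.dT]
        | add u v hu hv => simp only [map_add, hu, hv]
      rw [h, hw, TensorProduct.rid_tmul, one_smul]
  have hgen : ∀ n, ∃ (a : ℕ) (s : Fin a → K.X n), (∀ i, K.d n (s i) = 0) ∧ LinearMap.ker (K.d n) ≤
      Submodule.span A (Set.range s) ⊔ Bd n := by
    intro n
    obtain ⟨a, s, hs, hs'⟩ := exists_gens_cechCx (A := A) V F haff hcov hF n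
    refine ⟨a, s, hs, fun z hz => ?_⟩
    obtain ⟨c, hc⟩ := hs' z hz
    rw [show z = Fintype.linearCombination A s c + (z - Fintype.linearCombination A s c) by abel]
    refine add_mem (Submodule.mem_sup_left ?_) (Submodule.mem_sup_right (hB0 n _ hc))
    rw [← Fintype.range_linearCombination]
    exact ⟨c, rfl⟩
  obtain ⟨a, s, hs, hs'⟩ := hgen 0
  obtain ⟨L, φ, hfin, hflat, hbd, hfree, hbij⟩ := exists_model K ⟨a, s, hs, hs'.trans (sup_le le_rfl bot_le)⟩
    (fun n => hgen (n + 1)) (Nat.card ι) (fun n hn => exact'_cechCx V F haff n (by omega))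
  refine ⟨⟨L, hfin, hflat, ⟨_, hbd⟩, hfree, fun M q => cl V F haff hcov M q ∘ₗ φ.zMap M q, fun M q x => ?_,
    fun M q z => ?_, fun {M N} g q z z' h => ?_⟩⟩
  · obtain ⟨⟨z, hz⟩, rfl⟩ := cl_surjective V F haff hcov M q x
    obtain ⟨l, hl, hzl⟩ := (hbij M q).1 z hz
    refine ⟨⟨l, hl⟩, Eq.symm (sub_eq_zero.1 ?_)⟩
    rw [LinearMap.comp_apply, ← map_sub]
    exact (cl_eq_zero_iff V F haff hcov M q _).2 hzl
  · refine (cl_eq_zero_iff V F haff hcov M q _).trans ⟨fun h => (hbij M q).2 z.1 z.2 h, fun h => ?_⟩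
    exact φ.mapsTo_B q h
  · refine cl_natural V F haff hcov g q _ _ ?_
    show (φ.f q).rTensor N z'.1 = g.hom.lTensor _ ((φ.f q).rTensor M z.1)
    rw [h, ← LinearMap.comp_apply, ← LinearMap.comp_apply, LinearMap.lTensor_comp_rTensor,
      LinearMap.rTensor_comp_lTensor]

end Groth.Agent.BCLib
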