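import Groth.Agent.BCLib.TensorFun
import Groth.Agent.BCLib.Ker
import Groth.Agent.BCLib.Fibre
import Groth.Agent.BCLib.Const
import Groth.Agent.FormalLib.ModPow

/-!
# `F / J F` as `F ⊗ f^* (A/J)~` and surjectivity under fibre vanishing
-/

set_option autoImplicit false
set_option backward.isDefEq.respectTransparency false
set_option backward.defeqAttrib.useBackward true

universe u

open CategoryTheory CategoryTheory.Limits AlgebraicGeometry TensorProduct
open Groth.Agent.CohBase Groth.Agent.ProjCoh Groth.Agent.FormalLib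

noncomputable section

namespace Groth.Agent.BCLib

variable {A : Type u} [CommRing A] {X : Scheme.{u}} [X.Over (Spec (CommRingCat.of A))] (F : X.Modules)

/-- The quotient map `A → A/J`. -/
abbrev quotMap (J : Ideal A) : ModuleCat.of A A ⟶ ModuleCat.of A (A ⧸ J) :=
  ModuleCat.ofHom (Ideal.Quotient.mkₐ A J).toLinearMap

theorem smul_id_comp_quotMap (J : Ideal A) (a : J) : (a.1 • 𝟙 (ModuleCat.of A A)) ≫ quotMap J = 0 := by
  refine ModuleCat.hom_ext (LinearMap.ext fun x => ?_)
  show Ideal.Quotient.mk J (a.1 • x) = 0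
  exact Ideal.Quotient.eq_zero_iff_mem.2 (J.mul_mem_right x a.2)

/-- The family of multiplications by the elements of an ideal. -/
abbrev mulFam (J : Ideal A) : (∐ fun _ : J => ModuleCat.of A A) ⟶ ModuleCat.of A A :=
  Sigma.desc fun a => a.1 • 𝟙 (ModuleCat.of A A)

theorem mulFam_quotMap (J : Ideal A) : mulFam J ≫ quotMap J = 0 := by
  refine Sigma.hom_ext _ _ fun a => ?_
  rw [Sigma.ι_desc_assoc, comp_zero]
  exact smul_id_comp_quotMap J a

/-- `A/J` is the cokernel of the multiplications. -/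
def isColimitQuot (J : Ideal A) : IsColimit (CokernelCofork.ofπ (quotMap J) (mulFam_quotMap J)) :=
  haveI : Epi (quotMap J) := (ModuleCat.epi_iff_surjective _).2 Ideal.Quotient.mk_surjective
  (show (ShortComplex.mk (mulFam J) (quotMap J) (mulFam_quotMap J)).Exact from
    (ShortComplex.moduleCat_exact_iff _).2 fun x hx =>
      ⟨(Sigma.ι (fun _ : J => ModuleCat.of A A) ⟨x, Ideal.Quotient.eq_zero_iff_mem.1 hx⟩).hom (1 : A), by
        show (Sigma.ι (fun _ : J => ModuleCat.of A A) ⟨x, Ideal.Quotient.eq_zero_iff_mem.1 hx⟩ ≫ mulFam J).hom (1 : A) = x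
        rw [Sigma.ι_desc]
        exact mul_one x⟩).gIsCokernel

theorem tensorA_mulFam (J : Ideal A) (a : J) :
    (CohIII.tensorAFunctor A F).map (a.1 • 𝟙 (ModuleCat.of A A)) ≫ (tensorASelfIso A F).hom =
      (tensorASelfIso A F).hom ≫ Formal.smulMod A F a.1 :=
  (congrArg (· ≫ (tensorASelfIso A F).hom) (tensorAFunctor_map_smul_id F (ModuleCat.of A A) a.1)).trans
    (smulMod_natural (tensorASelfIso A F).hom a.1)

theorem exists_iso_cokernel {C D : Type*} [Category C] [Category D] [HasZeroMorphisms C] [HasZeroMorphisms D]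
    {ι : Type*} (G : C ⥤ D) [G.PreservesZeroMorphisms] {P Q : C} {F : D} (e : G.obj P ≅ F)
    [HasCoproduct fun _ : ι => P] [HasCoproduct fun _ : ι => F]
    [PreservesColimit (Discrete.functor fun _ : ι => P) G] (m : ι → (P ⟶ P)) (sm : ι → (F ⟶ F))
    (hsm : ∀ a, G.map (m a) ≫ e.hom = e.hom ≫ sm a) (q : P ⟶ Q) (w : Sigma.desc m ≫ q = 0)
    (hQ : IsColimit (CokernelCofork.ofπ q w)) [PreservesColimit (parallelPair (Sigma.desc m) 0) G]
    [HasCokernel (Sigma.desc sm)] :
    ∃ h : cokernel (Sigma.desc sm) ≅ G.obj Q, cokernel.π (Sigma.desc sm) ≫ h.hom = e.inv ≫ G.map q := by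
  have h0 : Sigma.desc sm ≫ e.inv ≫ G.map q = 0 := by
    refine Sigma.hom_ext _ _ fun a => ?_
    have hcomm : sm a ≫ e.inv = e.inv ≫ G.map (m a) := by
      rw [Iso.eq_inv_comp, ← Category.assoc, ← hsm, Category.assoc, Iso.hom_inv_id, Category.comp_id]
    rw [Sigma.ι_desc_assoc, ← Category.assoc, hcomm, Category.assoc, ← G.map_comp,
      show m a ≫ q = 0 by rw [← Sigma.ι_desc m a, Category.assoc, w, comp_zero], G.map_zero, comp_zero, comp_zero]
  let hc := isColimitCoforkMapOfIsColimit' G w hQ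
  have h1 : G.map (Sigma.desc m) ≫ e.hom ≫ cokernel.π (Sigma.desc sm) = 0 := by
    refine (isColimitOfPreserves G (coproductIsCoproduct fun _ : ι => P)).hom_ext fun a => ?_
    show G.map (Sigma.ι (fun _ : ι => P) a.as) ≫ G.map (Sigma.desc m) ≫ e.hom ≫ cokernel.π (Sigma.desc sm) =
      G.map (Sigma.ι (fun _ : ι => P) a.as) ≫ 0
    rw [← Category.assoc, ← G.map_comp, Sigma.ι_desc, ← Category.assoc, hsm, comp_zero, Category.assoc,
      ← Sigma.ι_desc sm a.as, Category.assoc, cokernel.condition, comp_zero, comp_zero]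
  let f : cokernel (Sigma.desc sm) ⟶ G.obj Q := cokernel.desc _ (e.inv ≫ G.map q) h0
  let g : G.obj Q ⟶ cokernel (Sigma.desc sm) :=
    hc.desc (CokernelCofork.ofπ (e.hom ≫ cokernel.π (Sigma.desc sm)) h1)
  have hg : G.map q ≫ g = e.hom ≫ cokernel.π (Sigma.desc sm) := hc.fac _ WalkingParallelPair.one
  have hf : cokernel.π (Sigma.desc sm) ≫ f = e.inv ≫ G.map q := cokernel.π_desc _ _ _
  refine ⟨⟨f, g, ?_, ?_⟩, hf⟩
  · apply coequalizer.hom_ext
    show cokernel.π (Sigma.desc sm) ≫ f ≫ g = cokernel.π (Sigma.desc sm) ≫ 𝟙 _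
    rw [← Category.assoc, hf, Category.assoc, hg, Iso.inv_hom_id_assoc, Category.comp_id]
  · apply Cofork.IsColimit.hom_ext hc
    show G.map q ≫ g ≫ f = G.map q ≫ 𝟙 _
    rw [← Category.assoc, hg, Category.assoc, hf, Iso.hom_inv_id_assoc, Category.comp_id]

theorem exists_iso_modPow (I : Ideal A) (n : ℕ) :
    ∃ h : Formal.modPow I n F ≅ (CohIII.tensorAFunctor A F).obj (ModuleCat.of A (A ⧸ I ^ n)),
      Formal.modPowπ I n F ≫ h.hom =
        (tensorASelfIso A F).inv ≫ (CohIII.tensorAFunctor A F).map (quotMap (I ^ n)) := by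
  haveI : PreservesColimitsOfSize.{0, 0} (CohIII.tensorAFunctor A F) :=
    preservesColimitsOfSize_shrink.{0, u, 0, u} _
  exact exists_iso_cokernel (CohIII.tensorAFunctor A F) (tensorASelfIso A F)
    (fun a : ↥(I ^ n) => a.1 • 𝟙 (ModuleCat.of A A)) (fun a => Formal.smulMod A F a.1)
    (tensorA_mulFam F (I ^ n)) (quotMap (I ^ n)) (mulFam_quotMap (I ^ n)) (isColimitQuot (I ^ n))

/-- Fibre vanishing in degree `n + 1` gives surjectivity onto the truncations. -/
theorem toHHmodPow_surjective [IsNoetherianRing A] [IsLocalRing A] [IsProper (X ↘ Spec (CommRingCat.of A))]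
    (hF : Coh.IsCoh F) (hfl : FlatMod.IsFlatOver (X ↘ Spec (CommRingCat.of A)) F) (n : ℕ)
    (hvan : Subsingleton (CohIII.fiberH (X ↘ Spec (CommRingCat.of A)) F (IsLocalRing.closedPoint A) (n + 1)))
    (I : Ideal A) (p : ℕ) : Function.Surjective (Formal.toHHmodPow I F n p) := by
  obtain ⟨Φ⟩ := nonempty_fibModel hF hfl
  haveI := Φ.finite; haveI := Φ.flat
  haveI : ∀ m, Module.FinitePresentation A (Φ.L.X m) := fun m => Module.finitePresentation_of_finite A _
  have hc : FlatCx.kdim (Φ.L.δ (n + 1)) (IsLocalRing.closedPoint A).asIdeal.ResidueField = 0 := by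
    haveI := hvan
    exact (Φ.fiberRank_eq (n + 1) (IsLocalRing.closedPoint A)).symm.trans Module.finrank_zero_of_subsingleton
  have hall : ∀ x : PrimeSpectrum A, FlatCx.kdim (Φ.L.δ (n + 1)) x.asIdeal.ResidueField = 0 := by
    intro x
    have hU : IsOpen {y : PrimeSpectrum A | FlatCx.kdim (Φ.L.δ (n + 1)) y.asIdeal.ResidueField < 1} :=
      (Φ.L.kdim_δ_upperSemicontinuous Φ.finite Φ.flat (n + 1)).isOpen_preimage 1
    have hx := (IsLocalRing.specializes_closedPoint x).mem_open hU (show _ < 1 by rw [hc]; exact Nat.one_pos)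
    exact Nat.lt_one_iff.1 hx
  haveI : Module.Flat A (Φ.L.X (n + 1 + 1) ⧸ LinearMap.range (Φ.L.δ (n + 1))) :=
    flat_coker_of_kdim_eq_zero (Φ.L.δ (n + 1)) hall
  have hbot : LinearMap.ker (Φ.L.δ (n + 1)) = ⊥ := by
    haveI : Subsingleton (LinearMap.ker (Φ.L.δ (n + 1))) := Module.support_eq_empty_iff.1
      (Set.eq_empty_iff_forall_notMem.2 fun x => notMem_support_ker_of_kdim_eq_zero (Φ.L.δ (n + 1)) x (hall x))
    exact Submodule.eq_bot_of_subsingleton
  have hQ : Module.Flat A (Φ.L.X (n + 1) ⧸ Φ.L.bd (n + 1)) :=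
    Φ.L.flat_quot_step (n + 1) (Φ.flat _)
      (Module.Flat.of_linearEquiv (Submodule.quotEquivOfEq _ _ (Φ.L.range_δ (n + 1)).symm))
      (by rw [hbot]; infer_instance)
  haveI := (preservesEpi_iff_flat Φ.toModel n).2 hQ
  haveI : Epi (quotMap (I ^ (p + 1))) := (ModuleCat.epi_iff_surjective _).2 Ideal.Quotient.mk_surjective
  haveI : Epi ((CohIII.HAb X n).map ((CohIII.tensorAFunctor A F).map (quotMap (I ^ (p + 1))))) :=
    inferInstanceAs (Epi ((CohIII.tensorAFunctor A F ⋙ CohIII.HAb X n).map (quotMap (I ^ (p + 1)))))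
  obtain ⟨h, hh⟩ := exists_iso_modPow F I (p + 1)
  have he : Formal.modPowπ I (p + 1) F = ((tensorASelfIso A F).inv ≫
      (CohIII.tensorAFunctor A F).map (quotMap (I ^ (p + 1)))) ≫ h.inv := by
    rw [← hh, Category.assoc, Iso.hom_inv_id, Category.comp_id]
  have : Epi ((CohIII.HAb X n).map (Formal.modPowπ I (p + 1) F)) := by
    rw [he, Functor.map_comp, Functor.map_comp]
    infer_instance
  exact (AddCommGrpCat.epi_iff_surjective _).1 this

end Groth.Agent.BCLib
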