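import Groth.Agent.BCLib.Main
import Mathlib.Algebra.Category.ModuleCat.Products

/-!
# `M ↦ H^p(X, F ⊗ f^* M~)` commutes with products
-/

set_option autoImplicit false
set_option backward.isDefEq.respectTransparency false
set_option backward.defeqAttrib.useBackward true

universe u

open CategoryTheory CategoryTheory.Limits AlgebraicGeometry TopologicalSpace Opposite TensorProduct

noncomputable section

namespace Groth.Agent.BCLib

variable {A : Type u} [CommRing A]

theorem exists_dual_basis (P : Type u) [AddCommGroup P] [Module A P] [Module.Finite A P]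
    [Module.Projective A P] :
    ∃ (n : ℕ) (e : Fin n → P) (φ : Fin n → P →ₗ[A] A), ∀ x, ∑ i, φ i x • e i = x := by
  obtain ⟨n, f, g, -, -, hfg⟩ := Module.Finite.exists_comp_eq_id_of_projective A P
  refine ⟨n, fun i => f (Pi.single i 1), fun i => (LinearMap.proj i).comp g, fun x => ?_⟩
  have h := LinearMap.congr_fun hfg x
  rw [LinearMap.comp_apply, LinearMap.id_apply] at h
  conv_rhs => rw [← h, pi_eq_sum_univ' (g x), map_sum]
  simp

/-- Tensoring with a finite projective module commutes with products. -/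
theorem piRightHom_bijective_of_projective (P : Type u) [AddCommGroup P] [Module A P] [Module.Finite A P]
    [Module.Projective A P] {J : Type u} (M : J → Type u) [∀ j, AddCommGroup (M j)]
    [∀ j, Module A (M j)] :
    Function.Bijective fun (z : P ⊗[A] (Π j, M j)) (j : J) =>
      (LinearMap.proj j : (Π j, M j) →ₗ[A] M j).lTensor P z := by
  obtain ⟨n, e, φ, he⟩ := exists_dual_basis (A := A) P
  let c : ∀ (i : Fin n) (N : Type u) [AddCommGroup N] [Module A N], P ⊗[A] N →ₗ[A] N :=
    fun i N _ _ => (TensorProduct.lid A N).toLinearMap.comp ((φ i).rTensor N)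
  have hexp : ∀ (N : Type u) [AddCommGroup N] [Module A N] (z : P ⊗[A] N),
      ∑ i, e i ⊗ₜ[A] c i N z = z := fun N _ _ z => by
    induction z using TensorProduct.induction_on with
    | zero => simp
    | tmul x m =>
      conv_rhs => rw [← he x, TensorProduct.sum_tmul]
      refine Finset.sum_congr rfl fun i _ => ?_
      simp [c, TensorProduct.tmul_smul, TensorProduct.smul_tmul']
    | add a b ha hb => simp only [map_add, TensorProduct.tmul_add, Finset.sum_add_distrib, ha, hb]
  have hnat : ∀ (i : Fin n) (j : J) (z : P ⊗[A] (Π j, M j)),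
      c i (M j) ((LinearMap.proj j : (Π j, M j) →ₗ[A] M j).lTensor P z) = c i (Π j, M j) z j := by
    intro i j z
    induction z using TensorProduct.induction_on with
    | zero => simp
    | tmul x m => simp [c]
    | add a b ha hb => simp only [map_add, Pi.add_apply, ha, hb]
  refine ⟨fun z z' h => ?_, fun w => ⟨∑ i, e i ⊗ₜ[A] (fun j => c i (M j) (w j)), funext fun j => ?_⟩⟩
  · rw [← hexp _ z, ← hexp _ z']
    refine Finset.sum_congr rfl fun i _ => congrArg (e i ⊗ₜ[A] ·) (funext fun j => ?_)
    rw [← hnat, ← hnat]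
    exact congrArg (c i (M j)) (congrFun h j)
  · conv_rhs => rw [← hexp _ (w j)]
    simp [map_sum]

variable {X : Scheme.{u}} [X.Over (Spec (CommRingCat.of A))] {F : X.Modules}

/-- Cohomology of `F ⊗ f^* M~` commutes with products of modules, for any finite model. -/
theorem bijective_hh_pi [IsNoetherianRing A] (Φ : Model A X F) (p : ℕ) {J : Type u}
    (M : J → ModuleCat.{u} A) :
    Function.Bijective fun (x : Coh.HH X (tA A F (ModuleCat.of A (Π j, M j))) p) (j : J) =>
      Sheaf.H.map ((SheafOfModules.toSheaf X.ringCatSheaf).map ((CohIII.tensorAFunctor A F).map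
        (ModuleCat.ofHom (LinearMap.proj j : (Π j, M j) →ₗ[A] M j)))) p x := by
  haveI : ∀ q, Module.Finite A (Φ.L.X q) := Φ.finite
  haveI : ∀ q, Module.Flat A (Φ.L.X q) := Φ.flat
  haveI : ∀ q, Module.FinitePresentation A (Φ.L.X q) := fun q => Module.finitePresentation_of_finite A _
  haveI : ∀ q, Module.Projective A (Φ.L.X q) := fun q => Module.Flat.projective_of_finitePresentation
  have hb := fun q => piRightHom_bijective_of_projective (A := A) (Φ.L.X q) (fun j => (M j : Type u))
  let π : ∀ q (j : J), Φ.L.X q ⊗[A] (Π j, M j) →ₗ[A] Φ.L.X q ⊗[A] M j :=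
    fun q j => (LinearMap.proj j : (Π j, M j) →ₗ[A] M j).lTensor _
  have hd : ∀ q (j : J) (z : Φ.L.X q ⊗[A] (Π j, M j)),
      π (q + 1) j (Φ.L.dT _ q z) = Φ.L.dT (M j) q (π q j z) := fun q j z => by
    induction z using TensorProduct.induction_on with
    | zero => simp
    | tmul x m => simp [π, Cx.dT]
    | add a b ha hb => simp only [map_add, ha, hb]
  constructor
  · suffices h : ∀ x : Coh.HH X (tA A F (ModuleCat.of A (Π j, M j))) p, (∀ j,
        Sheaf.H.map ((SheafOfModules.toSheaf X.ringCatSheaf).map ((CohIII.tensorAFunctor A F).map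
          (ModuleCat.ofHom (LinearMap.proj j : (Π j, M j) →ₗ[A] M j)))) p x = 0) → x = 0 by
      intro x y hxy
      exact sub_eq_zero.mp (h _ fun j => (map_sub _ x y).trans (sub_eq_zero.mpr (congrFun hxy j)))
    intro x hx
    obtain ⟨z, rfl⟩ := Φ.ev_surjective (ModuleCat.of A (Π j, M j)) p x
    have hB : ∀ j, π p j z.1 ∈ Φ.L.B (M j) p := fun j => by
      have hz : π p j z.1 ∈ Φ.L.Z (M j) p := by
        rw [LinearMap.mem_ker, ← hd, show Φ.L.dT _ p z.1 = 0 from z.2, map_zero]
      refine (Φ.ev_eq_zero_iff (M j) p ⟨_, hz⟩).1 ?_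
      rw [← Φ.ev_natural (ModuleCat.ofHom (LinearMap.proj j : (Π j, M j) →ₗ[A] M j)) p z ⟨_, hz⟩ rfl]
      exact hx j
    refine (Φ.ev_eq_zero_iff _ p z).2 ?_
    cases p with
    | zero =>
      refine (Submodule.mem_bot A).2 ((hb 0).1 (funext fun j => ?_))
      exact ((Submodule.mem_bot A).1 (hB j)).trans (map_zero _).symm
    | succ m =>
      choose w hw using hB
      obtain ⟨w', hw'⟩ := (hb m).2 w
      refine ⟨w', (hb (m + 1)).1 (funext fun j => ?_)⟩
      exact (hd m j w').trans ((congrArg (Φ.L.dT (M j) m) (congrFun hw' j)).trans (hw j))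
  · intro y
    choose z hz using fun j => Φ.ev_surjective (M j) p (y j)
    obtain ⟨z', hz'⟩ := (hb p).2 fun j => (z j).1
    have hZ : z' ∈ Φ.L.Z (Π j, M j) p := by
      refine LinearMap.mem_ker.2 ((hb (p + 1)).1 (funext fun j => ?_))
      exact (hd p j z').trans ((congrArg (Φ.L.dT (M j) p) (congrFun hz' j)).trans
        ((z j).2.trans (map_zero _).symm))
    refine ⟨Φ.ev (ModuleCat.of A (Π j, M j)) p ⟨z', hZ⟩, funext fun j => ?_⟩
    rw [← hz j]
    exact Φ.ev_natural (ModuleCat.ofHom (LinearMap.proj j : (Π j, M j) →ₗ[A] M j)) p ⟨z', hZ⟩ (z j)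
      (congrFun hz' j).symm

/-- A fan of abelian groups with bijective comparison map is limiting. -/
def isLimitFanOfBijective {J : Type u} {f : J → AddCommGrpCat.{u}} (t : Fan f)
    (h : Function.Bijective fun (x : t.pt) (j : J) => (t.proj j).hom x) : IsLimit t := by
  let e : t.pt ≃+ (Π j, f j) :=
    AddEquiv.ofBijective (AddMonoidHom.mk' (fun x j => (t.proj j).hom x)
      fun a b => funext fun j => map_add _ a b) h
  refine Fan.IsLimit.mk t (fun s => AddCommGrpCat.ofHom (e.symm.toAddMonoidHom.comp
    (AddMonoidHom.mk' (fun x j => (s.proj j).hom x) fun a b => funext fun j => map_add _ a b))) ?_ ?_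
  · intro s j
    ext x
    exact congrFun (e.apply_symm_apply (fun j => (s.proj j).hom x)) j
  · intro s m hm
    ext x
    refine (e.symm_apply_apply _).symm.trans (congrArg e.symm ?_)
    funext j
    exact ConcreteCategory.congr_hom (hm j) x

/-- `M ↦ H^p(X, F ⊗ f^* M~)` commutes with products. -/
theorem preservesLimitsOfShape_discrete [IsNoetherianRing A] [IsProper (X ↘ Spec (CommRingCat.of A))]
    (hF : Coh.IsCoh F) (hfl : FlatMod.IsFlatOver (X ↘ Spec (CommRingCat.of A)) F) (p : ℕ) (J : Type u) :
    PreservesLimitsOfShape (Discrete J) (CohIII.tensorAFunctor A F ⋙ CohIII.HAb X p) := by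
  obtain ⟨Φ⟩ := nonempty_model hF hfl
  refine ⟨fun {K} => ?_⟩
  let M : J → ModuleCat.{u} A := K.obj ∘ Discrete.mk
  haveI : PreservesLimit (Discrete.functor M) (CohIII.tensorAFunctor A F ⋙ CohIII.HAb X p) :=
    preservesLimit_of_preserves_limit_cone (ModuleCat.productConeIsLimit M)
      ((isLimitMapConeFanMkEquiv _ M _).symm (isLimitFanOfBijective _ (bijective_hh_pi Φ p M)))
  exact preservesLimit_of_iso_diagram _ (Discrete.natIsoFunctor (F := K)).symm

end Groth.Agent.BCLib
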