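import Groth.Agent.BCLib.TensorFun
import Groth.Agent.FormalLib.Compare
import Groth.Agent.QCohLib.FiniteType
import Groth.Agent.FlatCx.Functor

/-!
# Sections of `F ⊗ f^* M~` on affine opens

`M ↦ Γ(W, F ⊗ f^* M~)` is `Γ(W, F ⊗ f^* A~) ⊗_A M`, with a flat first factor when `F` is flat.
-/

set_option autoImplicit false
set_option backward.isDefEq.respectTransparency false
set_option backward.defeqAttrib.useBackward true
set_option linter.style.haveILetI false

universe u

open CategoryTheory CategoryTheory.Limits AlgebraicGeometry TopologicalSpace Opposite TensorProduct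
open Groth.Agent.ProjCoh Groth.Agent.FormalLib

noncomputable section

namespace Groth.Agent.BCLib

section Restrict

variable {X : Scheme.{u}} {J : Type u} [SmallCategory J]

/-- Sections on an affine open of the restrictions to its spectrum. -/
def restrictTopFun {B : CommRingCat.{u}} (j : Spec B ⟶ X) [IsOpenImmersion j] :
    X.Modules ⥤ ModuleCat.{u} B :=
  Scheme.Modules.restrictFunctor j ⋙ moduleSpecΓFunctor

theorem preservesColimitsOfShape_restrictTop {C : Type*} [Category C] {B : CommRingCat.{u}}
    (j : Spec B ⟶ X) [IsOpenImmersion j] (G : C ⥤ X.Modules) [PreservesColimitsOfShape J G]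
    (hq : ∀ c, Coh.IsQCoh (G.obj c)) : PreservesColimitsOfShape J (G ⋙ restrictTopFun j) := by
  haveI : PreservesColimitsOfSize.{u, u} (Scheme.Modules.restrictFunctor j) :=
    (Scheme.Modules.restrictAdjunction j).leftAdjoint_preservesColimits
  let Ψ := G ⋙ Scheme.Modules.restrictFunctor j
  have hiso : ∀ c, IsIso ((Ψ.obj c).fromTildeΓ) := fun c => by
    haveI := hq c
    haveI : Coh.IsQCoh (Ψ.obj c) :=
      DCohLib.isQCoh_of_iso' ((Scheme.Modules.restrictFunctorIsoPullback j).app _).symm
        (PullbackMod.isQCoh_pullback j (G.obj c))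
    haveI : (Ψ.obj c).IsQuasicoherent := ‹Coh.IsQCoh (Ψ.obj c)›
    exact Scheme.Modules.isIso_fromTildeΓ_of_isQuasicoherent _
  let α : (G ⋙ restrictTopFun j) ⋙ tilde.functor B ≅ Ψ :=
    NatIso.ofComponents (fun c => @asIso _ _ _ _ _ (hiso c))
      fun f => Scheme.Modules.fromTildeΓNatTrans.naturality ((Scheme.Modules.restrictFunctor j).map (G.map f))
  haveI : PreservesColimitsOfShape J ((G ⋙ restrictTopFun j) ⋙ tilde.functor B) :=
    preservesColimitsOfShape_of_natIso α.symm
  haveI : (tilde.functor B).Full := tilde.adjunction.fullyFaithfulLOfIsIsoUnit.full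
  haveI : (tilde.functor B).Faithful := tilde.adjunction.fullyFaithfulLOfIsIsoUnit.faithful
  exact preservesColimitsOfShape_of_reflects_of_preserves (G ⋙ restrictTopFun j) (tilde.functor B)

end Restrict

variable {A : Type u} [CommRing A] {X : Scheme.{u}} [X.Over (Spec (CommRingCat.of A))]
variable (A) (F : X.Modules) (W : X.Opens)

/-- `M ↦ Γ(W, F ⊗ f^* M~)`, in `A`-modules. -/
def secFun : ModuleCat.{u} A ⥤ ModuleCat.{u} A where
  obj M := ModuleCat.of A (Sec (cst A X) ((CohIII.tensorAFunctor A F).obj M) W)
  map f := ModuleCat.ofHom (secMap (cst A X) ((CohIII.tensorAFunctor A F).map f) W)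
  map_id M := ModuleCat.hom_ext (LinearMap.ext fun s =>
    congr($((CohIII.tensorAFunctor A F).map_id M).app W s))
  map_comp f g := ModuleCat.hom_ext (LinearMap.ext fun s =>
    congr($((CohIII.tensorAFunctor A F).map_comp f g).app W s))

theorem secFun_map_apply {M N : ModuleCat.{u} A} (f : M ⟶ N) (s : (secFun A F W).obj M) :
    ((secFun A F W).map f).hom s = ((CohIII.tensorAFunctor A F).map f).app W s := rfl

instance additive_secFun : (secFun A F W).Additive :=
  ⟨fun {M N f g} => ModuleCat.hom_ext (LinearMap.ext fun s =>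
    (congr($((CohIII.tensorAFunctor A F).map_add (f := f) (g := g)).app W s)).trans rfl)⟩

instance linear_secFun : Functor.Linear A (secFun A F W) :=
  ⟨fun {M N} f a => ModuleCat.hom_ext (LinearMap.ext fun s => by
    show ((CohIII.tensorAFunctor A F).map (a • f)).app W s = _
    rw [tensorAFunctor_map_smul]
    exact smulMod_app _ a _)⟩

variable {A F W}

theorem preservesMono_secFun (hF : FlatMod.IsFlatOver (X ↘ Spec (CommRingCat.of A)) F)
    {M N : ModuleCat.{u} A} (f : M ⟶ N) [Mono f] : Function.Injective ((secFun A F W).map f).hom := by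
  haveI := mono_tensorAFunctor_map F hF f
  haveI : Mono (((CohIII.tensorAFunctor A F).map f).mapPresheaf) :=
    inferInstanceAs (Mono ((Scheme.Modules.toPresheaf X).map _))
  exact (AddCommGrpCat.mono_iff_injective _).1
    (inferInstanceAs (Mono ((((CohIII.tensorAFunctor A F).map f).mapPresheaf).app (op W))))

variable (hq : Coh.IsQCoh F) (hW : IsAffineOpen W)

include hq hW in
theorem preservesColimitsOfSize_secFun : PreservesColimitsOfSize.{u, u} (secFun A F W) := by
  haveI := hq
  refine ⟨fun {J} _ => ?_⟩
  haveI : PreservesColimitsOfShape J (CohIII.tensorAFunctor A F ⋙ restrictTopFun hW.fromSpec) :=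
    preservesColimitsOfShape_restrictTop hW.fromSpec _ fun M => isQCoh_tensorAFunctor_obj F M
  let e : secFun A F W ⋙ forget₂ (ModuleCat.{u} A) AddCommGrpCat.{u} ≅
      (CohIII.tensorAFunctor A F ⋙ restrictTopFun hW.fromSpec) ⋙
        forget₂ (ModuleCat.{u} Γ(X, W)) AddCommGrpCat.{u} :=
    (NatIso.ofComponents
      (fun M => show (forget₂ (ModuleCat.{u} Γ(X, W)) AddCommGrpCat.{u}).obj
          ((restrictTopFun hW.fromSpec).obj ((CohIII.tensorAFunctor A F).obj M)) ≅
          (forget₂ (ModuleCat.{u} A) AddCommGrpCat.{u}).obj ((secFun A F W).obj M) from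
        AddEquiv.toAddCommGrpIso (X := AddCommGrpCat.of _) (Y := AddCommGrpCat.of _)
          (QCohLib.topEquiv ((CohIII.tensorAFunctor A F).obj M) hW).toAddEquiv)
      fun {M N} f => by
        ext s
        exact (NatTrans.naturality_apply ((CohIII.tensorAFunctor A F).map f).mapPresheaf
          (homOfLE (hW.fromSpec.image_top_eq_opensRange.trans hW.opensRange_fromSpec).ge).op s).symm).symm
  haveI : PreservesColimitsOfShape J (secFun A F W ⋙ forget₂ (ModuleCat.{u} A) AddCommGrpCat.{u}) :=
    preservesColimitsOfShape_of_natIso e.symm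
  exact preservesColimitsOfShape_of_reflects_of_preserves (secFun A F W)
    (forget₂ (ModuleCat.{u} A) AddCommGrpCat.{u})

include hq hW in
/-- `Γ(W, F ⊗ f^* A~) ⊗ M = Γ(W, F ⊗ f^* M~)`. -/
theorem tMap_secFun_bijective (M : ModuleCat.{u} A) :
    Function.Bijective (FlatCx.tMap (secFun A F W) M) := by
  haveI := preservesColimitsOfSize_secFun (A := A) hq hW
  haveI : ∀ J : Type u, PreservesColimitsOfShape (Discrete J) (secFun A F W) := fun J => inferInstance
  haveI : PreservesColimitsOfSize.{0, 0} (secFun A F W) := preservesColimitsOfSize_shrink _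
  haveI : PreservesFiniteColimits (secFun A F W) := PreservesColimitsOfSize.preservesFiniteColimits _
  exact FlatCx.tMap_bijective_of_rightExact _ M

include hq hW in
theorem flat_secFun (hF : FlatMod.IsFlatOver (X ↘ Spec (CommRingCat.of A)) F) :
    Module.Flat A ((secFun A F W).obj (ModuleCat.of A A)) := by
  rw [Module.Flat.iff_lTensor_preserves_injective_linearMap]
  intro M N _ _ _ _ f hf z z' h
  haveI : Mono (ModuleCat.ofHom f) := (ModuleCat.mono_iff_injective _).2 hf
  apply (tMap_secFun_bijective (A := A) hq hW (ModuleCat.of A M)).1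
  apply preservesMono_secFun hF (ModuleCat.ofHom f)
  rw [FlatCx.tMap_naturality, FlatCx.tMap_naturality]
  exact congrArg _ h

end Groth.Agent.BCLib
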